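import Cfsg.Agent.H516.OddFrame
import Cfsg.Agent.H500.NB.J3

/-!
# S4094-S4096: the odd row of `J₃` (helper305)

* `cent_three` : `|C(x)| = 1080` or `|C(x)| ∣ 243` for the elements `x` of order 3;
* `exists_384`, `exists_320` : subgroups of these orders (in an involution centralizer `2^{1+4}.A₅`).
-/

set_option autoImplicit false
set_option linter.style.haveILetI false
set_option linter.unusedSectionVars false

namespace Cfsg.Agent.H305.OddJ3

open Subgroup Cfsg Cfsg.Agent.H516 Cfsg.Agent.J3Type.OneClass Cfsg.Agent.J2Type.Model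
open Cfsg.Agent.KFacts.QMinus

universe u

theorem no15 : ∀ σ : Equiv.Perm (Fin 6), σ ^ 15 = 1 → σ ^ 3 = 1 ∨ σ ^ 5 = 1 := by
  intro σ hσ
  have hord : orderOf σ ∣ 15 := orderOf_dvd_of_pow_eq_one hσ
  have hsum : σ.cycleType.sum ≤ 6 := by
    rw [σ.sum_cycleType]
    exact (Finset.card_le_univ _).trans (by simp)
  have hd : ∀ n ∈ σ.cycleType, n ∣ 15 := fun n hn => (Equiv.Perm.dvd_of_mem_cycleType hn).trans hord
  have hle : ∀ n ∈ σ.cycleType, n ≤ 6 := fun n hn =>
    (Multiset.single_le_sum (fun x _ => Nat.zero_le x) n hn).trans hsum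
  have h2 : ∀ n ∈ σ.cycleType, 2 ≤ n := fun n hn => Equiv.Perm.two_le_of_mem_cycleType hn
  by_cases h5 : (5 : ℕ) ∈ σ.cycleType
  · right
    obtain ⟨s, hs⟩ := Multiset.exists_cons_of_mem h5
    have hs1 : s.sum ≤ 1 := by
      rw [hs, Multiset.sum_cons] at hsum
      omega
    have hs0 : s = 0 := by
      by_contra hne
      obtain ⟨a, ha⟩ := Multiset.exists_mem_of_ne_zero hne
      have h3 := h2 a (by rw [hs]; exact Multiset.mem_cons_of_mem ha)
      have h4 := Multiset.single_le_sum (fun x _ => Nat.zero_le x) a ha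
      omega
    rw [← orderOf_dvd_iff_pow_eq_one, ← Equiv.Perm.lcm_cycleType, hs, hs0]
    simp
  · left
    rw [← orderOf_dvd_iff_pow_eq_one, ← Equiv.Perm.lcm_cycleType, Multiset.lcm_dvd]
    intro b hb
    have h3 := hd b hb
    have h4 := hle b hb
    have h6 := h2 b hb
    have h7 : b ≠ 5 := fun h => h5 (h ▸ hb)
    interval_cases b <;> omega

/-- no commuting elements of orders 3 and 5 in a simple group of order 360 -/
theorem not_comm_360 {X : Type u} [Group X] [Finite X] [IsSimpleGroup X] (hX : Nat.card X = 360) {x y : X} (hx : orderOf x = 3)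
    (hy : orderOf y = 5) (hxy : x * y = y * x) : False := by
  obtain ⟨e⟩ := Cfsg.Agent.S0497.result hX
  have h1 : orderOf (x * y) = 15 := by
    rw [(show Commute x y from hxy).orderOf_mul_eq_mul_orderOf_of_coprime (by rw [hx, hy]; norm_num), hx, hy]
  have h2 : orderOf ((e (x * y) : alternatingGroup (Fin 6)) : Equiv.Perm (Fin 6)) = 15 := by
    rw [Subgroup.orderOf_coe, ← h1]
    exact orderOf_injective e.toMonoidHom e.injective _
  rcases no15 _ (by rw [← h2]; exact pow_orderOf_eq_one _) with h3 | h3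
  · have := orderOf_dvd_of_pow_eq_one h3
    rw [h2] at this
    norm_num at this
  · have := orderOf_dvd_of_pow_eq_one h3
    rw [h2] at this
    norm_num at this

section

variable {K : Type u} [Group K]

/-- an element of order 3 commuting with an element of order 5 commutes with an involution -/
theorem even_of_five [Finite K] (h : Spor.IsoJ3 K) {x y : K} (hx : orderOf x = 3) (hy : orderOf y = 5) (hxy : x * y = y * x) :
    ∃ t : K, orderOf t = 2 ∧ t * x = x * t := by
  obtain ⟨hcard, hM, hone, -⟩ := CpAutJThree.base h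
  have h5 : Fact (Nat.Prime 5) := ⟨by norm_num⟩
  have h2 : Fact (Nat.Prime 2) := ⟨by norm_num⟩
  obtain ⟨c0, hc0, ⟨s, hs, hsc⟩, hc0c⟩ := CpAutJThree.exc h
  have key : ∀ w : K, 5 ∣ Nat.card ↥(centralizer ({w} : Set K)) → ∃ g : K, (g * w * g⁻¹) * y = y * (g * w * g⁻¹) := by
    intro w hw
    obtain ⟨z, hz⟩ := exists_prime_orderOf_dvd_card' 5 hw
    have hz' : orderOf (z : K) = 5 := by rw [← hz]; exact Subgroup.orderOf_coe z
    obtain ⟨g, k, hk⟩ := H500.NB.conj_zpowers hcard hy hz'
    refine ⟨g, ?_⟩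
    have hk' : (g * (z : K) * g⁻¹) ^ k = y := hk
    have h1 : Commute (g * w * g⁻¹) (g * (z : K) * g⁻¹) := by
      have h3 := mem_centralizer_singleton_iff.1 z.2
      show (g * w * g⁻¹) * (g * (z : K) * g⁻¹) = (g * (z : K) * g⁻¹) * (g * w * g⁻¹)
      calc (g * w * g⁻¹) * (g * (z : K) * g⁻¹) = g * (w * z) * g⁻¹ := by group
        _ = g * (z * w) * g⁻¹ := by rw [h3]
        _ = _ := by group
    rw [← hk']
    exact (h1.zpow_right k).eq
  obtain ⟨g, hg⟩ := key s (by rw [(hM s hs).2.1]; norm_num)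
  obtain ⟨g', hg'⟩ := key c0 (by rw [hc0c]; norm_num)
  set t := g * s * g⁻¹ with ht
  set c := g' * c0 * g'⁻¹ with hc
  have ht2 : orderOf t = 2 := by
    rw [← hs]
    exact orderOf_injective (MulAut.conj g).toMonoidHom (MulAut.conj g).injective s
  have hc3 : orderOf c = 3 := by
    rw [← hc0]
    exact orderOf_injective (MulAut.conj g').toMonoidHom (MulAut.conj g').injective c0
  obtain ⟨-, hC, Q, v, ρ, M⟩ := hM t ht2
  have hyt : y ∈ centralizer ({t} : Set K) := mem_centralizer_singleton_iff.2 hg.symm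
  have h10 := J2Type.COdd.card_cent_five M hC (c := ⟨y, hyt⟩) (by rw [orderOf_mk]; exact hy)
  have memY : ∀ a : K, a ∈ centralizer ({y} : Set K) ↔ a * y = y * a := fun a => mem_centralizer_singleton_iff
  have memT : ∀ a : K, a ∈ centralizer ({t} : Set K) ↔ a * t = t * a := fun a => mem_centralizer_singleton_iff
  have hcd : Nat.card ↥(centralizer ({(⟨t, (memY t).2 hg⟩ : centralizer ({y} : Set K))} :
      Set (centralizer ({y} : Set K)))) = 10 := by
    rw [← h10]
    refine Nat.card_congr ⟨fun a => ⟨⟨a.1.1, ?_⟩, ?_⟩, fun a => ⟨⟨a.1.1, ?_⟩, ?_⟩, fun a => rfl, fun a => rfl⟩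
    · exact (memT _).2 (congrArg Subtype.val (mem_centralizer_singleton_iff.1 a.2))
    · exact Subtype.ext ((memY _).1 a.1.2)
    · exact (memY _).2 (congrArg Subtype.val a.2)
    · exact mem_centralizer_singleton_iff.2 (Subtype.ext ((memT _).1 a.1.2))
  have h3 := H500.NB.comm_of_ten (D := centralizer ({y} : Set K)) (y := ⟨y, (memY y).2 rfl⟩) (t := ⟨t, (memY t).2 hg⟩)
    (x := ⟨x, (memY x).2 hxy⟩) (c := ⟨c, (memY c).2 hg'⟩) (by rw [orderOf_mk]; exact hy)
    (fun d => Subtype.ext ((memY _).1 d.2)) (by rw [orderOf_mk]; exact ht2) hcd (by rw [orderOf_mk]; exact hx)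
    (by rw [orderOf_mk]; exact hc3)
  have hxc : x * c = c * x := congrArg Subtype.val h3
  -- `t'` commutes with `c`
  set t' := g' * s * g'⁻¹ with ht'
  have ht'2 : orderOf t' = 2 := by
    rw [← hs]
    exact orderOf_injective (MulAut.conj g').toMonoidHom (MulAut.conj g').injective s
  have htc : t' * c = c * t' := by
    calc g' * s * g'⁻¹ * (g' * c0 * g'⁻¹) = g' * (s * c0) * g'⁻¹ := by group
      _ = g' * (c0 * s) * g'⁻¹ := by rw [hsc]
      _ = g' * c0 * g'⁻¹ * (g' * s * g'⁻¹) := by group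
  -- the quotient of `C(c)`
  have memC : ∀ a : K, a ∈ centralizer ({c} : Set K) ↔ a * c = c * a := fun a => mem_centralizer_singleton_iff
  have hCc : Nat.card ↥(centralizer ({c} : Set K)) = 1080 := by
    rw [← CpAutJThree.card_centralizer_conj g' (a := c0) (b := c) rfl]; exact hc0c
  let d : centralizer ({c} : Set K) := ⟨c, (memC c).2 rfl⟩
  have hd3 : orderOf d = 3 := by rw [← hc3]; exact orderOf_mk _ _
  have hdd : ∀ a : centralizer ({c} : Set K), a * d = d * a := fun a => Subtype.ext ((memC a).1 a.2)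
  have hZn : (zpowers d).Normal := by
    constructor
    rintro n ⟨k, rfl⟩ g
    refine ⟨k, ?_⟩
    have h1 : Commute g d := hdd g
    have := h1.zpow_right k
    show d ^ k = g * d ^ k * g⁻¹
    rw [this.eq]; group
  have hHD8 := J3Type.Extra.hd8_quotient d hd3 hdd (CpAutJThree.hD_of_model hM hc3)
  have hq : Nat.card (↥(centralizer ({c} : Set K)) ⧸ zpowers d) = 360 := by
    have := card_eq_card_quotient_mul_card_subgroup (zpowers d)
    rw [hCc, Nat.card_zpowers, hd3] at this
    omega
  obtain ⟨s', hs'⟩ := exists_prime_orderOf_dvd_card' (G := ↥(centralizer ({c} : Set K)) ⧸ zpowers d) 2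
    (by rw [hq]; norm_num)
  have hsim := J3Type.Extra.isSimple hHD8 hs'
  set X : centralizer ({c} : Set K) := ⟨x, (memC x).2 hxc⟩ with hX
  set Y : centralizer ({c} : Set K) := ⟨y, (memC y).2 hg'.symm⟩ with hY
  have hXo : orderOf X = 3 := by rw [← hx]; exact orderOf_mk _ _
  have hYo : orderOf Y = 5 := by rw [← hy]; exact orderOf_mk _ _
  by_cases hXd : X ∈ zpowers d
  · obtain ⟨k, hk⟩ := hXd
    have h3 : c ^ k = x := by
      have := congrArg Subtype.val hk
      simpa [d, X] using this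
    refine ⟨t', ht'2, ?_⟩
    have h4 : Commute t' c := htc
    rw [← h3]
    exact (h4.zpow_right k).eq
  · exfalso
    let π := QuotientGroup.mk' (zpowers d)
    have ho : ∀ {w : centralizer ({c} : Set K)} {q : ℕ}, q.Prime → orderOf w = q → w ∉ zpowers d → orderOf (π w) = q := by
      intro w q hq' hw hwd
      have h1 : orderOf (π w) ∣ q := by rw [← hw]; exact orderOf_map_dvd π w
      rcases (Nat.dvd_prime hq').1 h1 with h2 | h2
      · exact absurd ((QuotientGroup.eq_one_iff _).1 (orderOf_eq_one_iff.1 h2)) hwd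
      · exact h2
    have hYd : Y ∉ zpowers d := by
      intro hYd
      have h1 := Subgroup.orderOf_dvd_natCard (zpowers d) hYd
      rw [hYo, Nat.card_zpowers, hd3] at h1
      norm_num at h1
    refine not_comm_360 hq (ho (by norm_num) hXo hXd) (ho (by norm_num) hYo hYd) ?_
    rw [← map_mul, ← map_mul]
    congr 1
    exact Subtype.ext hxy

/-- **the centralizers of the elements of order 3** -/
theorem cent_three [Finite K] (h : Spor.IsoJ3 K) {x : K} (hx : orderOf x = 3) :
    Nat.card ↥(centralizer ({x} : Set K)) = 1080 ∨ Nat.card ↥(centralizer ({x} : Set K)) ∣ 3 ^ 5 := by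
  obtain ⟨hcard, hM, hone, -⟩ := CpAutJThree.base h
  have memC : ∀ a : K, a ∈ centralizer ({x} : Set K) ↔ a * x = x * a := fun a => mem_centralizer_singleton_iff
  have hinv : (∃ t : K, orderOf t = 2 ∧ t * x = x * t) → Nat.card ↥(centralizer ({x} : Set K)) = 1080 := by
    rintro ⟨t, ht, htx⟩
    obtain ⟨c0, hc0, ⟨s, hs, hsc⟩, hc0c⟩ := CpAutJThree.exc h
    obtain ⟨g, hg⟩ := CpAutJThree.conj_three hM hone hc0 hx hs ht hsc htx
    rw [← CpAutJThree.card_centralizer_conj g hg]
    exact hc0c
  by_cases hex : ∃ t : K, orderOf t = 2 ∧ t * x = x * t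
  · exact Or.inl (hinv hex)
  right
  have hno : ∀ p : ℕ, p.Prime → p ∣ Nat.card ↥(centralizer ({x} : Set K)) → ∃ y : K, orderOf y = p ∧ x * y = y * x := by
    intro p hp hd
    have : Fact p.Prime := ⟨hp⟩
    obtain ⟨y, hy⟩ := exists_prime_orderOf_dvd_card' p hd
    exact ⟨y, by rw [← hy]; exact Subgroup.orderOf_coe y, ((memC y).1 y.2).symm⟩
  have h2 : Odd (Nat.card ↥(centralizer ({x} : Set K))) := by
    by_contra hcon
    rw [Nat.not_odd_iff_even, even_iff_two_dvd] at hcon
    obtain ⟨y, hy, hxy⟩ := hno 2 (by norm_num) hcon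
    exact hex ⟨y, hy, hxy.symm⟩
  have h17 : ¬ 17 ∣ Nat.card ↥(centralizer ({x} : Set K)) := by
    intro hd
    obtain ⟨y, hy, hxy⟩ := hno 17 (by norm_num) hd
    have h1 := (H898.J3Cent.seventeen h hy).1
    have h4 : orderOf x ∣ 17 := by
      rw [← h1]
      have := orderOf_dvd_natCard (⟨x, mem_centralizer_singleton_iff.2 hxy⟩ : ↥(centralizer ({y} : Set K)))
      rwa [Subgroup.orderOf_mk] at this
    rw [hx] at h4
    omega
  have h19 : ¬ 19 ∣ Nat.card ↥(centralizer ({x} : Set K)) := by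
    intro hd
    obtain ⟨y, hy, hxy⟩ := hno 19 (by norm_num) hd
    have h1 := H898.J3Cent.card_nineteen h hy
    have h4 : orderOf x ∣ 19 := by
      rw [← h1]
      have := orderOf_dvd_natCard (⟨x, mem_centralizer_singleton_iff.2 hxy⟩ : ↥(centralizer ({y} : Set K)))
      rwa [Subgroup.orderOf_mk] at this
    rw [hx] at h4
    omega
  have h5 : ¬ 5 ∣ Nat.card ↥(centralizer ({x} : Set K)) := by
    intro hd
    obtain ⟨y, hy, hxy⟩ := hno 5 (by norm_num) hd
    exact hex (even_of_five h hx hy hxy)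
  exact H500.NB.dvd_five (hcard ▸ card_subgroup_dvd_card _) h2 h5 h17 h19

end

/-! ### subgroups of orders 384 and 320 -/

theorem card_stab : Nat.card {g : alternatingGroup (Fin 5) // (g : Equiv.Perm (Fin 5)) 0 = 0} = 12 := by
  rw [Nat.card_eq_fintype_card]
  decide +kernel

theorem exists_twelve : ∃ D : Subgroup (alternatingGroup (Fin 5)), Nat.card D = 12 := by
  refine ⟨MulAction.stabilizer _ (0 : Fin 5), ?_⟩
  rw [← card_stab]
  exact Nat.card_congr (Equiv.subtypeEquivRight fun g => Iff.rfl)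

theorem exists_ten : ∃ D : Subgroup (alternatingGroup (Fin 5)), Nat.card D = 10 := by
  have hs : IsSimpleGroup (alternatingGroup (Fin 5)) := alternatingGroup.isSimpleGroup_five
  have h5 : Fact (Nat.Prime 5) := ⟨by norm_num⟩
  obtain ⟨P⟩ : Nonempty (Sylow 5 (alternatingGroup (Fin 5))) := inferInstance
  have hP : Nat.card (P : Subgroup (alternatingGroup (Fin 5))) = 5 := by
    obtain ⟨n, hn⟩ := IsPGroup.iff_card.1 P.isPGroup'
    have h1 : Nat.card (P : Subgroup (alternatingGroup (Fin 5))) ∣ 60 := card_A5 ▸ card_subgroup_dvd_card _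
    have h2 : 5 ^ 1 ∣ Nat.card (P : Subgroup (alternatingGroup (Fin 5))) :=
      P.pow_dvd_card_of_pow_dvd_card (n := 1) (by rw [card_A5]; norm_num)
    rw [hn] at h1 h2
    have h3 : n ≤ 1 := by
      by_contra hcon
      push Not at hcon
      have h4 := (pow_dvd_pow 5 hcon).trans h1
      norm_num at h4
    have h4 : 1 ≤ n := (Nat.pow_dvd_pow_iff_le_right (by norm_num)).1 h2
    have h5 : n = 1 := le_antisymm h3 h4
    rw [hn, h5, pow_one]
  set N := normalizer ((P : Subgroup (alternatingGroup (Fin 5))) : Set (alternatingGroup (Fin 5))) with hN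
  have h1 : Nat.card N * N.index = 60 := by rw [Subgroup.card_mul_index, card_A5]
  have h2 : N.index ≡ 1 [MOD 5] := by
    have := card_sylow_modEq_one 5 (alternatingGroup (Fin 5))
    rwa [P.card_eq_index_normalizer] at this
  have h3 : N ≠ ⊤ := by
    intro h3
    have hPn : (P : Subgroup (alternatingGroup (Fin 5))).Normal := Subgroup.normalizer_eq_top_iff.1 h3
    rcases hPn.eq_bot_or_eq_top with h4 | h4
    · rw [h4, card_bot] at hP
      norm_num at hP
    · rw [h4, card_top, card_A5] at hP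
      norm_num at hP
  have h4 : N.index ≠ 1 := fun h => h3 (Subgroup.index_eq_one.1 h)
  have h5 : 5 ∣ Nat.card N := by
    have h6 := Subgroup.card_dvd_of_le (Subgroup.le_normalizer (H := (P : Subgroup (alternatingGroup (Fin 5)))))
    rwa [hP] at h6
  refine ⟨N, ?_⟩
  obtain ⟨k, hk⟩ := h5
  rw [hk] at h1 ⊢
  have h6 : k * N.index = 12 := by nlinarith
  have h7 : N.index ∣ 12 := ⟨k, by rw [← h6, mul_comm]⟩
  have h8 : N.index ∈ Nat.divisors 12 := Nat.mem_divisors.2 ⟨h7, by norm_num⟩
  have h9 : ∀ i ∈ Nat.divisors 12, i ≡ 1 [MOD 5] → i ≠ 1 → i = 6 := by decide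
  have h10 := h9 _ h8 h2 h4
  rw [h10] at h6
  omega

/-- subgroups of an involution centralizer -/
theorem exists_sub {K : Type u} [Group K] [Finite K] (h : Spor.IsoJ3 K) (D : Subgroup (alternatingGroup (Fin 5))) :
    ∃ H : Subgroup K, Nat.card H = 32 * Nat.card D := by
  obtain ⟨hcard, hM, hone, -⟩ := CpAutJThree.base h
  have h2 : Fact (Nat.Prime 2) := ⟨by norm_num⟩
  obtain ⟨t, ht⟩ := exists_prime_orderOf_dvd_card' (G := K) 2 (by rw [hcard]; norm_num)
  obtain ⟨-, hC, Q, v, ρ, M⟩ := hM t ht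
  have hr := range_permHom M
  let f : centralizer ({t} : Set K) →* alternatingGroup (Fin 5) :=
    (permHom ρ).codRestrict (alternatingGroup (Fin 5)) fun c => by
      rw [← hr]; exact ⟨c, rfl⟩
  have hf : Function.Surjective f := by
    rintro ⟨σ, hσ⟩
    rw [← hr] at hσ
    obtain ⟨c, hc⟩ := hσ
    exact ⟨c, Subtype.ext hc⟩
  refine ⟨(D.comap f).map (centralizer ({t} : Set K)).subtype, ?_⟩
  rw [Subgroup.card_map_of_injective (subtype_injective _)]
  have h3 := Subgroup.card_mul_index (D.comap f)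
  rw [Subgroup.index_comap_of_surjective D hf, hC] at h3
  have h4 := Subgroup.card_mul_index D
  rw [card_A5] at h4
  have h5 : 0 < D.index := Nat.pos_of_ne_zero fun h => by rw [h, mul_zero] at h4; omega
  refine Nat.eq_of_mul_eq_mul_right h5 ?_
  rw [h3, mul_assoc, h4]
  norm_num

/-- a large `p'`-subgroup -/
theorem exists_large {K : Type u} [Group K] [Finite K] (h : Spor.IsoJ3 K) {p : ℕ} (hp : p.Prime) (hp2 : p ≠ 2) :
    ∃ H : Subgroup K, ¬ p ∣ Nat.card H ∧ 320 ≤ Nat.card H := by
  by_cases h5 : p = 5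
  · subst h5
    obtain ⟨D, hD⟩ := exists_twelve
    obtain ⟨H, hH⟩ := exists_sub h D
    rw [hD] at hH
    refine ⟨H, by rw [hH]; norm_num, by rw [hH]; norm_num⟩
  · obtain ⟨D, hD⟩ := exists_ten
    obtain ⟨H, hH⟩ := exists_sub h D
    rw [hD] at hH
    refine ⟨H, ?_, by rw [hH]⟩
    rw [hH, show 32 * 10 = 2 ^ 6 * 5 by norm_num]
    intro hd
    rcases hp.dvd_mul.1 hd with h1 | h1
    · exact hp2 ((Nat.prime_dvd_prime_iff_eq hp Nat.prime_two).1 (hp.dvd_of_dvd_pow h1))
    · exact h5 ((Nat.prime_dvd_prime_iff_eq hp Nat.prime_five).1 h1)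

/-- **The odd row of `J₃`.** -/
theorem row {L : Type u} [Group L] [Finite L] (h : Spor.IsoJ3 L) {p : ℕ} {a : MulAut L} {b : L}
    (S : Cfsg.Agent.H516.Sit p a b) : False := by
  have hN : Nat.card L = 50232960 := (CpAutJThree.base h).1
  obtain ⟨Q, hQ, hQ'⟩ := exists_large h S.prime S.ne_two
  have hd : orderOf b ∣ 50232960 := hN ▸ orderOf_dvd_natCard b
  rcases H898.J3Cent.prime_dvd_card S.bprime hd with h1 | h1 | h1 | h1 | h1
  · exact S.b_ne_two h1
  · rcases cent_three h h1 with h2 | h2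
    · exact S.false_of_dvd' hQ (j := 3) (m := 135) (by rw [h2]; norm_num) (by norm_num) (by omega)
    · exact S.false_of_dvd' hQ (j := 0) (m := 243) (by simpa using h2) (by norm_num) (by omega)
  · -- the order 5
    have h3 : Nat.card (fixedSubgroup a) ∣ 2 ^ 7 * 392445 := by
      have := Subgroup.card_subgroup_dvd_card (fixedSubgroup a)
      rwa [hN] at this
    have h4 : Nat.card (fixedSubgroup a) ∣ 392445 :=
      (Nat.Coprime.pow_right 7 (Nat.coprime_two_right.2 S.odd)).dvd_of_dvd_mul_left h3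
    have hcomm : ∀ q : ℕ, q.Prime → q ∣ Nat.card (fixedSubgroup a) → ∃ y : L, orderOf y = q ∧ b ∈ centralizer ({y} : Set L) := by
      intro q hq hqd
      have : Fact q.Prime := ⟨hq⟩
      obtain ⟨y, hy⟩ := exists_prime_orderOf_dvd_card' (G := fixedSubgroup a) q hqd
      refine ⟨y, by rw [Subgroup.orderOf_coe]; exact hy, ?_⟩
      rw [mem_centralizer_singleton_iff]
      exact (mem_centralizer_singleton_iff.1 (S.le y.2)).symm
    have h17 : ¬ 17 ∣ Nat.card (fixedSubgroup a) := by
      intro hd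
      obtain ⟨y, hy, hb⟩ := hcomm 17 (by norm_num) hd
      have h6 := Subgroup.orderOf_dvd_natCard _ hb
      rw [(H898.J3Cent.seventeen h hy).1, h1] at h6
      norm_num at h6
    have h19 : ¬ 19 ∣ Nat.card (fixedSubgroup a) := by
      intro hd
      obtain ⟨y, hy, hb⟩ := hcomm 19 (by norm_num) hd
      have h6 := Subgroup.orderOf_dvd_natCard _ hb
      rw [H898.J3Cent.card_nineteen h hy, h1] at h6
      norm_num at h6
    have h6 : Nat.card (fixedSubgroup a) ∣ 1215 := by
      have c17 : Nat.Coprime (Nat.card (fixedSubgroup a)) 17 := ((Nat.Prime.coprime_iff_not_dvd (by norm_num)).2 h17).symm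
      have c19 : Nat.Coprime (Nat.card (fixedSubgroup a)) 19 := ((Nat.Prime.coprime_iff_not_dvd (by norm_num)).2 h19).symm
      rw [show (392445 : ℕ) = 17 * (19 * 1215) by norm_num] at h4
      exact c19.dvd_of_dvd_mul_left (c17.dvd_of_dvd_mul_left h4)
    have h7 : 320 ≤ Nat.card (fixedSubgroup a) := hQ'.trans (S.card_le hQ)
    have h8 : ∀ n ∈ Nat.divisors 1215, 320 ≤ n → 3 ^ 4 ∣ n := by decide +kernel
    have h9 : 3 ^ 4 ∣ Nat.card (fixedSubgroup a) := h8 _ (Nat.mem_divisors.2 ⟨h6, by norm_num⟩) h7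
    have f3 : Fact (Nat.Prime 3) := ⟨by norm_num⟩
    obtain ⟨E, hE⟩ := Sylow.exists_subgroup_card_pow_prime 3 h9
    have hEp : IsPGroup 3 E := IsPGroup.of_card hE
    have hEn : Nontrivial E := by
      rw [← Finite.one_lt_card_iff_nontrivial, hE]
      norm_num
    have hz := hEp.center_nontrivial
    obtain ⟨w, hw⟩ : ∃ w : Subgroup.center E, orderOf w = 3 := by
      have h2 : 3 ∣ Nat.card (Subgroup.center E) := by
        have hzp : IsPGroup 3 (Subgroup.center E) := hEp.to_subgroup _
        obtain ⟨n, hn⟩ := IsPGroup.iff_card.1 hzp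
        rw [hn]
        refine dvd_pow_self 3 fun h0 => ?_
        rw [h0, pow_zero] at hn
        have h10 := (Nat.card_eq_one_iff_unique.1 hn).1
        obtain ⟨z, hz1⟩ := exists_ne (1 : Subgroup.center E)
        exact hz1 (Subsingleton.elim _ _)
      exact exists_prime_orderOf_dvd_card' 3 h2
    set f : L := (((w : E) : fixedSubgroup a) : L) with hf
    have hf3 : orderOf f = 3 := by
      rw [hf, Subgroup.orderOf_coe, Subgroup.orderOf_coe, Subgroup.orderOf_coe]; exact hw
    have hEf : E.map (fixedSubgroup a).subtype ≤ centralizer ({f} : Set L) := by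
      rintro _ ⟨x, hx, rfl⟩
      rw [mem_centralizer_singleton_iff]
      have h3 := mem_center_iff.1 w.2 ⟨x, hx⟩
      have h4 := congrArg (fun z : E => ((z : fixedSubgroup a) : L)) h3
      exact h4
    have hbf : f * b = b * f := mem_centralizer_singleton_iff.1 (S.le ((w : E) : fixedSubgroup a).2)
    obtain ⟨t, ht, htf⟩ := even_of_five h hf3 h1 hbf
    have hC : Nat.card ↥(centralizer ({f} : Set L)) = 1080 := by
      rcases cent_three h hf3 with h2 | h2
      · exact h2
      · exfalso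
        have h10 : b ∈ centralizer ({f} : Set L) := mem_centralizer_singleton_iff.2 hbf.symm
        have h11 := (Subgroup.orderOf_dvd_natCard _ h10).trans h2
        rw [h1] at h11
        norm_num at h11
    have h12 := Subgroup.card_dvd_of_le hEf
    rw [Subgroup.card_map_of_injective (subtype_injective _), hE, hC] at h12
    norm_num at h12
  · exact S.false_of_dvd (j := 0) (k := 7) (m := 17) (by rw [hN]; norm_num)
      (by rw [(H898.J3Cent.seventeen h h1).1]; norm_num) (by norm_num) (by norm_num)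
  · exact S.false_of_dvd (j := 0) (k := 7) (m := 19) (by rw [hN]; norm_num)
      (by rw [H898.J3Cent.card_nineteen h h1]; norm_num) (by norm_num) (by norm_num)

end Cfsg.Agent.H305.OddJ3
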