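import Cfsg.Agent.H940.EngData
import Cfsg.Agent.H940.EngLoc
import Cfsg.Agent.H413.JOneLocal
import Cfsg.Agent.SporRec.J1.EqTopC

/-!
# Row `J1` of S5906/S5907 (helper305): the normalizers of the Sylow subgroups for 2, 5, 7, 11, 19
-/

set_option autoImplicit false
set_option linter.style.haveILetI false

namespace Cfsg.Agent.H305.SepJ1

open Subgroup Cfsg.Agent.OrdDiv Cfsg.Agent.H940 Cfsg.Agent.H940.Eng Cfsg.Agent.H940.Eng.D
open Cfsg.Agent.H940.MaxCls

abbrev G : Type := Cfsg.Spor.J1

def loc : List LD := [⟨7, 7, [(2, 1), (3, 1), (7, 1)]⟩, ⟨11, 11, [(2, 1), (5, 1), (11, 1)]⟩,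
  ⟨19, 19, [(2, 1), (3, 1), (19, 1)]⟩]

theorem simple : IsSimpleGroup G := Cfsg.Agent.SporadicB.J1.Main.isJ1.1
theorem card : Nat.card G = n_j1 := Cfsg.Agent.SporadicB.J1.Main.isJ1.2
theorem fin : Finite G := Nat.finite_of_card_ne_zero (by rw [card]; decide)

theorem local' : Cfsg.Agent.SporRec.J1.Defs.Local G := Cfsg.Agent.H413.JOneLocal.isLocal

theorem card_cent_two {x : G} (hx : orderOf x = 2) : Nat.card (centralizer ({x} : Set G)) = 120 := by
  haveI := fin
  exact Cfsg.Agent.SporRec.J1.EqTopC.card_cent2 local' x hx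

theorem na : ¬ ∀ a b : G, a * b = b * a := by
  haveI := fin
  intro h
  haveI := Fact.mk Nat.prime_two
  obtain ⟨x, hx⟩ := exists_prime_orderOf_dvd_card' (G := G) 2 (by rw [card]; decide +kernel)
  have h1 := card_cent_two hx
  have h2 : centralizer ({x} : Set G) = ⊤ := by
    rw [eq_top_iff]
    intro y _
    rw [mem_centralizer_singleton_iff]
    exact h y x
  rw [h2, card_top, card] at h1
  exact absurd h1 (by decide)

/-- the primes 2, 3, 5 do not divide the order of the centralizer of a subgroup of order 7, 11, 19 -/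
theorem not_small {r : ℕ} (hr : r.Prime) (h7 : r = 7 ∨ r = 11 ∨ r = 19) {R : Subgroup G} (hR : Nat.card R = r) :
    ∀ p ∈ [2, 3, 5], ¬ p ∣ Nat.card (centralizer (R : Set G)) := by
  haveI := fin
  intro p hp
  simp only [List.mem_cons, List.not_mem_nil, or_false] at hp
  rcases hp with rfl | rfl | rfl
  · refine not_dvd_cent hr Nat.prime_two hR fun y hy => ?_
    rw [card_cent_two hy]
    rcases h7 with rfl | rfl | rfl <;> norm_num
  · refine not_dvd_cent hr Nat.prime_three hR fun y hy => ?_
    rw [local'.cent3 y hy]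
    rcases h7 with rfl | rfl | rfl <;> norm_num
  · refine not_dvd_cent hr Nat.prime_five hR fun y hy => ?_
    rw [local'.cent5 y hy]
    rcases h7 with rfl | rfl | rfl <;> norm_num

theorem cn7 {R : Subgroup G} (hR : Nat.card R = 7) :
    Nat.card (centralizer (R : Set G)) = 7 ∧ Nat.card (normalizer (R : Set G)) = 42 := by
  haveI := fin
  haveI := simple
  have h1 := dvd_filter v_j1 (by rw [← card]; exact card_subgroup_dvd_card (centralizer (R : Set G))) [2, 3, 5]
    (not_small (by norm_num) (Or.inl rfl) hR)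
  exact cn_exact na card (by decide +kernel) (by decide +kernel) (by decide +kernel) hR h1 (by decide +kernel) hR

theorem cent_zpowers {G : Type*} [Group G] (g : G) :
    centralizer ((zpowers g : Subgroup G) : Set G) = centralizer ({g} : Set G) := by
  apply le_antisymm
  · exact centralizer_le (by simp)
  · intro x hx
    rw [mem_centralizer_iff]
    intro h hh
    obtain ⟨n, rfl⟩ := mem_zpowers_iff.1 hh
    have h1 : Commute x g := mem_centralizer_singleton_iff.1 hx
    exact (h1.zpow_right n).eq.symm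

theorem not7 {r : ℕ} (hr : r.Prime) (h7 : r = 11 ∨ r = 19) {R : Subgroup G} (hR : Nat.card R = r) :
    ∀ p ∈ [2, 3, 5, 7], ¬ p ∣ Nat.card (centralizer (R : Set G)) := by
  haveI := fin
  intro p hp
  by_cases h : p = 7
  · subst h
    refine not_dvd_cent hr (by norm_num) hR fun y hy => ?_
    have h2 := (cn7 (R := zpowers y) (by rw [Nat.card_zpowers, hy])).1
    rw [← cent_zpowers, h2]
    rcases h7 with rfl | rfl <;> norm_num
  · refine not_small hr (by tauto) hR p ?_
    simp only [List.mem_cons, List.not_mem_nil, or_false] at hp ⊢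
    tauto

theorem cn11 {R : Subgroup G} (hR : Nat.card R = 11) :
    Nat.card (centralizer (R : Set G)) = 11 ∧ Nat.card (normalizer (R : Set G)) = 110 := by
  haveI := fin
  haveI := simple
  have h1 := dvd_filter v_j1 (by rw [← card]; exact card_subgroup_dvd_card (centralizer (R : Set G))) [2, 3, 5, 7]
    (not7 (by norm_num) (Or.inl rfl) hR)
  exact cn_exact na card (by decide +kernel) (by decide +kernel) (by decide +kernel) hR h1 (by decide +kernel) hR

theorem cn19 {R : Subgroup G} (hR : Nat.card R = 19) :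
    Nat.card (centralizer (R : Set G)) = 19 ∧ Nat.card (normalizer (R : Set G)) = 114 := by
  haveI := fin
  haveI := simple
  have h1 := dvd_filter v_j1 (by rw [← card]; exact card_subgroup_dvd_card (centralizer (R : Set G))) [2, 3, 5, 7]
    (not7 (by norm_num) (Or.inr rfl) hR)
  exact cn_exact na card (by decide +kernel) (by decide +kernel) (by decide +kernel) hR h1 (by decide +kernel) hR

/-- a cyclic subgroup of prime order -/
theorem eq_zpowers {G : Type*} [Group G] {R : Subgroup G} {r : ℕ} (hr : r.Prime) (hR : Nat.card R = r) :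
    ∃ x : G, orderOf x = r ∧ R = zpowers x := by
  haveI := Fact.mk hr
  haveI : Finite R := Nat.finite_of_card_ne_zero (by rw [hR]; exact hr.ne_zero)
  obtain ⟨x, hx⟩ := exists_prime_orderOf_dvd_card' (G := R) r (by rw [hR])
  refine ⟨x, by rw [Subgroup.orderOf_coe, hx], ?_⟩
  symm
  apply eq_of_le_of_card_ge (zpowers_le.2 x.2)
  rw [hR, Nat.card_zpowers, Subgroup.orderOf_coe, hx]

theorem cn5 {R : Subgroup G} (hR : Nat.card R = 5) :
    Nat.card (centralizer (R : Set G)) = 30 ∧ Nat.card (normalizer (R : Set G)) = 60 := by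
  haveI := fin
  haveI := simple
  obtain ⟨x, hx, rfl⟩ := eq_zpowers Nat.prime_five hR
  have h1 : Nat.card (centralizer ((zpowers x : Subgroup G) : Set G)) = 30 := by
    rw [cent_zpowers, local'.cent5 x hx]
  refine ⟨h1, ?_⟩
  have h2 := cnP_sound na card (r := 5) (fC := [(2, 1), (3, 1), (5, 1)]) (by decide +kernel) (by decide +kernel)
    (by decide +kernel) hR (by rw [h1]; decide +kernel) (P := fun c m => c != 30 || m == 60) (by decide +kernel) hR
  rw [h1, Bool.or_eq_true, beq_iff_eq] at h2
  rcases h2 with h2 | h2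
  · exact absurd h2 (by decide)
  · exact h2

/-- Burnside: the number of `G`-conjugates of `x` in an abelian Sylow subgroup divides the order of the normalizer -/
theorem ncard_conj_dvd {G : Type*} [Group G] [Finite G] {p : ℕ} [Fact p.Prime] (P : Sylow p G)
    (hP : ∀ x ∈ (P : Subgroup G), ∀ y ∈ (P : Subgroup G), x * y = y * x) {x : G} (hx : x ∈ (P : Subgroup G)) :
    Set.ncard {y : G | y ∈ (P : Subgroup G) ∧ ∃ g : G, g * x * g⁻¹ = y} ∣
      Nat.card (normalizer ((P : Subgroup G) : Set G)) := by
  classical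
  haveI hc : IsMulCommutative (P : Subgroup G) := ⟨⟨fun a b => Subtype.ext (hP a a.2 b b.2)⟩⟩
  set N := normalizer ((P : Subgroup G) : Set G) with hN
  letI : MulAction N G := MulAction.compHom G ((MulAut.conj : G →* MulAut G).comp N.subtype)
  have hsm : ∀ (n : N) (y : G), n • y = n * y * (n : G)⁻¹ := fun n y => rfl
  have h1 : {y : G | y ∈ (P : Subgroup G) ∧ ∃ g : G, g * x * g⁻¹ = y} = MulAction.orbit N x := by
    ext y
    constructor
    · rintro ⟨hy, g, rfl⟩
      obtain ⟨n, hn, h2⟩ := P.conj_eq_normalizer_conj_of_mem x g⁻¹ hx (by rwa [inv_inv])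
      refine ⟨⟨n⁻¹, inv_mem hn⟩, ?_⟩
      change ((⟨n⁻¹, inv_mem hn⟩ : N) : G) * x * ((⟨n⁻¹, inv_mem hn⟩ : N) : G)⁻¹ = _
      rw [inv_inv] at h2
      rw [h2]
      simp
    · rintro ⟨n, rfl⟩
      refine ⟨?_, (n : G), rfl⟩
      exact (mem_normalizer_iff.1 n.2 x).1 hx
  rw [h1, ← Nat.card_coe_set_eq, Nat.card_congr (MulAction.orbitEquivQuotientStabilizer N x)]
  exact card_quotient_dvd_card _

/-- the normalizer of a Sylow 2-subgroup -/
theorem n2 (P : Sylow 2 G) : 56 ∣ Nat.card (normalizer ((P : Subgroup G) : Set G)) := by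
  haveI := fin
  haveI := Fact.mk Nat.prime_two
  obtain ⟨hc, hs⟩ := Cfsg.Agent.UGT.EndJ1.Data.bal.syl P
  have hcomm : ∀ x ∈ (P : Subgroup G), ∀ y ∈ (P : Subgroup G), x * y = y * x := by
    intro x hx y hy
    have h1 := hs x hx
    have h2 := hs y hy
    have h3 := hs _ (mul_mem hx hy)
    calc x * y = (x * y)⁻¹ := (inv_eq_of_mul_eq_one_right h3).symm
      _ = y * x := by rw [mul_inv_rev, inv_eq_of_mul_eq_one_right h1, inv_eq_of_mul_eq_one_right h2]
  obtain ⟨x, hx⟩ := exists_prime_orderOf_dvd_card' (G := (P : Subgroup G)) 2 (by rw [hc]; norm_num)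
  have hx' : orderOf (x : G) = 2 := by rw [Subgroup.orderOf_coe, hx]
  have h7 := ncard_conj_dvd P hcomm x.2
  have h4 : {y : G | y ∈ (P : Subgroup G) ∧ ∃ g : G, g * x * g⁻¹ = y} = ((P : Subgroup G) : Set G) \ {1} := by
    ext y
    constructor
    · rintro ⟨hy, g, rfl⟩
      refine ⟨hy, ?_⟩
      intro h
      have h5 : (x : G) = 1 := by
        have : (x : G) = g⁻¹ * (g * x * g⁻¹) * g := by group
        rw [this, Set.mem_singleton_iff.1 h]
        group
      rw [h5, orderOf_one] at hx'
      exact absurd hx' (by norm_num)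
    · rintro ⟨hy, hy1⟩
      refine ⟨hy, ?_⟩
      have hy2 : orderOf y = 2 := orderOf_eq_prime (by rw [pow_two]; exact hs y hy) hy1
      exact local'.conj _ _ hx' hy2
  rw [h4, Set.ncard_sdiff_singleton_of_mem (one_mem (P : Subgroup G)), ← Nat.card_coe_set_eq] at h7
  change Nat.card (P : Subgroup G) - 1 ∣ _ at h7
  rw [hc] at h7
  have h8 : 8 ∣ Nat.card (normalizer ((P : Subgroup G) : Set G)) := by
    rw [← hc]
    exact card_dvd_of_le le_normalizer
  have h9 := Nat.Coprime.mul_dvd_of_dvd_of_dvd (by norm_num : Nat.Coprime (8 - 1) 8) h7 h8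
  simpa using h9

theorem ctx (B : Base) : Ctx G l_j1 n_j1 o_j1 loc where
  fin := fin
  simple := simple
  card := card
  val := v_j1
  nodup := nd_j1
  ords := ords_j1 B
  loc := by
    haveI := fin
    haveI := simple
    intro ld hld
    simp only [loc, List.mem_cons, List.not_mem_nil, or_false] at hld
    rcases hld with rfl | rfl | rfl
    · exact loc_of_eq card (by decide +kernel) (by decide +kernel) (by decide +kernel) fun R hR => by
        obtain ⟨h1, h2⟩ := cn7 hR
        rw [h1, h2]; decide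
    · exact loc_of_eq card (by decide +kernel) (by decide +kernel) (by decide +kernel) fun R hR => by
        obtain ⟨h1, h2⟩ := cn11 hR
        rw [h1, h2]; decide
    · exact loc_of_eq card (by decide +kernel) (by decide +kernel) (by decide +kernel) fun R hR => by
        obtain ⟨h1, h2⟩ := cn19 hR
        rw [h1, h2]; decide

/-- the row `J1` -/
theorem five (B : Base) : Sep 5 G := by
  have c := ctx B
  haveI := c.fin
  haveI := c.simple
  have hc := card
  haveI := Fact.mk Nat.prime_two
  obtain ⟨P⟩ := (inferInstance : Nonempty (Sylow 2 G))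
  obtain ⟨R5, h5⟩ := exists_card_eq (G := G) (r := 5) (by decide +kernel) (by rw [hc]; decide +kernel)
  obtain ⟨R7, h7⟩ := exists_card_eq (G := G) (r := 7) (by decide +kernel) (by rw [hc]; decide +kernel)
  obtain ⟨R11, h11⟩ := exists_card_eq (G := G) (r := 11) (by decide +kernel) (by rw [hc]; decide +kernel)
  obtain ⟨R19, h19⟩ := exists_card_eq (G := G) (r := 19) (by decide +kernel) (by rw [hc]; decide +kernel)
  have c2 := n2 P
  have c5 := (cn5 h5).2
  have c7 := (cn7 h7).2
  have c11 := (cn11 h11).2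
  have c19 := (cn19 h19).2
  have ne : ∀ {R : Subgroup G} {k : ℕ}, Nat.card (normalizer (R : Set G)) = k → (k != n_j1) = true →
      normalizer (R : Set G) ≠ ⊤ := by
    intro R k h1 h2 h3
    rw [h3, card_top, hc] at h1
    rw [bne_iff_ne] at h2
    exact h2 h1.symm
  have ne2 : normalizer ((P : Subgroup G) : Set G) ≠ ⊤ := by
    intro h
    have hn : (P : Subgroup G).Normal := normalizer_eq_top_iff.1 h
    have hPc := (Cfsg.Agent.UGT.EndJ1.Data.bal.syl P).1
    rcases hn.eq_bot_or_eq_top with h1 | h1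
    · have : Nat.card (P : Subgroup G) = 1 := by rw [h1, card_bot]
      exact absurd (hPc.symm.trans this) (by norm_num)
    · have : Nat.card (P : Subgroup G) = n_j1 := by rw [h1, card_top, hc]
      exact absurd (hPc.symm.trans this) (by decide)
  have f2 : ∀ p ∈ [2], Full p (normalizer ((P : Subgroup G) : Set G)) := by
    intro p hp; rw [List.mem_singleton.1 hp]
    exact full_normalizer Nat.prime_two P
  have f5 : ∀ p ∈ [5], Full p (normalizer (R5 : Set G)) := by
    intro p hp; rw [List.mem_singleton.1 hp]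
    exact full_of_card hc (by decide +kernel) (by decide +kernel) h5
  have f7 : ∀ p ∈ [7], Full p (normalizer (R7 : Set G)) := by
    intro p hp; rw [List.mem_singleton.1 hp]
    exact full_of_card hc (by decide +kernel) (by decide +kernel) h7
  have f11 : ∀ p ∈ [11], Full p (normalizer (R11 : Set G)) := by
    intro p hp; rw [List.mem_singleton.1 hp]
    exact full_of_card hc (by decide +kernel) (by decide +kernel) h11
  have f19 : ∀ p ∈ [19], Full p (normalizer (R19 : Set G)) := by
    intro p hp; rw [List.mem_singleton.1 hp]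
    exact full_of_card hc (by decide +kernel) (by decide +kernel) h19
  exact sep_five ne2 (ne c5 (by decide +kernel)) (ne c7 (by decide +kernel))
    (ne c11 (by decide +kernel)) (ne c19 (by decide +kernel))
    (c.apart c2 c5.symm.dvd [(11, 1), (19, 1)] _ _ 60 f2 f5 (by decide +kernel))
    (c.apart c2 c7.symm.dvd [(5, 1), (11, 1), (19, 1)] _ _ 60 f2 f7 (by decide +kernel))
    (c.apart c2 c11.symm.dvd [(3, 1), (19, 1)] _ _ 60 f2 f11 (by decide +kernel))
    (c.apart c2 c19.symm.dvd [(5, 1), (11, 1)] _ _ 60 f2 f19 (by decide +kernel))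
    (c.apart c5.symm.dvd c7.symm.dvd [(2, 1), (11, 1), (19, 1)] _ _ 60 f5 f7 (by decide +kernel))
    (c.apart c5.symm.dvd c11.symm.dvd [(2, 1), (7, 1), (19, 1)] _ _ 60 f5 f11 (by decide +kernel))
    (c.apart c5.symm.dvd c19.symm.dvd [(2, 1), (7, 1), (11, 1)] _ _ 60 f5 f19 (by decide +kernel))
    (c.apart c7.symm.dvd c11.symm.dvd [(2, 2), (19, 1)] _ _ 60 f7 f11 (by decide +kernel))
    (c.apart c7.symm.dvd c19.symm.dvd [(2, 2), (5, 1), (11, 1)] _ _ 60 f7 f19 (by decide +kernel))
    (c.apart c11.symm.dvd c19.symm.dvd [(2, 2), (7, 1)] _ _ 60 f11 f19 (by decide +kernel))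

end Cfsg.Agent.H305.SepJ1
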