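import Cfsg.Agent.H940.EngData
import Cfsg.Agent.H940.EngLoc
import Cfsg.Agent.H898.J3Cent
import Cfsg.Agent.H933.BigJ3
import Cfsg.Agent.Lib.NormalAbelian
import Cfsg.Agent.H305.SepJ1
import Cfsg.Agent.J2Type.COdd

/-!
# Row `J3` of S5906/S5907 (helper305)

The normalizers of the Sylow subgroups for 3, 17, 19, the centralizer of an involution, `L₂(16):2`.
-/

set_option autoImplicit false
set_option linter.style.haveILetI false

namespace Cfsg.Agent.H305.SepJ3

open Subgroup Cfsg.Agent.OrdDiv Cfsg.Agent.H940 Cfsg.Agent.H940.Eng Cfsg.Agent.H940.Eng.D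
open Cfsg.Agent.H940.MaxCls Cfsg.Agent.J3Type.OneClass Cfsg.Agent.J2Type.Model

/-! ### elements of order 5 -/

theorem five_aux : ∀ τ : Equiv.Perm (Fin 5), τ ^ 5 = 1 → ∀ σ : Equiv.Perm (Fin 5), Equiv.Perm.sign σ = 1 →
    σ * τ * σ⁻¹ = τ ^ 2 → τ = 1 := by decide +kernel

/-- in the model an element of order 5 is not conjugate to its square -/
theorem model_five {C : Type*} [Group C] {Q : Subgroup C} {z : C} {v : Fin 5 → C} {ρ : C →* SP}
    (M : IsModel Q z v ρ) {n x : C} (hx : orderOf x = 5) (h : n * x * n⁻¹ = x ^ 2) : False := by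
  have h1 : (ρ x).σ = 1 := by
    refine five_aux _ ?_ _ ((M.range (ρ n)).1 ⟨n, rfl⟩).1 ?_
    · have h2 : ρ x ^ 5 = 1 := by rw [← map_pow, ← hx, pow_orderOf_eq_one, map_one]
      have h3 := congrArg SP.σ h2
      rw [one_σ] at h3
      rw [← h3]
      simp only [pow_succ, pow_zero, one_mul, mul_σ]
    · have h2 : ρ n * ρ x * (ρ n)⁻¹ = ρ x * ρ x := by
        rw [← map_inv, ← map_mul, ← map_mul, h, pow_two, map_mul]
      have h3 := congrArg SP.σ h2
      rw [mul_σ, mul_σ, mul_σ, inv_σ] at h3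
      rw [pow_two]
      exact h3
  have h2 : ρ (x * x) = 1 := by
    rw [map_mul]
    apply SP.ext
    · rw [mul_σ, h1, one_σ, one_mul]
    · funext i
      rw [mul_s, h1, one_s]
      exact CharTwo.add_self_eq_zero _
  have h3 : (x * x) * (x * x) = 1 := by
    rcases (M.ker _).1 h2 with h4 | h4
    · rw [h4, one_mul]
    · rw [h4, M.z_sq]
  have h4 : x ^ 4 = 1 := by
    rw [show (4 : ℕ) = 2 * 2 by norm_num, pow_mul, pow_two, pow_two]
    exact h3
  have h5 := orderOf_dvd_of_pow_eq_one h4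
  rw [hx] at h5
  norm_num at h5

/-- the normalizer of a subgroup of order 5 in a group of type `J3` -/
theorem not8 {G : Type*} [Group G] [Finite G] (hM : ∀ t : G, orderOf t = 2 → HasModel t) {x : G}
    (hx : orderOf x = 5) : ¬ 8 ∣ Nat.card (normalizer ((zpowers x : Subgroup G) : Set G)) := by
  classical
  intro h8
  haveI := Fact.mk Nat.prime_two
  obtain ⟨T', hT'⟩ := Sylow.exists_subgroup_card_pow_prime (G := normalizer ((zpowers x : Subgroup G) : Set G)) 2 (n := 3)
    (by simpa using h8)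
  set T : Subgroup G := T'.map (Subgroup.subtype _) with hTdef
  have hT : Nat.card T = 8 := by
    rw [hTdef, card_map_of_injective (Subgroup.subtype_injective _), hT']
    norm_num
  have hTN : ∀ n ∈ T, ∃ k : ℕ, n * x * n⁻¹ = x ^ k := by
    rintro _ ⟨n, -, rfl⟩
    have h1 := (mem_normalizer_iff.1 n.2 x).1 (mem_zpowers x)
    obtain ⟨k, hk⟩ := (mem_zpowers_iff_mem_range_orderOf.1 h1 |> Finset.mem_image.1)
    exact ⟨k, hk.2.symm⟩
  have hp : IsPGroup 2 T := IsPGroup.of_card (n := 3) (by rw [hT]; norm_num)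
  letI : MulAction T G := MulAction.compHom G ((MulAut.conj : G →* MulAut G).comp T.subtype)
  have hsm : ∀ (n : T) (y : G), n • y = n * y * (n : G)⁻¹ := fun n y => rfl
  set D : Subgroup T := (centralizer ({x} : Set G)).subgroupOf T with hD
  have memD : ∀ n : T, n ∈ D ↔ (n : G) * x = x * n := by
    intro n
    rw [hD, mem_subgroupOf, mem_centralizer_singleton_iff]
  have hDs : D = MulAction.stabilizer T x := by
    ext n
    rw [hD, mem_subgroupOf, mem_centralizer_singleton_iff, MulAction.mem_stabilizer_iff, hsm, mul_inv_eq_iff_eq_mul]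
  have hDn : D.Normal := by
    constructor
    intro d hd n
    rw [hD, mem_subgroupOf, mem_centralizer_singleton_iff] at hd ⊢
    obtain ⟨k, hk⟩ := hTN (n⁻¹ : T) (n⁻¹ : T).2
    have h1 : (d : G) * x ^ k = x ^ k * d := (show Commute (d : G) x from hd).pow_right k
    rw [← hk] at h1
    push_cast at h1 ⊢
    rw [inv_inv] at h1
    calc (n : G) * d * (n : G)⁻¹ * x = n * (d * ((n : G)⁻¹ * x * n)) * (n : G)⁻¹ := by group
      _ = n * ((n : G)⁻¹ * x * n * d) * (n : G)⁻¹ := by rw [h1]
      _ = x * (n * d * (n : G)⁻¹) := by group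
  have horb : MulAction.orbit T x ⊆ ({x, x ^ 2, x ^ 3, x ^ 4} : Finset G) := by
    rintro _ ⟨n, rfl⟩
    obtain ⟨k, hk⟩ := hTN n n.2
    have h1 : n • x = x ^ (k % 5) := by
      rw [hsm, hk, ← hx, pow_mod_orderOf]
    have h2 : k % 5 < 5 := Nat.mod_lt _ (by norm_num)
    have h3 : k % 5 ≠ 0 := by
      intro h0
      rw [h0, pow_zero, hsm] at h1
      have h4 : x = 1 := by
        have : x = (n : G)⁻¹ * (n * x * (n : G)⁻¹) * n := by group
        rw [this, h1]; group
      rw [h4, orderOf_one] at hx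
      norm_num at hx
    have h4 : k % 5 = 1 ∨ k % 5 = 2 ∨ k % 5 = 3 ∨ k % 5 = 4 := by omega
    change n • x ∈ _
    rw [h1]
    rcases h4 with h4 | h4 | h4 | h4 <;> rw [h4] <;> simp
  have hcard : Nat.card (MulAction.orbit T x) * Nat.card D = 8 := by
    rw [← hT, hDs, Nat.card_congr (MulAction.orbitEquivQuotientStabilizer T x)]
    exact (card_eq_card_quotient_mul_card_subgroup _).symm
  have hle4 : ({x, x ^ 2, x ^ 3, x ^ 4} : Finset G).card ≤ 4 := Finset.card_le_four
  have horb4 : Nat.card (MulAction.orbit T x) ≤ 4 := by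
    have h1 := Set.ncard_le_ncard horb (Finset.finite_toSet _)
    rw [Set.ncard_coe_finset] at h1
    rw [Nat.card_coe_set_eq]
    omega
  have hD1 : D ≠ ⊥ := by
    intro h
    rw [h, card_bot] at hcard
    omega
  haveI : Group.IsNilpotent T := hp.isNilpotent
  have hDc := Cfsg.Agent.Lib.NormalAbelian.normal_inf_center_ne_bot D hD1
  have hne : Nontrivial (D ⊓ center T : Subgroup T) := (nontrivial_iff_ne_bot _).2 hDc
  have h2d : 2 ∣ Nat.card (D ⊓ center T : Subgroup T) := by
    have hpD : IsPGroup 2 (D ⊓ center T : Subgroup T) := hp.to_subgroup _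
    obtain ⟨m, hm, h1⟩ := (hpD.nontrivial_iff_card).1 hne
    rw [h1]
    exact dvd_pow_self 2 hm.ne'
  obtain ⟨z, hz⟩ := exists_prime_orderOf_dvd_card' 2 h2d
  have hz2 : orderOf (((z : T) : G)) = 2 := by rw [Subgroup.orderOf_coe, Subgroup.orderOf_coe, hz]
  have hzD : (z : T) ∈ D := (mem_inf.1 z.2).1
  have hzc : ∀ n : T, n * (z : T) = (z : T) * n := fun n => (mem_center_iff.1 (mem_inf.1 z.2).2 n)
  have hzx : x * ((z : T) : G) = ((z : T) : G) * x := by
    exact ((memD _).1 hzD).symm
  have hzn : ∀ n : T, (n : G) * ((z : T) : G) = ((z : T) : G) * n := fun n => congrArg Subtype.val (hzc n)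
  obtain ⟨w, hw⟩ : ∃ w : G, w = ((z : T) : G) := ⟨_, rfl⟩
  rw [← hw] at hz2 hzx hzn
  obtain ⟨-, hCc, Q, v, ρ, M⟩ := hM _ hz2
  have hxC : x ∈ centralizer ({w} : Set G) := mem_centralizer_singleton_iff.2 hzx
  have hTC : ∀ n : T, (n : G) ∈ centralizer ({w} : Set G) := fun n => mem_centralizer_singleton_iff.2 (hzn n)
  have hox : orderOf (⟨x, hxC⟩ : centralizer ({w} : Set G)) = 5 := by rw [orderOf_mk]; exact hx
  have h10 := Cfsg.Agent.J2Type.COdd.card_cent_five M hCc hox
  have h10' : Nat.card (centralizer ({(⟨x, hxC⟩ : centralizer ({w} : Set G))} : Set (centralizer ({w} : Set G)))) = 10 := by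
    rw [← h10]
    apply Nat.card_congr
    refine Equiv.subtypeEquivRight fun y => ?_
    rw [mem_centralizer_singleton_iff]
  -- `|D| = 2`
  let f : D →* centralizer ({w} : Set G) :=
    { toFun := fun d => ⟨((d : T) : G), hTC d⟩
      map_one' := rfl
      map_mul' := fun _ _ => rfl }
  have hf : Function.Injective f := by
    intro a b hab
    exact Subtype.ext (Subtype.ext (congrArg (fun y : centralizer ({w} : Set G) => (y : G)) hab))
  have hfr : f.range ≤ centralizer ({(⟨x, hxC⟩ : centralizer ({w} : Set G))} : Set (centralizer ({w} : Set G))) := by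
    rintro _ ⟨d, rfl⟩
    rw [mem_centralizer_singleton_iff]
    apply Subtype.ext
    exact (memD _).1 d.2
  have hD10 : Nat.card D ∣ 10 := by
    rw [← h10', Nat.card_congr (MonoidHom.ofInjective hf).toEquiv]
    exact card_dvd_of_le hfr
  have hD2 : Nat.card D ∣ 2 := by
    have h1 : Nat.card D ∣ 8 := Dvd.intro_left _ hcard
    exact (Nat.dvd_gcd hD10 h1).trans (by norm_num)
  have horb4' : 4 ≤ Nat.card (MulAction.orbit T x) := by
    have h1 := Nat.le_of_dvd (by norm_num) hD2
    nlinarith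
  have heq : MulAction.orbit T x = (({x, x ^ 2, x ^ 3, x ^ 4} : Finset G) : Set G) := by
    apply Set.eq_of_subset_of_ncard_le horb
    rw [Set.ncard_coe_finset, ← Nat.card_coe_set_eq]
    omega
  have hx2 : x ^ 2 ∈ MulAction.orbit T x := by
    rw [heq]
    simp
  obtain ⟨n, hn⟩ := hx2
  change n • x = x ^ 2 at hn
  rw [hsm] at hn
  exact model_five M hox (n := ⟨(n : G), hTC n⟩) (Subtype.ext hn)

/-- the normalizer in a subgroup -/
theorem card_normalizer_dvd {G : Type*} [Group G] [Finite G] {H : Subgroup G} (R : Subgroup H) :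
    Nat.card (normalizer (R : Set H)) ∣ Nat.card (normalizer ((R.map H.subtype : Subgroup G) : Set G)) := by
  have h3 : (normalizer (R : Set H)).map H.subtype ≤ normalizer ((R.map H.subtype : Subgroup G) : Set G) := by
    rintro _ ⟨a, ha, rfl⟩
    rw [mem_normalizer_iff]
    intro z
    constructor
    · rintro ⟨w, hw, rfl⟩
      exact ⟨_, (mem_normalizer_iff.1 ha w).1 hw, rfl⟩
    · rintro ⟨w, hw, hw'⟩
      have h4 : a⁻¹ * w * a ∈ R := by
        have h5 := (mem_normalizer_iff.1 ha (a⁻¹ * w * a)).2 (by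
          have h6 : a * (a⁻¹ * w * a) * a⁻¹ = w := by group
          rw [h6]
          exact hw)
        exact h5
      refine ⟨_, h4, ?_⟩
      have h7 : (w : G) = (a : G) * z * (a : G)⁻¹ := hw'
      show ((a⁻¹ * w * a : H) : G) = z
      push_cast
      rw [h7]
      group
  rw [← card_map_of_injective H.subtype_injective]
  exact card_dvd_of_le h3

theorem arith16320 : ∀ m ∈ Nat.divisors 16320, 15 ∣ m → (16320 / m) % 5 = 1 → 8 ∣ m ∨ 17 ∣ m := by decide +kernel

/-- no subgroup of order 16320 contains an element of order 15 -/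
theorem not16320 {G : Type*} [Group G] (h : Cfsg.Spor.IsoJ3 G) {K : Subgroup G} (hK : Nat.card K = 16320) {t : G}
    (htK : t ∈ K) (ht : orderOf t = 15) : False := by
  obtain ⟨-, hcG, hM⟩ := Cfsg.Agent.H898.J3Cent.base h
  haveI : Finite G := Nat.finite_of_card_ne_zero (by rw [hcG]; norm_num)
  haveI := Fact.mk Nat.prime_five
  set t' : K := ⟨t, htK⟩ with ht'
  have hot : orderOf t' = 15 := by rw [ht', orderOf_mk, ht]
  have hx' : orderOf (t' ^ 3) = 5 := by
    rw [orderOf_pow_of_dvd (by norm_num) (by rw [hot]; norm_num), hot]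
  have hx : orderOf (t ^ 3) = 5 := by
    rw [orderOf_pow_of_dvd (by norm_num) (by rw [ht]; norm_num), ht]
  set R : Subgroup K := zpowers (t' ^ 3) with hR
  have hRc : Nat.card R = 5 := by rw [hR, Nat.card_zpowers, hx']
  have hRm : R.map K.subtype = zpowers (t ^ 3) := by
    rw [hR, MonoidHom.map_zpowers]
    rfl
  obtain ⟨s, hs, hs1⟩ := H904.SylOne.card_normalizer_mod (p := 5) hRc (by rw [hK]; norm_num)
  have h15 : 15 ∣ Nat.card (normalizer (R : Set K)) := by
    have h1 : t' ∈ normalizer (R : Set K) := by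
      apply Subgroup.centralizer_le_normalizer
      rw [hR, SepJ1.cent_zpowers, mem_centralizer_singleton_iff]
      exact ((Commute.refl t').pow_right 3).eq
    have h2 := orderOf_dvd_natCard (⟨t', h1⟩ : normalizer (R : Set K))
    rwa [Subgroup.orderOf_mk, hot] at h2
  have hdvd := card_normalizer_dvd R
  rw [hRm] at hdvd
  have hm : Nat.card (normalizer (R : Set K)) ∣ 16320 := hK ▸ card_subgroup_dvd_card _
  have hm0 : 0 < Nat.card (normalizer (R : Set K)) := Nat.card_pos
  have hs2 : 16320 / Nat.card (normalizer (R : Set K)) = s := by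
    rw [← hK, hs]
    exact Nat.mul_div_cancel_left _ hm0
  rcases arith16320 _ (Nat.mem_divisors.2 ⟨hm, by norm_num⟩) h15 (by rw [hs2]; exact hs1) with h8 | h17
  · exact not8 hM hx (h8.trans hdvd)
  · have hR5 : Nat.card (zpowers (t ^ 3) : Subgroup G) = 5 := by rw [Nat.card_zpowers, hx]
    obtain ⟨e, he, hN⟩ := H904.SylOne.card_nc (p := 5) hR5
    have h1 : 17 ∣ Nat.card (centralizer ((zpowers (t ^ 3) : Subgroup G) : Set G)) * e := hN ▸ h17.trans hdvd
    have h2 : ¬ 17 ∣ e := by
      intro h3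
      have := Nat.le_of_dvd (by norm_num) (h3.trans he)
      norm_num at this
    have h3 := ((Nat.Prime.dvd_mul (by norm_num)).1 h1).resolve_right h2
    refine not_dvd_cent Nat.prime_five (by norm_num : Nat.Prime 17) hR5 (fun y hy => ?_) h3
    rw [(Cfsg.Agent.H898.J3Cent.seventeen h hy).1]
    norm_num

/-! ### `L₂(16):2` -/

open Cfsg.Agent.Lib.FieldFour Cfsg.Spor Cfsg.Agent.SporadicB in
/-- `J₃` has a subgroup of order 8160 which contains an element of order 15. -/
theorem exists_subgroup_aux (hZ : Nat.card (Subgroup.center (threeJ3 F4 F4.w)) = 3) :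
    ∃ K : Subgroup (J3 F4 F4.w), Nat.card K = 8160 ∧ ∃ t ∈ K, orderOf t = 15 := by
  let uG : threeJ3 F4 F4.w := ⟨J3Sub.u, J3Sub.u_mem⟩
  let tG : threeJ3 F4 F4.w := ⟨J3Sub.t, J3Sub.t_mem⟩
  let fG : threeJ3 F4 F4.w := ⟨J3Sub.f, J3Sub.f_mem⟩
  let nG : threeJ3 F4 F4.w := ⟨J3Sub.n, J3Sub.n_mem⟩
  have relG : L216Two.Rel uG tG fG nG :=
    L216Two.Rel.of_map (Subgroup.subtype _) (Subgroup.subtype_injective _) J3Sub.rel
  let π : threeJ3 F4 F4.w →* J3 F4 F4.w := QuotientGroup.mk' _
  have relJ : L216Two.Rel (π uG) (π tG) (π fG) (π nG) := relG.map π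
  have hne3 : (π tG) ^ 3 * π uG ≠ π uG * (π tG) ^ 3 := by
    intro h
    rw [← map_pow] at h
    have h1 := S0458.comm_of_mk_comm hZ relG.uu h
    exact J3Sub.ne3 (congrArg Subtype.val h1)
  have hne5 : (π tG) ^ 5 * π uG ≠ π uG * (π tG) ^ 5 := by
    intro h
    rw [← map_pow] at h
    have h1 := S0458.comm_of_mk_comm hZ relG.uu h
    exact J3Sub.ne5 (congrArg Subtype.val h1)
  refine ⟨Subgroup.closure {π uG, π tG, π fG, π nG}, ?_, π tG, Subgroup.subset_closure (by simp), ?_⟩
  · refine relJ.card_eq hne3 hne5 ?_ (π nG * π uG * π tG) ?_ ?_ ?_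
    · intro h
      rw [← map_inv, ← map_mul, ← map_mul] at h
      have hinv : (tG * uG * tG⁻¹) * (tG * uG * tG⁻¹) = 1 := by
        calc (tG * uG * tG⁻¹) * (tG * uG * tG⁻¹) = tG * (uG * uG) * tG⁻¹ := by group
          _ = 1 := by rw [relG.uu, mul_one, mul_inv_cancel]
      have h1 := S0458.comm_of_mk_comm hZ hinv h
      exact J3Sub.nef (congrArg Subtype.val h1)
    · have hu : π uG ∈ Subgroup.closure {π uG, π tG, π fG, π nG} :=
        Subgroup.subset_closure (by simp)
      have ht : π tG ∈ Subgroup.closure {π uG, π tG, π fG, π nG} :=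
        Subgroup.subset_closure (by simp)
      have hn : π nG ∈ Subgroup.closure {π uG, π tG, π fG, π nG} :=
        Subgroup.subset_closure (by simp)
      exact Subgroup.mul_mem _ (Subgroup.mul_mem _ hn hu) ht
    · have h17 : (nG * uG * tG) ^ 17 = 1 := Subtype.ext J3Sub.g17
      rw [← map_mul, ← map_mul, ← map_pow, h17, map_one]
    · intro h
      rw [← map_mul, ← map_mul] at h
      have h17 : (nG * uG * tG) ^ 17 = 1 := Subtype.ext J3Sub.g17
      have h1 := S0458.eq_one_of_mk_eq_one hZ h17 h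
      exact J3Sub.g_ne (congrArg Subtype.val h1)
  · have h15 : (π tG) ^ 15 = 1 := relJ.tt
    have h1 : orderOf (π tG) ∣ 15 := orderOf_dvd_of_pow_eq_one h15
    have h2 : ¬ orderOf (π tG) ∣ 3 := by
      intro h
      apply hne3
      rw [orderOf_dvd_iff_pow_eq_one.1 h, one_mul, mul_one]
    have h3 : ¬ orderOf (π tG) ∣ 5 := by
      intro h
      apply hne5
      rw [orderOf_dvd_iff_pow_eq_one.1 h, one_mul, mul_one]
    have h4 : orderOf (π tG) ∈ Nat.divisors 15 := Nat.mem_divisors.2 ⟨h1, by norm_num⟩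
    rw [show Nat.divisors 15 = {1, 3, 5, 15} by decide +kernel] at h4
    simp only [Finset.mem_insert, Finset.mem_singleton] at h4
    rcases h4 with h4 | h4 | h4 | h4
    · exact absurd (by rw [h4]; norm_num) h2
    · exact absurd (by rw [h4]) h2
    · exact absurd (by rw [h4]) h3
    · exact h4

theorem exists_subgroup {G : Type*} [Group G] (h : Cfsg.Spor.IsoJ3 G) :
    ∃ K : Subgroup G, Nat.card K = 8160 ∧ ∃ t ∈ K, orderOf t = 15 := by
  obtain ⟨F, _, _, ω, hF, hω, ⟨e⟩⟩ := h
  obtain ⟨e'⟩ := H933.j3_equiv hF hω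
  obtain ⟨hZ, -, -, -⟩ := Cfsg.Agent.S1625.result Cfsg.Agent.Lib.FieldFour.F4 rfl Cfsg.Agent.Lib.FieldFour.F4.w (by decide)
  obtain ⟨K, hK, t, ht, ho⟩ := exists_subgroup_aux hZ
  let f := e'.trans e.symm
  refine ⟨K.map f.toMonoidHom, ?_, f t, mem_map_of_mem _ ht, ?_⟩
  · rw [card_map_of_injective f.injective, hK]
  · rw [← ho]
    exact orderOf_injective f.toMonoidHom f.injective t

/-! ### the row -/

def loc : List LD := [⟨17, 17, [(2, 3), (17, 1)]⟩, ⟨19, 19, [(3, 2), (19, 1)]⟩]

section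

variable {G : Type} [Group G]

theorem simple (h : Cfsg.Spor.IsoJ3 G) : IsSimpleGroup G := (Cfsg.Agent.H898.J3Cent.base h).1
theorem card (h : Cfsg.Spor.IsoJ3 G) : Nat.card G = n_j3 := (Cfsg.Agent.H898.J3Cent.base h).2.1
theorem fin (h : Cfsg.Spor.IsoJ3 G) : Finite G := Nat.finite_of_card_ne_zero (by rw [card h]; decide)

theorem cn17 (h : Cfsg.Spor.IsoJ3 G) {R : Subgroup G} (hR : Nat.card R = 17) :
    Nat.card (centralizer (R : Set G)) = 17 ∧ Nat.card (normalizer (R : Set G)) = 136 := by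
  obtain ⟨x, hx, rfl⟩ := SepJ1.eq_zpowers (by norm_num) hR
  rw [SepJ1.cent_zpowers]
  exact Cfsg.Agent.H898.J3Cent.seventeen h hx

theorem cn19 (h : Cfsg.Spor.IsoJ3 G) {R : Subgroup G} (hR : Nat.card R = 19) :
    Nat.card (centralizer (R : Set G)) = 19 ∧ Nat.card (normalizer (R : Set G)) = 171 := by
  obtain ⟨x, hx, rfl⟩ := SepJ1.eq_zpowers (by norm_num) hR
  rw [SepJ1.cent_zpowers]
  exact ⟨Cfsg.Agent.H898.J3Cent.card_nineteen h hx, Cfsg.Agent.H898.J3Cent.card_normalizer_nineteen h hx⟩

theorem ctx (B : Base) (h : Cfsg.Spor.IsoJ3 G) : Ctx G l_j3 n_j3 o_j3 loc where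
  fin := fin h
  simple := simple h
  card := card h
  val := v_j3
  nodup := nd_j3
  ords := ords_j3 B
  loc := by
    haveI := fin h
    haveI := simple h
    intro ld hld
    simp only [loc, List.mem_cons, List.not_mem_nil, or_false] at hld
    rcases hld with rfl | rfl
    · exact loc_of_eq (card h) (by decide +kernel) (by decide +kernel) (by decide +kernel) fun R hR => by
        obtain ⟨h1, h2⟩ := cn17 h hR
        rw [h1, h2]; decide
    · exact loc_of_eq (card h) (by decide +kernel) (by decide +kernel) (by decide +kernel) fun R hR => by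
        obtain ⟨h1, h2⟩ := cn19 h hR
        rw [h1, h2]; decide

/-- the row `J3` -/
theorem five_of (B : Base) (h : Cfsg.Spor.IsoJ3 G) : Sep 5 G := by
  have c := ctx B h
  haveI := c.fin
  haveI := c.simple
  have hc := card h
  obtain ⟨-, -, hM⟩ := Cfsg.Agent.H898.J3Cent.base h
  haveI := Fact.mk Nat.prime_three
  haveI := Fact.mk Nat.prime_two
  obtain ⟨P⟩ := (inferInstance : Nonempty (Sylow 3 G))
  obtain ⟨R17, h17⟩ := exists_card_eq (G := G) (r := 17) (by decide +kernel) (by rw [hc]; decide +kernel)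
  obtain ⟨R19, h19⟩ := exists_card_eq (G := G) (r := 19) (by decide +kernel) (by rw [hc]; decide +kernel)
  obtain ⟨z, hz⟩ := exists_prime_orderOf_dvd_card' (G := G) 2 (by rw [hc]; decide +kernel)
  obtain ⟨A, hA, t, htA, ht⟩ := exists_subgroup h
  have c17 := (cn17 h h17).2
  have c19 := (cn19 h h19).2
  have cz : Nat.card (centralizer ({z} : Set G)) = 1920 := (hM z hz).2.1
  have hP : Nat.card (P : Subgroup G) = 243 := by
    have h1 := P.card_eq_multiplicity
    rw [hc, show n_j3 = 3 ^ 5 * 206720 by decide, Nat.factorization_mul (by norm_num) (by norm_num),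
      Finsupp.add_apply, Nat.Prime.factorization_pow Nat.prime_three,
      Nat.factorization_eq_zero_of_not_dvd (n := 206720) (by norm_num)] at h1
    simpa using h1
  have c3 : 243 ∣ Nat.card (normalizer ((P : Subgroup G) : Set G)) := by
    rw [← hP]
    exact card_dvd_of_le le_normalizer
  have ne : ∀ {A : Subgroup G} {k : ℕ}, Nat.card A = k → (k != n_j3) = true → A ≠ ⊤ := by
    intro A k h1 h2 h3
    rw [h3, card_top, hc] at h1
    rw [bne_iff_ne] at h2
    exact h2 h1.symm
  have ne3 : normalizer ((P : Subgroup G) : Set G) ≠ ⊤ := by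
    intro h
    have hn : (P : Subgroup G).Normal := normalizer_eq_top_iff.1 h
    rcases hn.eq_bot_or_eq_top with h1 | h1
    · have : Nat.card (P : Subgroup G) = 1 := by rw [h1, card_bot]
      exact absurd (hP.symm.trans this) (by norm_num)
    · have : Nat.card (P : Subgroup G) = n_j3 := by rw [h1, card_top, hc]
      exact absurd (hP.symm.trans this) (by decide)
  have f3 : ∀ p ∈ [3], Full p (normalizer ((P : Subgroup G) : Set G)) := by
    intro p hp; rw [List.mem_singleton.1 hp]
    exact full_normalizer Nat.prime_three P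
  have f17 : ∀ p ∈ [17], Full p (normalizer (R17 : Set G)) := by
    intro p hp; rw [List.mem_singleton.1 hp]
    exact full_of_card hc (by decide +kernel) (by decide +kernel) h17
  have f19 : ∀ p ∈ [19], Full p (normalizer (R19 : Set G)) := by
    intro p hp; rw [List.mem_singleton.1 hp]
    exact full_of_card hc (by decide +kernel) (by decide +kernel) h19
  have f0 : ∀ {A : Subgroup G}, ∀ p ∈ ([] : List ℕ), Full p A := fun p hp => absurd hp List.not_mem_nil
  have hA17 : Apart (normalizer (R17 : Set G)) A := by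
    intro g K h1 h2
    have hb' : 8160 ∣ Nat.card K := by
      rw [← hA, ← MaxCls.card_map_conj g]
      exact card_dvd_of_le (MaxCls.map_conj_le h2)
    rcases c.over (a := 136) (b := 8160) [(2, 2), (3, 4), (19, 1)] [3078] [17] 60 (by decide +kernel)
      (c17.symm.dvd.trans (card_dvd_of_le h1)) hb' (fun p hp => (f17 p hp).mono h1) with h3 | h3
    · exact h3
    · exfalso
      rw [List.mem_singleton] at h3
      have h4 := card_mul_index K
      rw [h3, hc, show n_j3 = 16320 * 3078 by decide] at h4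
      have h5 : Nat.card K = 16320 := Nat.eq_of_mul_eq_mul_right (by norm_num) h4
      refine not16320 h h5 (h2 t htA) ?_
      rw [← ht]
      exact orderOf_injective (MulAut.conj g).toMonoidHom (MulAut.conj g).injective t
  exact sep_five (ne c17 (by decide +kernel)) (ne c19 (by decide +kernel)) ne3
    (ne cz (by decide +kernel)) (ne hA (by decide +kernel))
    (c.apart c17.symm.dvd c19.symm.dvd [(2, 4), (3, 3), (5, 1)] _ _ 60 f17 f19 (by decide +kernel))
    (c.apart c17.symm.dvd c3 [(2, 4), (5, 1), (19, 1)] _ _ 60 f17 f3 (by decide +kernel))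
    (c.apart c17.symm.dvd cz.symm.dvd [(3, 4), (19, 1)] _ _ 60 f17 f0 (by decide +kernel))
    hA17
    (c.apart c19.symm.dvd c3 [(2, 7), (5, 1), (17, 1)] _ _ 60 f19 f3 (by decide +kernel))
    (c.apart c19.symm.dvd cz.symm.dvd [(3, 3), (17, 1)] _ _ 60 f19 f0 (by decide +kernel))
    (c.apart c19.symm.dvd hA.symm.dvd [(2, 2), (3, 3)] _ _ 60 f19 f0 (by decide +kernel))
    (c.apart c3 cz.symm.dvd [(17, 1), (19, 1)] _ _ 60 f3 f0 (by decide +kernel))
    (c.apart c3 hA.symm.dvd [(2, 2), (19, 1)] _ _ 60 f3 f0 (by decide +kernel))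
    (c.apart cz.symm.dvd hA.symm.dvd [(3, 4), (19, 1)] _ _ 60 f0 f0 (by decide +kernel))

end

/-- the row `J3`, over any field with four elements -/
theorem five (B : Base) (F : Type) [Field F] [Fintype F] (hF : Fintype.card F = 4) (ω : F) (hω : ω ^ 2 + ω + 1 = 0) :
    Sep 5 (Cfsg.Spor.J3 F ω) :=
  five_of B ⟨F, inferInstance, inferInstance, ω, hF, hω, ⟨MulEquiv.refl _⟩⟩

end Cfsg.Agent.H305.SepJ3
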