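import Cfsg.Agent.H301.SY.Spor
import Cfsg.Agent.H305.SepJ1

/-!
# Row `J1` of S3846 (helper305)
-/

set_option autoImplicit false
set_option linter.style.haveILetI false
set_option linter.unusedSectionVars false
set_option linter.unusedVariables false

namespace Cfsg.Agent.H305.YJ1

open Subgroup Cfsg.Agent.H301.SY Cfsg.Agent.SignalizersComponents.ComponentExists

section Gen

variable {K L : Type*} [Group K] [Group L]

theorem closure_equiv (e : K ≃* L) (x y : K) :
    (closure ({x, y} : Set K)).map e.toMonoidHom = closure ({e x, e y} : Set L) := by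
  rw [MonoidHom.map_closure, Set.image_pair]
  rfl

theorem solvable_equiv [Finite K] [Finite L] (e : K ≃* L) {x y : K}
    (h : Group.IsSolvable ↥(closure ({e x, e y} : Set L))) : Group.IsSolvable ↥(closure ({x, y} : Set K)) := by
  rw [← closure_equiv] at h
  exact Group.isSolvable_of_isSolvable_injective
    (f := ((closure ({x, y} : Set K)).equivMapOfInjective e.toMonoidHom e.injective).toMonoidHom)
    (MulEquiv.injective _)

/-- the block lemma is invariant under isomorphisms -/
theorem blk_congr [Finite K] [Finite L] {p : ℕ} [Fact p.Prime] (e : K ≃* L) (h : Blk p K) : Blk p L := by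
  intro hcyc x y hx hy hs
  have h1 : ∀ P : Sylow p K, IsCyclic (P : Subgroup K) := by
    intro P
    obtain ⟨Q, hQ⟩ := (P.isPGroup'.map e.toMonoidHom).exists_le_sylow
    have := hcyc Q
    have h2 : IsCyclic ↥((P : Subgroup K).map e.toMonoidHom) :=
      isCyclic_of_injective (Subgroup.inclusion hQ) (Subgroup.inclusion_injective hQ)
    exact isCyclic_of_injective
      ((P : Subgroup K).equivMapOfInjective e.toMonoidHom e.injective).toMonoidHom (MulEquiv.injective _)
  have ho : ∀ z : L, orderOf (e.symm z) = orderOf z := fun z => orderOf_injective e.symm.toMonoidHom e.symm.injective z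
  have h2 := h h1 (e.symm x) (e.symm y) (by rw [ho, hx]) (by rwa [ho]) (fun g => by
    apply solvable_equiv e
    have h3 := hs (e g)
    rw [map_mul, map_mul, map_inv, e.apply_symm_apply, e.apply_symm_apply]
    exact h3)
  have h3 := congrArg e h2
  simpa using h3

theorem radIn_mono_card [Finite K] {x : K} {p : ℕ} (hx : orderOf x = p) (hd : ¬ p ∣ Nat.card K) : False :=
  hd (hx ▸ orderOf_dvd_natCard x)

/-- the number of conjugates of an element -/
theorem card_conj_mul [Finite K] (g : K) :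
    Nat.card (conjugatesOf g) * Nat.card (centralizer ({g} : Set K)) = Nat.card K := by
  classical
  have h1 : conjugatesOf g = MulAction.orbit (ConjAct K) g := by
    ext x
    rw [ConjAct.mem_orbit_conjAct, isConj_comm]
    rfl
  have h2 := Nat.card_congr (MulAction.orbitProdStabilizerEquivGroup (ConjAct K) g)
  rw [Nat.card_prod, ← h1] at h2
  have h3 : Nat.card (MulAction.stabilizer (ConjAct K) g) = Nat.card (centralizer ({g} : Set K)) := by
    rw [ConjAct.stabilizer_eq_centralizer]
    rfl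
  rw [← h3, h2]
  rfl

end Gen

/-- the facts which are used -/
structure D (G : Type*) [Group G] : Prop where
  fin : Finite G
  card : Nat.card G = 175560
  cent7 : ∀ x : G, orderOf x = 7 → Nat.card (centralizer ({x} : Set G)) = 7
  norm7 : ∀ x : G, orderOf x = 7 → Nat.card (normalizer ((zpowers x : Subgroup G) : Set G)) = 42
  syl2 : ∀ P : Sylow 2 G, Nat.card (P : Subgroup G) = 8
  norm2 : ∀ P : Sylow 2 G, 7 ∣ Nat.card (normalizer ((P : Subgroup G) : Set G))
  conj2 : ∀ x y : G, orderOf x = 2 → orderOf y = 2 → ∃ g : G, g * x * g⁻¹ = y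
  cent2 : ∀ x : G, orderOf x = 2 → Nat.card (centralizer ({x} : Set G)) = 120

section JOne

variable {G : Type*} [Group G]

theorem not_sq (d : D G) {p : ℕ} (hp : p = 5 ∨ p = 7 ∨ p = 11 ∨ p = 19) : ¬ p ^ 2 ∣ Nat.card G := by
  rw [d.card]
  rcases hp with rfl | rfl | rfl | rfl <;> decide +kernel

/-- `M0` by the orders of the primes -/
theorem m0 (d : D G) {p : ℕ} [Fact p.Prime] (hp : p = 5 ∨ p = 11 ∨ p = 19) (hb : Blk p G) {x : G} (hx : orderOf x = p)
    (hY : YE p x) : M0 x := by
  haveI := d.fin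
  have hcyc : ∀ P : Sylow p G, IsCyclic (P : Subgroup G) := cyclic_of_card (not_sq d (by tauto))
  refine M0.of_triv_blk hcyc hb hx hY fun t ht htp htd R hRt hxR => ?_
  have key : ∀ i : ℕ, 0 < i → t ^ i ∣ Nat.card G → ¬ t ^ i ≡ 1 [MOD p] := by
    intro i hi h1 h2
    have hcard := d.card
    rw [hcard] at h1
    have hi4 : t ^ i ∣ 175560 := h1
    rcases hp with rfl | rfl | rfl
    · have : t = 2 := by
        have h3 : t ∣ 2 ^ 2 := htd
        exact (Nat.prime_dvd_prime_iff_eq ht Nat.prime_two).1 (ht.dvd_of_dvd_pow h3)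
      subst this
      have h4 : i ≤ 3 := by
        by_contra h5
        have h6 : (2 : ℕ) ^ 4 ∣ 175560 := (pow_dvd_pow 2 (by omega)).trans h1
        revert h6
        decide +kernel
      interval_cases i <;> revert h2 <;> decide
    · have h3 : t ∣ 2 * 5 := htd
      rcases (ht.dvd_mul).1 h3 with h4 | h4
      · have := (Nat.prime_dvd_prime_iff_eq ht Nat.prime_two).1 h4
        subst this
        have h4 : i ≤ 3 := by
          by_contra h5
          have h6 : (2 : ℕ) ^ 4 ∣ 175560 := (pow_dvd_pow 2 (by omega)).trans h1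
          revert h6
          decide +kernel
        interval_cases i <;> revert h2 <;> decide
      · have := (Nat.prime_dvd_prime_iff_eq ht Nat.prime_five).1 h4
        subst this
        have h4 : i ≤ 1 := by
          by_contra h5
          have h6 : (5 : ℕ) ^ 2 ∣ 175560 := (pow_dvd_pow 5 (by omega)).trans h1
          revert h6
          decide +kernel
        interval_cases i
        revert h2
        decide
    · have h3 : t ∣ 2 * 3 ^ 2 := htd
      rcases (ht.dvd_mul).1 h3 with h4 | h4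
      · have := (Nat.prime_dvd_prime_iff_eq ht Nat.prime_two).1 h4
        subst this
        have h4 : i ≤ 3 := by
          by_contra h5
          have h6 : (2 : ℕ) ^ 4 ∣ 175560 := (pow_dvd_pow 2 (by omega)).trans h1
          revert h6
          decide +kernel
        interval_cases i <;> revert h2 <;> decide
      · have := (Nat.prime_dvd_prime_iff_eq ht Nat.prime_three).1 (ht.dvd_of_dvd_pow h4)
        subst this
        have h4 : i ≤ 1 := by
          by_contra h5
          have h6 : (3 : ℕ) ^ 2 ∣ 175560 := (pow_dvd_pow 3 (by omega)).trans h1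
          revert h6
          decide +kernel
        interval_cases i
        revert h2
        decide
  exact centralises_of_card hx ht htp key hRt hxR

/-- an `x`-invariant `t`-subgroup, `t ≠ 7` : trivial or a Sylow 2-subgroup -/
theorem inv_sub (d : D G) [Fact (Nat.Prime 7)] (hb : Blk 7 G) {x : G} (hx : orderOf x = 7) (hY : YE 7 x) {t : ℕ} (ht : t.Prime)
    (ht7 : t ≠ 7) {R : Subgroup G} (hRt : IsPGroup t R) (hxR : ∀ a ∈ R, x * a * x⁻¹ ∈ R) (hR : R ≠ ⊥) :
    t = 2 ∧ Nat.card R = 8 := by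
  haveI := d.fin
  haveI := Fact.mk ht
  have hcyc : ∀ P : Sylow 7 G, IsCyclic (P : Subgroup G) := cyclic_of_card (not_sq d (by tauto))
  have hcard := d.card
  have hnc : ¬ ∀ a ∈ R, x * a = a * x := by
    intro h
    apply hR
    have h1 : R ≤ centralizer ({x} : Set G) := by
      intro a ha
      rw [mem_centralizer_iff]
      intro y hy
      rw [Set.mem_singleton_iff.1 hy, h a ha]
    have h2 := card_dvd_of_le h1
    rw [d.cent7 x hx] at h2
    obtain ⟨n, hn⟩ := hRt.exists_card_eq
    have h3 : n = 0 := by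
      by_contra h4
      exact ht7 ((Nat.prime_dvd_prime_iff_eq ht Fact.out).1 (((dvd_pow_self t h4).trans (dvd_of_eq hn.symm)).trans h2))
    rw [h3, pow_zero] at hn
    exact eq_bot_of_card_eq _ hn
  -- `t` divides 6
  have ht6 : t ∣ 6 := by
    by_contra htd
    apply hnc
    intro a ha
    have h1 : a ^ (7 - 1) = 1 := by
      refine pow_eq_one_of_blk hcyc hb hx hY ht ht7 ?_ (isSolvable_pair (isSolvable_of_isPGroup hRt) hxR ha)
      obtain ⟨k, hk⟩ := (IsPGroup.iff_orderOf.1 hRt) ⟨a, ha⟩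
      exact ⟨k, by rw [← hk, Subgroup.orderOf_mk]⟩
    obtain ⟨k, hk⟩ := (IsPGroup.iff_orderOf.1 hRt) ⟨a, ha⟩
    rw [Subgroup.orderOf_mk] at hk
    have h2 : orderOf a ∣ 6 := orderOf_dvd_of_pow_eq_one h1
    have h3 : orderOf a = 1 := by
      rw [hk] at h2 ⊢
      rcases Nat.eq_zero_or_pos k with h4 | h4
      · rw [h4, pow_zero]
      · exact absurd ((dvd_pow_self t h4.ne').trans h2) htd
    rw [orderOf_eq_one_iff] at h3
    rw [h3, mul_one, one_mul]
  have h3 : t ∣ 2 * 3 := ht6
  have ht2 : t = 2 := by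
    rcases (ht.dvd_mul).1 h3 with h4 | h4
    · exact (Nat.prime_dvd_prime_iff_eq ht Nat.prime_two).1 h4
    · exfalso
      have := (Nat.prime_dvd_prime_iff_eq ht Nat.prime_three).1 h4
      subst this
      apply hnc
      refine centralises_of_card hx ht ht7 ?_ hRt hxR
      intro i hi h1 h2
      rw [hcard] at h1
      have h4 : i ≤ 1 := by
        by_contra h5
        have h6 : (3 : ℕ) ^ 2 ∣ 175560 := (pow_dvd_pow 3 (by omega)).trans h1
        revert h6
        decide +kernel
      interval_cases i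
      revert h2
      decide
  refine ⟨ht2, ?_⟩
  subst ht2
  obtain ⟨n, hn⟩ := hRt.exists_card_eq
  have h8 : Nat.card R ∣ 175560 := by rw [← hcard]; exact card_subgroup_dvd_card R
  have hn3 : n ≤ 3 := by
    by_contra h5
    have h6 : (2 : ℕ) ^ 4 ∣ 175560 := (pow_dvd_pow 2 (by omega)).trans (hn ▸ h8)
    revert h6
    decide +kernel
  by_contra h9
  apply hnc
  have h10 : n ≤ 2 := by
    by_contra h11
    apply h9
    rw [hn, (by omega : n = 3)]
    rfl
  -- the fixed points have index 1
  have hxp : x ^ 7 = 1 := by rw [← hx]; exact pow_orderOf_eq_one x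
  have hpR : ¬ 7 ∣ Nat.card R := by
    rw [hn]
    interval_cases n <;> decide
  have h1 := index_fixed hpR (cjA R x hxR) ⟨1, by rw [pow_one]; exact cjA_pow R x hxR hxp⟩
  have h12 : (fixS (cjA R x hxR)).index ∣ 2 ^ n := by rw [← hn]; exact Subgroup.index_dvd_card _
  obtain ⟨i, hi, h13⟩ := (Nat.dvd_prime_pow Nat.prime_two).1 h12
  rw [h13] at h1
  have h14 : i = 0 := by
    have h15 : i ≤ 2 := by omega
    interval_cases i
    · rfl
    · revert h1; decide
    · revert h1; decide
  rw [h14, pow_zero, Subgroup.index_eq_one] at h13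
  intro a ha
  have h3 : (⟨a, ha⟩ : R) ∈ fixS (cjA R x hxR) := by rw [h13]; exact mem_top _
  have h4 : x * a * x⁻¹ = a := by
    have h5 := congrArg Subtype.val (mem_fixS.1 h3)
    rwa [cjA_coe] at h5
  calc x * a = (x * a * x⁻¹) * x := by group
    _ = a * x := by rw [h4]

/-- an involution `y` with `⟨x, y⟩` solvable normalises `⟨x⟩` or lies in an `x`-invariant Sylow 2-subgroup -/
theorem dich (d : D G) [Fact (Nat.Prime 7)] (hb : Blk 7 G) {x : G} (hx : orderOf x = 7) (hY : YE 7 x) {y : G}
    (hy : orderOf y = 2) (hs : Group.IsSolvable ↥(Subgroup.closure ({x, y} : Set G))) :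
    y ∈ normalizer ((zpowers x : Subgroup G) : Set G) ∨
      ∃ R : Subgroup G, Nat.card R = 8 ∧ (∀ a ∈ R, x * a * x⁻¹ ∈ R) ∧ y ∈ R := by
  haveI := d.fin
  have hcyc : ∀ P : Sylow 7 G, IsCyclic (P : Subgroup G) := cyclic_of_card (not_sq d (by tauto))
  have hxp : x ^ 7 = 1 := by rw [← hx]; exact pow_orderOf_eq_one x
  have hxH : x ∈ Subgroup.closure ({x, y} : Set G) := Subgroup.subset_closure (by simp)
  have hyH : y ∈ Subgroup.closure ({x, y} : Set G) := Subgroup.subset_closure (by simp)
  obtain ⟨N, hNH, hNn, hpN, hk⟩ := cyc_core' hcyc hx hs hxH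
  by_cases hN : N = ⊥
  · left
    obtain ⟨k, n, hn, h1⟩ := hk y hyH
    rw [hN, mem_bot] at hn
    rw [hn, mul_one] at h1
    refine mem_norm ?_
    exact mem_normalizer_zpowers (h1 ▸ zpow_mem (mem_zpowers x) k)
  · right
    -- `N` is a 2-group
    have h2 : Nat.card N = 2 ^ (Nat.card N).factorization 2 := by
      refine Nat.eq_of_factorization_eq Nat.card_pos.ne' (by positivity) fun t => ?_
      rw [Nat.factorization_pow, Nat.prime_two.factorization]
      simp only [Finsupp.smul_apply, smul_eq_mul]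
      by_cases ht : t.Prime
      swap
      · rw [Nat.factorization_eq_zero_of_not_prime _ ht, Finsupp.single_apply,
          if_neg (by rintro rfl; exact ht Nat.prime_two), mul_zero]
      by_cases ht2 : t = 2
      · rw [ht2, Finsupp.single_eq_same, mul_one]
      rw [Finsupp.single_apply, if_neg (fun h => ht2 h.symm), mul_zero]
      by_cases ht7 : t = 7
      · rw [ht7]
        exact Nat.factorization_eq_zero_of_not_dvd hpN
      obtain ⟨S, hSN, hSt, hSc, hSx⟩ := exists_sylow_in hxp (hNn x hxH) hpN ht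
      by_cases hS : S = ⊥
      · rw [hS, card_bot] at hSc
        by_contra h0
        exact absurd hSc (Nat.one_lt_pow h0 ht.one_lt).ne
      · exact absurd (inv_sub d hb hx hY ht ht7 hSt hSx hS).1 ht2
    have hN2 : IsPGroup 2 N := IsPGroup.of_card h2
    obtain ⟨-, h8⟩ := inv_sub d hb hx hY Nat.prime_two (by norm_num) hN2 (hNn x hxH) hN
    refine ⟨N, h8, hNn x hxH, ?_⟩
    -- `N` is a Sylow 2-subgroup
    haveI := Fact.mk Nat.prime_two
    have hyN : ∀ a ∈ N, y * a * y⁻¹ ∈ N := hNn y hyH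
    have h3 : IsPGroup 2 ↥(zpowers y ⊔ N) := by
      have h4 : IsPGroup 2 ↥(zpowers y) := IsPGroup.of_card (n := 1) (by rw [Nat.card_zpowers, hy, pow_one])
      refine IsPGroup.to_sup_of_normal_right' h4 hN2 ?_
      rw [zpowers_le]
      exact mem_norm hyN
    obtain ⟨P, hP⟩ := h3.exists_le_sylow
    have h5 : N = (P : Subgroup G) := by
      apply eq_of_le_of_card_ge (le_sup_right.trans hP)
      rw [h8, d.syl2 P]
    rw [h5]
    exact hP (mem_sup_left (mem_zpowers y))

/-- the `x`-invariant Sylow 2-subgroups are conjugate under the normalizer of `⟨x⟩` -/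
theorem conj_inv (d : D G) [Fact (Nat.Prime 7)] {x : G} (hx : orderOf x = 7) {T R : Subgroup G}
    (hT : Nat.card T = 8) (hR : Nat.card R = 8) (hxT : ∀ a ∈ T, x * a * x⁻¹ ∈ T) (hxR : ∀ a ∈ R, x * a * x⁻¹ ∈ R) :
    ∃ n ∈ normalizer ((zpowers x : Subgroup G) : Set G), ∀ y ∈ R, n * y * n⁻¹ ∈ T := by
  haveI := d.fin
  haveI := Fact.mk Nat.prime_two
  have hcyc : ∀ P : Sylow 7 G, IsCyclic (P : Subgroup G) := cyclic_of_card (not_sq d (by tauto))
  have hT2 : IsPGroup 2 T := IsPGroup.of_card (n := 3) hT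
  have hR2 : IsPGroup 2 R := IsPGroup.of_card (n := 3) hR
  obtain ⟨P, hP⟩ := hT2.exists_le_sylow
  obtain ⟨Q, hQ⟩ := hR2.exists_le_sylow
  have hTP : T = (P : Subgroup G) := eq_of_le_of_card_ge hP (by rw [hT, d.syl2 P])
  have hRQ : R = (Q : Subgroup G) := eq_of_le_of_card_ge hQ (by rw [hR, d.syl2 Q])
  obtain ⟨h, hh⟩ := MulAction.exists_smul_eq G Q P
  have hconj : ∀ y : G, y ∈ R ↔ h * y * h⁻¹ ∈ T := by
    intro y
    rw [hTP, ← hh, Sylow.coe_subgroup_smul, hRQ]
    constructor
    · intro hy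
      exact ⟨y, hy, rfl⟩
    · rintro ⟨z, hz, h1⟩
      have h2 : z = y := (MulAut.conj h).injective h1
      rwa [← h2]
  set M : Subgroup G := normalizer (T : Set G) with hM
  have hxM : x ∈ M := mem_norm hxT
  have hxM' : h * x * h⁻¹ ∈ M := by
    refine mem_norm fun a ha => ?_
    have h1 : h⁻¹ * a * h ∈ R := by
      rw [hconj]
      have : h * (h⁻¹ * a * h) * h⁻¹ = a := by group
      rwa [this]
    have h2 := (hconj _).1 (hxR _ h1)
    have h3 : h * (x * (h⁻¹ * a * h) * x⁻¹) * h⁻¹ = h * x * h⁻¹ * a * (h * x * h⁻¹)⁻¹ := by group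
    rwa [h3] at h2
  obtain ⟨m, hm⟩ := exists_conj_mem (p := 7) (fun S => cyclic_of_le hcyc M S)
    (x := (⟨h * x * h⁻¹, hxM'⟩ : M)) (by
      rw [Subgroup.orderOf_mk]
      have : h * x * h⁻¹ = MulAut.conj h x := rfl
      rw [this, ← hx]
      exact orderOf_injective (MulAut.conj h).toMonoidHom (MulAut.conj h).injective x)
    (L := zpowers (⟨x, hxM⟩ : M)) (by rw [Nat.card_zpowers, Subgroup.orderOf_mk, hx])
  obtain ⟨k, hk⟩ := mem_zpowers_iff.1 hm
  have h4 : ((m : G) * h) * x * ((m : G) * h)⁻¹ = x ^ k := by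
    have h5 := congrArg Subtype.val hk
    push_cast at h5
    rw [h5]
    group
  refine ⟨(m : G) * h, ?_, ?_⟩
  · refine mem_norm (mem_normalizer_zpowers ?_)
    rw [h4]
    exact zpow_mem (mem_zpowers x) k
  · intro y hy
    have h1 := (hconj y).1 hy
    have h2 := (mem_normalizer_iff.1 m.2 _).1 h1
    have h3 : (m : G) * h * y * ((m : G) * h)⁻¹ = (m : G) * (h * y * h⁻¹) * (m : G)⁻¹ := by group
    rwa [h3]

/-- no element of order 7 -/
theorem seven (d : D G) [Fact (Nat.Prime 7)] (hb : Blk 7 G) : NoE 7 G := by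
  haveI := d.fin
  haveI := Fact.mk Nat.prime_two
  classical
  intro x hx hR hY
  have hcyc : ∀ P : Sylow 7 G, IsCyclic (P : Subgroup G) := cyclic_of_card (not_sq d (by tauto))
  obtain ⟨P⟩ := (inferInstance : Nonempty (Sylow 2 G))
  obtain ⟨g, hg⟩ := exists_conj_mem (p := 7) hcyc hx (d.norm2 P)
  -- the Sylow 2-subgroup which is normalised by `x`
  set T : Subgroup G := (P : Subgroup G).map (MulAut.conj g⁻¹).toMonoidHom with hT
  have hTc : Nat.card T = 8 := by
    rw [hT, Subgroup.card_map_of_injective (MulAut.conj g⁻¹).injective, d.syl2 P]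
  have hxT : ∀ a ∈ T, x * a * x⁻¹ ∈ T := by
    rintro _ ⟨a, ha, rfl⟩
    refine ⟨g * x * g⁻¹ * a * (g * x * g⁻¹)⁻¹, (mem_normalizer_iff.1 hg a).1 ha, ?_⟩
    change g⁻¹ * (g * x * g⁻¹ * a * (g * x * g⁻¹)⁻¹) * g⁻¹⁻¹ = x * (g⁻¹ * a * g⁻¹⁻¹) * x⁻¹
    group
  obtain ⟨y0, hy0⟩ := exists_prime_orderOf_dvd_card' (G := T) 2 (by rw [hTc]; norm_num)
  have hy0' : orderOf (y0 : G) = 2 := by rw [Subgroup.orderOf_coe, hy0]
  have hs : Group.IsSolvable ↥(Subgroup.closure ({x, (y0 : G)} : Set G)) :=
    isSolvable_pair (isSolvable_of_isPGroup (IsPGroup.of_card (p := 2) (n := 3) hTc)) hxT y0.2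
  have hY2 := hY 2 Nat.prime_two (by norm_num) y0 ⟨1, by rw [hy0', pow_one]⟩ hs
  set N := normalizer ((zpowers x : Subgroup G) : Set G) with hN
  let Φ : N × T → G := fun a => (a.1 : G)⁻¹ * a.2 * a.1
  have hsub : conjugatesOf (y0 : G) ⊆ (N : Set G) ∪ Set.range Φ := by
    intro y hy
    obtain ⟨g', hg'⟩ := isConj_iff.1 (show IsConj (y0 : G) y from hy)
    have h1 := hY2 g'
    rw [hg'] at h1
    have h2 : orderOf y = 2 := by
      rw [← hg', ← hy0']
      exact orderOf_injective (MulAut.conj g').toMonoidHom (MulAut.conj g').injective _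
    rcases dich d hb hx hY h2 h1 with h3 | ⟨R, hRc, hxR, hyR⟩
    · exact Or.inl h3
    · right
      obtain ⟨n, hn, h4⟩ := conj_inv d hx hTc hRc hxT hxR
      exact ⟨(⟨n, hn⟩, ⟨_, h4 y hyR⟩), by change n⁻¹ * (n * y * n⁻¹) * n = y; group⟩
  have h1 := Set.ncard_le_ncard hsub (Set.toFinite _)
  have h2 := Set.ncard_union_le (N : Set G) (Set.range Φ)
  have h3 : Set.ncard (Set.range Φ) ≤ 42 * 8 := by
    have h4 := Nat.card_le_card_of_surjective (Set.rangeFactorization Φ) Set.rangeFactorization_surjective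
    rw [Nat.card_prod, hTc, d.norm7 x hx, Nat.card_coe_set_eq] at h4
    exact h4
  have h4 : Set.ncard (N : Set G) = 42 := by
    rw [← Nat.card_coe_set_eq]
    exact d.norm7 x hx
  have h5 := card_conj_mul (y0 : G)
  rw [d.cent2 _ hy0', d.card, Nat.card_coe_set_eq] at h5
  omega

theorem row (d : D G) [IsSimpleGroup G] (hna : ¬ IsMulCommutative G) {p : ℕ} [hp : Fact p.Prime] (hp5 : 5 ≤ p)
    (hb : Blk p G) : NoE p G := by
  haveI := d.fin
  by_cases h7 : p = 7
  · subst h7
    exact seven d hb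
  by_cases h : p = 5 ∨ p = 11 ∨ p = 19
  · exact NoE.of_m0 hna (cyclic_of_card (not_sq d (by tauto))) fun x hx _ hY => m0 d h hb hx hY
  · intro x hx _ _
    have h1 : p ∣ 175560 := by
      rw [← d.card, ← hx]
      exact orderOf_dvd_natCard x
    have h2 : p ∈ Nat.primeFactors 175560 := Nat.mem_primeFactors.2 ⟨hp.out, h1, by norm_num⟩
    have h3 : Nat.primeFactors 175560 = {2, 3, 5, 7, 11, 19} := by
      decide +kernel
    rw [h3] at h2
    simp only [Finset.mem_insert, Finset.mem_singleton] at h2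
    omega

end JOne

open Cfsg.Agent.H305.SepJ1 in
/-- the facts for `J1` -/
theorem dat : D Cfsg.Spor.J1 where
  fin := fin
  card := by rw [card]; rfl
  cent7 := fun x hx => by
    rw [← cent_zpowers]
    exact (cn7 (by rw [Nat.card_zpowers, hx])).1
  norm7 := fun x hx => (cn7 (by rw [Nat.card_zpowers, hx])).2
  syl2 := fun P => (Cfsg.Agent.UGT.EndJ1.Data.bal.syl P).1
  norm2 := fun P => (by norm_num : 7 ∣ 56).trans (n2 P)
  conj2 := fun x y hx hy => local'.conj x y hx hy
  cent2 := fun x hx => card_cent_two hx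

/-- the row `J1` -/
theorem noE_j1 {K : Type*} [Group K] [Finite K] [IsSimpleGroup K] (h : Cfsg.Spor.IsoJ1 K) {p : ℕ} [Fact p.Prime]
    (hp : 5 ≤ p) (hb : Cfsg.Agent.H301.SY.Blk p K) (hO : Cfsg.Agent.H301.SY.ThO p K) :
    Cfsg.Agent.H301.SY.NoE p K := by
  obtain ⟨e⟩ := h
  haveI := Cfsg.Agent.H305.SepJ1.fin
  haveI := Cfsg.Agent.H305.SepJ1.simple
  refine NoE.congr e (row dat (fun h => ?_) hp (blk_congr e hb))
  exact Cfsg.Agent.H305.SepJ1.na fun a b => h.is_comm.comm a b

end Cfsg.Agent.H305.YJ1
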