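import Cfsg.Agent.H305.YJ3
import Cfsg.Agent.KFacts.J2.Facts
import Cfsg.Agent.J2Type.FiveFus
import Cfsg.Agent.J2Type.ThreeF

/-!
# Row `J2` of S3846 (helper305)
-/

set_option autoImplicit false
set_option linter.style.haveILetI false
set_option linter.unusedSectionVars false
set_option linter.unusedVariables false

namespace Cfsg.Agent.H305.YJ2

open Subgroup Cfsg.Agent.H301.SY Cfsg.Agent.H459.Rad Cfsg.Agent.H305.YTools
open Cfsg.Agent.J3Type.OneClass Cfsg.Agent.J2Type.Model Cfsg.Agent.J2Type Cfsg.Agent.J2Type.Base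

variable {K : Type*} [Group K] [Finite K]

/-- two elements which generate conjugate subgroups have centralizers of the same order -/
theorem card_cent_of_zpowers {a b x y : K}
    (h : (zpowers x).map (MulAut.conj a).toMonoidHom = (zpowers y).map (MulAut.conj b).toMonoidHom) :
    Nat.card (centralizer ({x} : Set K)) = Nat.card (centralizer ({y} : Set K)) := by
  rw [MonoidHom.map_zpowers, MonoidHom.map_zpowers] at h
  have h1 : ∀ (c w : K), Nat.card (centralizer ({w} : Set K)) =
      Nat.card (centralizer ({(MulAut.conj c).toMonoidHom w} : Set K)) := fun c w =>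
    card_centralizer (MulAut.conj c) w
  rw [h1 a x, h1 b y, ← SepJ1.cent_zpowers, ← SepJ1.cent_zpowers, h]

/-- every element of order 5 commutes with a conjugate of `z` or `u` -/
theorem five_comm {z u : K} (F : Fus z u) {x : K} (hx : orderOf x = 5) :
    ∃ g : K, g * x * g⁻¹ * z = z * (g * x * g⁻¹) ∨ g * x * g⁻¹ * u = u * (g * x * g⁻¹) := by
  haveI : Fact (Nat.Prime 5) := ⟨Nat.prime_five⟩
  obtain ⟨f, U, V, H0, FF⟩ := CentU.main F
  have h60 : Nat.card H0 = 60 := by
    have h1 := Order.card_centralizer_u F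
    rw [FF.str.card] at h1
    omega
  obtain ⟨w', hw'⟩ := exists_prime_orderOf_dvd_card' (G := H0) 5 (by rw [h60]; norm_num)
  obtain ⟨w, hw⟩ := exists_prime_orderOf_dvd_card' (G := centralizer ({z} : Set K)) 5 (by rw [F.cardC]; norm_num)
  have hw'5 : orderOf (w' : K) = 5 := by rw [orderOf_coe]; exact hw'
  have hw5 : orderOf (w : K) = 5 := by rw [orderOf_coe]; exact hw
  have hwz : (w : K) * z = z * w := mem_centralizer_singleton_iff.mp w.2
  have hwu : (w' : K) * u = u * w' := mem_centralizer_singleton_iff.mp (FF.str.le w'.2)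
  have hcw := FiveFus.not_four_dvd F hw5 hwz
  have hcw' : 4 ∣ Nat.card (centralizer ({(w' : K)} : Set K)) := by
    rcases (Cent5.good_of_mem F FF h60 w'.2 hw'5).card_centralizer_cases with h1 | h1 | h1 <;> rw [h1] <;> norm_num
  have hne : Nat.card (centralizer ({(w : K)} : Set K)) ≠ Nat.card (centralizer ({(w' : K)} : Set K)) := by
    intro h1
    exact hcw (h1 ▸ hcw')
  obtain ⟨P⟩ := (inferInstance : Nonempty (Sylow 5 K))
  obtain ⟨-, -, -, X, Y, hX, hY, hXY, hall⟩ := FiveFus.sylow_five F P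
  have hz5 : ∀ y : K, orderOf y = 5 → Nat.card (zpowers y) = 5 := fun y hy => by rw [Nat.card_zpowers, hy]
  obtain ⟨a, ha⟩ := hall (zpowers (w : K)) (hz5 _ hw5)
  obtain ⟨b, hb⟩ := hall (zpowers (w' : K)) (hz5 _ hw'5)
  obtain ⟨c, hc⟩ := hall (zpowers x) (hz5 _ hx)
  have key : ∀ (y v d : K), y * v = v * y →
      (zpowers x).map (MulAut.conj c).toMonoidHom = (zpowers y).map (MulAut.conj d).toMonoidHom →
      (d⁻¹ * c) * x * (d⁻¹ * c)⁻¹ * v = v * ((d⁻¹ * c) * x * (d⁻¹ * c)⁻¹) := by
    intro y v d hyv h1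
    have h2 : c * x * c⁻¹ ∈ (zpowers y).map (MulAut.conj d).toMonoidHom := by
      rw [← h1]
      exact ⟨x, mem_zpowers x, rfl⟩
    obtain ⟨y', hy', h3⟩ := h2
    obtain ⟨k, rfl⟩ := mem_zpowers_iff.1 hy'
    have h4 : (d⁻¹ * c) * x * (d⁻¹ * c)⁻¹ = y ^ k := by
      have h5 : d * y ^ k * d⁻¹ = c * x * c⁻¹ := h3
      calc (d⁻¹ * c) * x * (d⁻¹ * c)⁻¹ = d⁻¹ * (c * x * c⁻¹) * d := by group
        _ = y ^ k := by rw [← h5]; group
    rw [h4]
    exact (show Commute y v from hyv).zpow_left k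
  rcases ha with ha | ha <;> rcases hb with hb | hb
  · exact absurd (card_cent_of_zpowers (ha.trans hb.symm)) hne
  · rcases hc with hc | hc
    · exact ⟨a⁻¹ * c, Or.inl (key _ _ _ hwz (hc.trans ha.symm))⟩
    · exact ⟨b⁻¹ * c, Or.inr (key _ _ _ hwu (hc.trans hb.symm))⟩
  · rcases hc with hc | hc
    · exact ⟨b⁻¹ * c, Or.inr (key _ _ _ hwu (hc.trans hb.symm))⟩
    · exact ⟨a⁻¹ * c, Or.inl (key _ _ _ hwz (hc.trans ha.symm))⟩
  · exact absurd (card_cent_of_zpowers (ha.trans hb.symm)) hne

/-- the radical of `2² × A₅` -/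
theorem not_five_dvd_rad_u {z u : K} (F : Fus z u) : ¬ 5 ∣ Nat.card (radIn (centralizer ({u} : Set K))) := by
  haveI : Fact (Nat.Prime 5) := ⟨Nat.prime_five⟩
  obtain ⟨H0, S⟩ := CentU.exists_hstr F
  obtain ⟨-, h240, h60, ⟨e⟩⟩ := Order.order_of_fus F S
  haveI h1 : IsSimpleGroup (alternatingGroup (Fin 5)) := alternatingGroup.isSimpleGroup (by simp)
  haveI : Nontrivial H0 := e.toEquiv.nontrivial
  haveI h2 : IsSimpleGroup H0 := IsSimpleGroup.isSimpleGroup_of_surjective e.symm.toMonoidHom e.symm.surjective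
  have hna : ¬ IsMulCommutative H0 := by
    intro h
    have h3 : ∀ a b : alternatingGroup (Fin 5), a * b = b * a := by
      intro a b
      apply e.symm.injective
      rw [map_mul, map_mul]
      exact h.is_comm.comm _ _
    revert h3
    decide +kernel
  refine not_dvd_radIn_of_simple S.le S.conj_mem hna ?_
  have h3 := card_mul_index (H0.subgroupOf (centralizer ({u} : Set K)))
  rw [Nat.card_congr (subgroupOfEquivOfLe S.le).toEquiv, h240, h60] at h3
  have h4 : H0.relIndex (centralizer ({u} : Set K)) = 4 := by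
    unfold relIndex
    omega
  rw [h4]
  norm_num

/-- a Sylow 2-subgroup whose centre has order at most 2 -/
theorem exists_sylow_two {t : K} {Q : Subgroup (centralizer ({t} : Set K))}
    {v : Fin 5 → centralizer ({t} : Set K)} {ρ : centralizer ({t} : Set K) →* SP} (M : IsModel Q (zc t) v ρ)
    (hc : Nat.card (centralizer ({t} : Set K)) = 1920) (hK : ¬ 256 ∣ Nat.card K) :
    ∃ T : Sylow 2 K, Nat.card T = 2 ^ 7 ∧ ∀ W : Subgroup K, W ≤ T →
      (∀ w ∈ W, ∀ u ∈ (T : Subgroup K), w * u = u * w) → Nat.card W ≤ 2 := by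
  haveI := Fact.mk Nat.prime_two
  obtain ⟨S⟩ := (inferInstance : Nonempty (Sylow 2 (centralizer ({t} : Set K))))
  have hS : Nat.card (S : Subgroup (centralizer ({t} : Set K))) = 2 ^ 7 := by
    rw [S.card_eq_multiplicity, hc]
    have : (1920 : ℕ) = 2 ^ 7 * 15 := by norm_num
    rw [this, Nat.factorization_mul (by norm_num) (by norm_num), Nat.prime_two.factorization_pow]
    simp [Nat.factorization_eq_zero_of_not_dvd (show ¬ 2 ∣ 15 by norm_num)]
  have hQS : Q ≤ (S : Subgroup _) := by
    haveI : Q.Normal := normal_Q M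
    exact le_sylow_of_normal Q (Cfsg.Agent.KFacts.J2.Facts.isPGroup_Q M) S
  obtain ⟨T, hT⟩ := (S.isPGroup'.map (centralizer ({t} : Set K)).subtype).exists_le_sylow
  have hcS : Nat.card ((S : Subgroup (centralizer ({t} : Set K))).map (centralizer ({t} : Set K)).subtype) = 2 ^ 7 := by
    rw [Subgroup.card_map_of_injective (centralizer ({t} : Set K)).subtype_injective, hS]
  have hcT : Nat.card T = 2 ^ 7 := by
    obtain ⟨n, hn⟩ := T.isPGroup'.exists_card_eq
    have h1 := card_dvd_of_le hT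
    have h2 := Subgroup.card_subgroup_dvd_card (T : Subgroup K)
    change Nat.card (T : Subgroup K) = _
    rw [hn] at h1 h2 ⊢
    rw [hcS] at h1
    have h3 : 7 ≤ n := (Nat.pow_dvd_pow_iff_le_right (by norm_num)).1 h1
    have h4 : ¬ 8 ≤ n := fun h5 => hK ((pow_dvd_pow 2 h5).trans h2)
    rw [show n = 7 by omega]
  have hTS : (T : Subgroup K) = (S : Subgroup (centralizer ({t} : Set K))).map (centralizer ({t} : Set K)).subtype :=
    (eq_of_le_of_card_ge hT (by rw [hcS]; exact hcT.le)).symm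
  refine ⟨T, hcT, fun W hW hcomm => ?_⟩
  have h1 : ∀ w ∈ W, w = 1 ∨ w = t := by
    intro w hw
    have h2 := hW hw
    rw [hTS] at h2
    obtain ⟨c, hc', h3⟩ := h2
    have h4 : c = 1 ∨ c = zc t := by
      refine Cfsg.Agent.KFacts.QMinus.cent_Q M fun i => Subtype.ext ?_
      have h5 : ((v i : centralizer ({t} : Set K)) : K) ∈ (T : Subgroup K) := by
        rw [hTS]
        exact ⟨v i, hQS (M.v_mem i), rfl⟩
      have h6 := hcomm w hw _ h5
      rw [← h3] at h6
      exact h6
    rcases h4 with h5 | h5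
    · left
      rw [← h3, h5]
      rfl
    · right
      rw [← h3, h5]
      rfl
  have h2 : (W : Set K) ⊆ {1, t} := by
    intro w hw
    rcases h1 w hw with h | h
    · exact Or.inl h
    · exact Or.inr h
  have h3 := Set.ncard_le_ncard h2 (Set.toFinite _)
  have h4 : Set.ncard ({1, t} : Set K) ≤ 2 := (Set.ncard_insert_le 1 {t}).trans (by rw [Set.ncard_singleton])
  rw [← Nat.card_coe_set_eq] at h3
  exact h3.trans h4

/-- the row `J2` -/
theorem noE_j2 {K : Type*} [Group K] [Finite K] [IsSimpleGroup K] (h : Cfsg.Spor.IsoJ2 K) {p : ℕ} [hpF : Fact p.Prime]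
    (hp : 5 ≤ p) (hb : Cfsg.Agent.H301.SY.Blk p K) (hO : Cfsg.Agent.H301.SY.ThO p K) :
    Cfsg.Agent.H301.SY.NoE p K := by
  obtain ⟨t, u, Q, v, ρ, D⟩ := Cfsg.Agent.KFacts.J2.Facts.exists_dat_of h
  have F := D.F
  have M := D.M
  have hc : Nat.card K = 604800 := Order.card_of_fus F
  have hna : ¬ IsMulCommutative K := YJ3.na F.hz (by rw [F.cardC, hc]; norm_num)
  refine noE_of_mem_primeFactors hc fun hpn => ?_
  have h3 : Nat.primeFactors 604800 = {2, 3, 5, 7} := by decide +kernel
  rw [h3] at hpn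
  simp only [Finset.mem_insert, Finset.mem_singleton] at hpn
  rcases hpn with rfl | rfl | rfl | rfl
  · omega
  · omega
  · refine NoE.of_even (center_eq_bot hna) fun x hx => ?_
    obtain ⟨g, hg⟩ := five_comm F hx
    have key : ∀ v : K, v ≠ 1 → ¬ 5 ∣ Nat.card (radIn (centralizer ({v} : Set K))) →
        g * x * g⁻¹ * v = v * (g * x * g⁻¹) → ∃ u : K, u ≠ 1 ∧ u * x = x * u ∧
          ¬ 5 ∣ Nat.card (radIn (centralizer ({u} : Set K))) := by
      intro v hv hr hgv
      refine ⟨g⁻¹ * v * g⁻¹⁻¹, ?_, ?_, ?_⟩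
      · intro h1
        apply hv
        have h2 : v = g * (g⁻¹ * v * g⁻¹⁻¹) * g⁻¹ := by group
        rw [h2, h1]
        group
      · calc g⁻¹ * v * g⁻¹⁻¹ * x = g⁻¹ * (v * (g * x * g⁻¹)) * g := by group
          _ = g⁻¹ * (g * x * g⁻¹ * v) * g := by rw [hgv]
          _ = _ := by group
      · rwa [card_radIn_centralizer_conj]
    rcases hg with hg | hg
    · exact key t D.t_ne (YJ3.not_five_dvd_rad M F.cardC) hg
    · exact key u D.u_ne (not_five_dvd_rad_u F) hg
  · have hcyc : ∀ P : Sylow 7 K, IsCyclic (P : Subgroup K) := cyclic_of_card (by rw [hc]; decide +kernel)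
    refine NoE.of_m0 hna hcyc fun x hx hR hY => m0_num hcyc hb hO hx hR hY fun s hs hs7 hsd => ?_
    have hs' : s ∣ 2 * 3 := hsd
    rcases (hs.dvd_mul).1 hs' with h4 | h4
    · obtain rfl := (Nat.prime_dvd_prime_iff_eq hs Nat.prime_two).1 h4
      right
      obtain ⟨T, hT, hW⟩ := exists_sylow_two M F.cardC (by rw [hc]; decide +kernel)
      refine ⟨?_, T, ?_⟩
      · intro h2
        haveI := Fact.mk Nat.prime_two
        obtain ⟨y, hy⟩ := exists_prime_orderOf_dvd_card' (G := centralizer ({x} : Set K)) 2 h2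
        have hy' : orderOf (y : K) = 2 := by rw [orderOf_coe]; exact hy
        have hyx : (y : K) * x = x * y := mem_centralizer_singleton_iff.mp y.2
        apply Cfsg.Agent.J2Type.ThreeF.not_seven_dvd_two F y hy'
        have h5 : x ∈ centralizer ({(y : K)} : Set K) := mem_centralizer_singleton_iff.mpr hyx.symm
        have h6 : orderOf (⟨x, h5⟩ : centralizer ({(y : K)} : Set K)) = 7 := by rw [Subgroup.orderOf_mk]; exact hx
        rw [← h6]
        exact orderOf_dvd_natCard _
      · rintro a j n h1 h2 h3 h4 h5 h6 ⟨W, hWT, hWc, -, hWn⟩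
        have h7 := hW W hWT hWc
        rw [hT] at h1
        have h8 : a + j = 7 := (Nat.pow_right_injective le_rfl h1).symm
        have h9 : j ≤ 1 := by
          by_contra h10
          have h11 : 2 ^ 2 ∣ 7 - 1 := (pow_dvd_pow 2 (by omega)).trans h3
          revert h11
          decide
        have h12 : 2 ^ (2 ^ j) ≤ 2 ^ (2 ^ 1) := Nat.pow_le_pow_right (by norm_num) (Nat.pow_le_pow_right (by norm_num) h9)
        have h13 : Nat.card W ^ (2 ^ j) ≤ 2 ^ (2 ^ j) := Nat.pow_le_pow_left h7 _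
        have h14 : 2 ^ n ≤ 2 ^ 2 := (hWn.trans h13).trans h12
        have h15 : n ≤ 2 := (Nat.pow_le_pow_iff_right (by norm_num)).1 h14
        interval_cases n <;> revert h5 <;> decide
    · obtain rfl := (Nat.prime_dvd_prime_iff_eq hs Nat.prime_three).1 h4
      left
      intro i hi h1 h2
      rw [hc] at h1
      have h4 : i ≤ 3 := by
        by_contra h5
        have h6 : (3 : ℕ) ^ 4 ∣ 604800 := (pow_dvd_pow 3 (by omega)).trans h1
        revert h6
        decide +kernel
      interval_cases i <;> revert h2 <;> decide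

end Cfsg.Agent.H305.YJ2
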