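import Cfsg.Agent.H305.YTools
import Cfsg.Agent.H305.SepJ3

/-!
# Row `J3` of S3846 (helper305)
-/

set_option autoImplicit false
set_option linter.style.haveILetI false
set_option linter.unusedSectionVars false
set_option linter.unusedVariables false

namespace Cfsg.Agent.H305.YJ3

open Subgroup Cfsg.Agent.H301.SY Cfsg.Agent.H459.Rad Cfsg.Agent.H305.YTools
open Cfsg.Agent.J3Type.OneClass Cfsg.Agent.J2Type.Model

/-- the radical of the centralizer of an involution of type `2^{1+4}.A₅` -/
theorem not_five_dvd_rad {K : Type*} [Group K] [Finite K] {t : K} {Q : Subgroup (centralizer ({t} : Set K))}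
    {v : Fin 5 → centralizer ({t} : Set K)} {ρ : centralizer ({t} : Set K) →* SP} (M : IsModel Q (zc t) v ρ)
    (hc : Nat.card (centralizer ({t} : Set K)) = 1920) : ¬ 5 ∣ Nat.card (radIn (centralizer ({t} : Set K))) := by
  have h1 : Nat.card Q * 60 = 1920 := by
    rw [← hc, ← Cfsg.Agent.KFacts.QMinus.card_A5, ← Cfsg.Agent.KFacts.QMinus.range_permHom M,
      ← Nat.card_congr (QuotientGroup.quotientKerEquivRange (Cfsg.Agent.KFacts.QMinus.permHom ρ)).toEquiv,
      Cfsg.Agent.KFacts.QMinus.ker_permHom M, mul_comm, ← card_eq_card_quotient_mul_card_subgroup]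
  have h2 : Nat.card Q = 32 := by omega
  have h3 := not_five_dvd_model M (by rw [h2]; norm_num) (N := solvableRadical (centralizer ({t} : Set K)))
    (rad_spec _).2.1 (fun c n hn => (rad_normal _).conj_mem n hn c)
  unfold radIn
  rwa [Subgroup.card_map_of_injective (centralizer ({t} : Set K)).subtype_injective]

theorem na {K : Type*} [Group K] [Finite K] {t : K} (ht : orderOf t = 2)
    (hc : Nat.card (centralizer ({t} : Set K)) ≠ Nat.card K) : ¬ IsMulCommutative K := by
  intro h
  apply hc
  have h2 : centralizer ({t} : Set K) = ⊤ := by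
    rw [eq_top_iff]
    intro y _
    rw [mem_centralizer_singleton_iff]
    exact h.is_comm.comm y t
  rw [h2, card_top]

/-- the row `J3` -/
theorem noE_j3 {K : Type*} [Group K] [Finite K] [IsSimpleGroup K] (h : Cfsg.Spor.IsoJ3 K) {p : ℕ} [hpF : Fact p.Prime]
    (hp : 5 ≤ p) (hb : Cfsg.Agent.H301.SY.Blk p K) (hO : Cfsg.Agent.H301.SY.ThO p K) :
    Cfsg.Agent.H301.SY.NoE p K := by
  obtain ⟨-, hc, hM⟩ := Cfsg.Agent.H898.J3Cent.base h
  haveI := Fact.mk Nat.prime_two
  obtain ⟨t, ht⟩ := exists_prime_orderOf_dvd_card' (G := K) 2 (by rw [hc]; norm_num)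
  obtain ⟨-, hC, Q, v, ρ, M⟩ := hM t ht
  have hna : ¬ IsMulCommutative K := na ht (by rw [hC, hc]; norm_num)
  have h5 := not_five_dvd_rad M hC
  refine noE_of_mem_primeFactors hc fun hpn => ?_
  have h3 : Nat.primeFactors 50232960 = {2, 3, 5, 17, 19} := by decide +kernel
  rw [h3] at hpn
  simp only [Finset.mem_insert, Finset.mem_singleton] at hpn
  rcases hpn with rfl | rfl | rfl | rfl | rfl
  · omega
  · omega
  · refine NoE.of_lw (cyclic_of_card (by rw [hc]; decide +kernel)) ⟨centralizer ({t} : Set K), ?_, ?_, h5⟩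
    · intro h1
      rw [h1, card_top, hc] at hC
      exact absurd hC (by norm_num)
    · rw [hC]; norm_num
  · exact noE_of_chk hna hc (by norm_num) (by decide +kernel) (by decide +kernel) hb
  · exact noE_of_chk hna hc (by norm_num) (by decide +kernel) (by decide +kernel) hb

end Cfsg.Agent.H305.YJ3
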