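import Cfsg.Agent.H614.AltBlk

/-!
# Blocks of the alternating groups, `p` odd (S4578, task B)

* `val_le` : the valuation of the degree, upper bound;
* `degree_le` : the degrees in the blocks of weight `w` of the symmetric groups;
* `alt_odd_aux`, `Spin.alt_odd` : the blocks of the alternating groups.
-/

set_option autoImplicit false
set_option linter.unusedSectionVars false

namespace Cfsg.Agent.H614

open Finset Cfsg Cfsg.Agent.Characters.Core

universe u

/-- The valuation of the degree, upper bound. -/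
theorem val_le {m p : ℕ} [hp : Fact p.Prime] {n w : ℕ} {β : Fin m → ℕ} (hβ : Function.Injective β)
    (hs : ∑ i, β i = n + ∑ i : Fin m, (i : ℕ)) (hw : ∑ j, β j / p = w + npairs p β) :
    padicValNat p (Int.natAbs (FM (Multiset.replicate n 1) β)) + w ≤ padicValNat p n.factorial := by
  obtain ⟨ws, fs, -, h2, h3⟩ := height_formula hβ hs hw
  have h4 : ∑ c ∈ range p, padicValNat p (fs c) ≤ ∑ c ∈ range p, padicValNat p (ws c).factorial :=
    Finset.sum_le_sum fun c _ =>
      (padicValNat_dvd_iff_le (Nat.factorial_ne_zero _)).mp (pow_padicValNat_dvd.trans (h2 c))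
  omega

section

variable {α : Type u} [Fintype α] [DecidableEq α] {m : ℕ} {p : ℕ} [hp : Fact p.Prime]
  {M : Ideal AlgInt}

/-- The degrees of the characters of a block of weight `w`, upper bound. -/
theorem degree_le (hM : IsPModular p M) (hm : Fintype.card α ≤ m)
    {B : Set (IrrCharacter (Equiv.Perm α))} (hB : IsPBlock M B) {β : Fin m → ℕ} (hβ : StrictMono β)
    (hs : ∑ i, β i = Fintype.card α + ∑ i : Fin m, (i : ℕ)) {χ : IrrCharacter (Equiv.Perm α)}
    (hχ : χ ∈ B) (hχβ : (χ : Equiv.Perm α → ℂ) = ch α β) {w : ℕ}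
    (hw : ∑ j, β j / p = w + npairs p β) {ψ : IrrCharacter (Equiv.Perm α)} (hψ : ψ ∈ B) :
    (charDegree (ψ : Equiv.Perm α → ℂ)).factorization p + w ≤
      (Nat.card (Equiv.Perm α)).factorization p := by
  have hMp : M.IsPrime := hM.2.1.isPrime
  have h2 : SameBlock M (ch α β) (ψ : Equiv.Perm α → ℂ) := by
    rw [← hχβ]; exact Blocks.Basic.isPBlock_sameBlock hB hχ hψ
  obtain ⟨γ, hγ, hsγ, hψγ, hc⟩ := mem_blockOf hM hm hβ hs h2
  have h3 := weight_of_sameCol hp.out.pos hc (hs.trans hsγ.symm) hw
  rw [hψγ, charDegree_ch hγ hsγ, card_perm_fact, Nat.factorization_def _ hp.out]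
  exact val_le hγ.injective hsγ h3

theorem alt_odd_aux [Nontrivial α] (hp2 : p ≠ 2) (hM : IsPModular p M)
    {B : Set (IrrCharacter (alternatingGroup α))}
    (hB : IsPBlock M B) {D : Subgroup (alternatingGroup α)} (hD : IsDefectGroup p M B D) :
    ∃ w : ℕ, (∀ χ ∈ B, (charDegree (χ : alternatingGroup α → ℂ)).factorization p + w ≤
        (Nat.card (alternatingGroup α)).factorization p) ∧
      ∀ z ∈ D, #((z : alternatingGroup α) : Equiv.Perm α).support ≤ p * w := by
  classical
  have hMp : M.IsPrime := hM.2.1.isPrime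
  have hN2 : (alternatingGroup α).index = 2 := alternatingGroup.index_eq_two
  obtain ⟨BB, P, hBB, hP, hDP, hup, -⟩ := exists_cover hM (alternatingGroup α) hB hD
  obtain ⟨χ, hχ⟩ := Blocks.Basic.isPBlock_nonempty hBB
  obtain ⟨β, hβ, hs, hχβ⟩ := irr_eq (α := α) (m := Fintype.card α + 2 * p) (by omega) χ.2
  obtain ⟨w, hw⟩ : ∃ w, ∑ j, β j / p = w + npairs p β :=
    ⟨_, (Nat.sub_add_cancel (npairs_le hp.out.pos hβ.injective)).symm⟩
  obtain ⟨z, hz, -, hz2, -⟩ := defect_structure hM (by omega) hBB hβ hs hχ hχβ hw hP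
  have hcardN : Nat.card (Equiv.Perm α) = 2 * Nat.card (alternatingGroup α) := by
    rw [← Subgroup.card_mul_index (alternatingGroup α), hN2, mul_comm]
  have h2p : (2 : ℕ).factorization p = 0 := by
    rw [Nat.factorization_eq_zero_iff]
    right; left
    intro h
    exact hp2 ((Nat.prime_dvd_prime_iff_eq hp.out Nat.prime_two).mp h)
  have hcardN' : (Nat.card (Equiv.Perm α)).factorization p =
      (Nat.card (alternatingGroup α)).factorization p := by
    rw [hcardN, Nat.factorization_mul two_ne_zero Nat.card_pos.ne', Finsupp.add_apply, h2p, zero_add]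
  have hdeg : ∀ {χ' : Equiv.Perm α → ℂ} {ψ : alternatingGroup α → ℂ},
      IsIrrCharacter _ χ' → IsIrrCharacter _ ψ →
      classInner (fun n : alternatingGroup α => χ' n) ψ ≠ 0 →
      (charDegree ψ).factorization p = (charDegree χ').factorization p := by
    intro χ' ψ hχ' hψ h
    rcases degree_two (alternatingGroup α) hN2 hχ' hψ h with h2 | ⟨h2, -⟩
    · rw [h2]
    · rw [h2, Nat.factorization_mul two_ne_zero (charDegree_pos hψ).1.ne', Finsupp.add_apply, h2p,
        zero_add]
  refine ⟨w, fun ψ hψ => ?_, fun g hg => ?_⟩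
  · obtain ⟨χ', hχ', hi⟩ := hup ψ hψ
    rw [hdeg χ'.2 ψ.2 hi, ← hcardN']
    exact degree_le hM (by omega) hBB hβ hs hχ hχβ hw hχ'
  · rw [hDP] at hg
    have hgP : (g : Equiv.Perm α) ∈ supS z := hz2 (Subgroup.mem_subgroupOf.mp hg).1
    have hsub : (g : Equiv.Perm α).support ⊆ z.support := by
      intro x hx
      rw [Equiv.Perm.mem_support] at hx ⊢
      intro h
      exact hx ((mem_supS.mp hgP).2 x h)
    have hcz : #z.support = p * w := by
      rw [← Equiv.Perm.sum_cycleType, hz, Multiset.sum_replicate, smul_eq_mul, mul_comm]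
    rw [← hcz]
    exact Finset.card_le_card hsub

end

/-- **The blocks of the alternating groups, `p` odd.** -/
theorem Spin.alt_odd {n p : ℕ} [Fact p.Prime] (hp : p ≠ 2) {M : Ideal AlgInt}
    (hM : IsPModular p M)
    {B : Set (IrrCharacter (alternatingGroup (Fin n)))} (hB : IsPBlock M B)
    {D : Subgroup (alternatingGroup (Fin n))} (hD : IsDefectGroup p M B D) :
    ∃ w : ℕ, (∀ χ ∈ B, (charDegree (χ : alternatingGroup (Fin n) → ℂ)).factorization p + w ≤
        (Nat.card (alternatingGroup (Fin n))).factorization p) ∧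
      ∀ z ∈ D, #((z : alternatingGroup (Fin n)) : Equiv.Perm (Fin n)).support ≤ p * w := by
  rcases Nat.lt_or_ge n 2 with h | h
  · have hsub : Subsingleton (Fin n) := by
      rw [← Fintype.card_le_one_iff_subsingleton, Fintype.card_fin]
      omega
    have hsubP : Subsingleton (Equiv.Perm (Fin n)) := inferInstance
    refine ⟨0, fun χ _ => ?_, fun z _ => ?_⟩
    · have h1 := Blocks.Knorr.charDegree_dvd χ.2
      rw [add_zero]
      exact (Nat.factorization_le_iff_dvd (charDegree_pos χ.2).1.ne' Nat.card_pos.ne').mpr h1 p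
    · have h1 : ((z : alternatingGroup (Fin n)) : Equiv.Perm (Fin n)) = 1 := Subsingleton.elim _ _
      rw [h1, Equiv.Perm.support_one, Finset.card_empty]
      exact Nat.zero_le _
  · have hnt : Nontrivial (Fin n) := Fin.nontrivial_iff_two_le.mpr h
    exact alt_odd_aux hp hM hB hD

end Cfsg.Agent.H614
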