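import Mathlib.GroupTheory.Sylow
import Mathlib.GroupTheory.Subgroup.Centralizer
import Mathlib.GroupTheory.PGroup

/-!
# Central Sylow 2-intersections

`G` finite such that the intersection of any two distinct Sylow 2-subgroups lies in the centre of
some Sylow 2-subgroup.  Then it lies in the centres of both.
-/

set_option autoImplicit false

namespace Cfsg.Agent.H305

open Pointwise

variable {G : Type*} [Group G]

/-- membership in the centre of a subgroup, as a subgroup of `G` -/
theorem mem_centerMap {P : Subgroup G} {x : G} :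
    x ∈ (Subgroup.center ↥P).map P.subtype ↔ x ∈ P ∧ ∀ y ∈ P, y * x = x * y := by
  constructor
  · rintro ⟨⟨z, hz⟩, hzc, rfl⟩
    refine ⟨hz, fun y hy => ?_⟩
    have := Subgroup.mem_center_iff.1 hzc ⟨y, hy⟩
    exact congrArg Subtype.val this
  · rintro ⟨hx, hc⟩
    refine ⟨⟨x, hx⟩, ?_, rfl⟩
    refine Subgroup.mem_center_iff.2 ?_
    rintro ⟨y, hy⟩
    exact Subtype.ext (hc y hy)

theorem centerMap_le (P : Subgroup G) : (Subgroup.center ↥P).map P.subtype ≤ P :=
  fun _ hx => (mem_centerMap.1 hx).1

variable [Finite G]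

/-- The centres of two Sylow `2`-subgroups have the same order. -/
theorem card_centerMap_eq (S T : Sylow 2 G) :
    Nat.card ↥((Subgroup.center ↥(S : Subgroup G)).map (S : Subgroup G).subtype) =
      Nat.card ↥((Subgroup.center ↥(T : Subgroup G)).map (T : Subgroup G).subtype) := by
  rw [Subgroup.card_map_of_injective (Subgroup.subtype_injective _),
    Subgroup.card_map_of_injective (Subgroup.subtype_injective _)]
  exact Nat.card_congr (Subgroup.centerCongr (Sylow.equiv S T)).toEquiv

/-- a `2`-subgroup normalised/centralised situation: if `U` is a Sylow subgroup contained in `C` and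
`P ≤ C` is a `2`-subgroup then some `C`-conjugate of `U` contains `P`. -/
theorem exists_conj_ge (C : Subgroup G) (U : Sylow 2 G) (hU : (U : Subgroup G) ≤ C)
    (P : Subgroup G) (hP : IsPGroup 2 ↥P) (hPC : P ≤ C) :
    ∃ c ∈ C, P ≤ ((c • U : Sylow 2 G) : Subgroup G) := by
  have hP' : IsPGroup 2 ↥(P.subgroupOf C) := by
    exact hP.of_equiv (Subgroup.subgroupOfEquivOfLe hPC).symm
  obtain ⟨Q, hQ⟩ := hP'.exists_le_sylow
  obtain ⟨c, hc⟩ := MulAction.exists_smul_eq C (U.subtype hU) Q
  refine ⟨c, c.2, ?_⟩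
  intro x hx
  have hxQ : (⟨x, hPC hx⟩ : C) ∈ (Q : Subgroup C) := hQ (by
    rw [Subgroup.mem_subgroupOf]; exact hx)
  rw [← hc] at hxQ
  rw [Sylow.smul_subtype] at hxQ
  exact hxQ

variable (hCI : ∀ S T : Sylow 2 G, S ≠ T → ∃ U : Sylow 2 G,
      (S : Subgroup G) ⊓ (T : Subgroup G) ≤ (Subgroup.center ↥(U : Subgroup G)).map (U : Subgroup G).subtype)

include hCI

/-- The intersection of two distinct Sylow `2`-subgroups is central in the first. -/
theorem inter_le_center (S T : Sylow 2 G) (hne : S ≠ T) :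
    (S : Subgroup G) ⊓ (T : Subgroup G) ≤
      (Subgroup.center ↥(S : Subgroup G)).map (S : Subgroup G).subtype := by
  obtain ⟨U, hU⟩ := hCI S T hne
  set D : Subgroup G := (S : Subgroup G) ⊓ (T : Subgroup G) with hD
  set C : Subgroup G := Subgroup.centralizer (D : Set G) with hC
  have hUC : (U : Subgroup G) ≤ C := by
    intro u hu
    rw [hC, Subgroup.mem_centralizer_iff]
    intro d hd
    exact ((mem_centerMap.1 (hU hd)).2 u hu).symm
  have hSC : IsPGroup 2 ↥((S : Subgroup G) ⊓ C) := S.isPGroup'.to_le inf_le_left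
  obtain ⟨c, hc, hle⟩ := exists_conj_ge C U hUC _ hSC inf_le_right
  -- `D ≤ C`
  have hDC : D ≤ C := by
    intro x hx
    rw [hC, Subgroup.mem_centralizer_iff]
    intro d hd
    have hx' := mem_centerMap.1 (hU hx)
    exact hx'.2 d (mem_centerMap.1 (hU hd)).1
  -- `D` lies in the centre of `c • U`
  have hDU : ∀ d ∈ D, ∀ y ∈ ((c • U : Sylow 2 G) : Subgroup G), y * d = d * y := by
    intro d hd y hy
    have hyC : y ∈ C := by
      have h1 : ((c • U : Sylow 2 G) : Subgroup G) ≤ C := Sylow.smul_le (P := U) hUC ⟨c, hc⟩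
      exact h1 hy
    rw [hC, Subgroup.mem_centralizer_iff] at hyC
    exact (hyC d hd).symm
  by_cases hS : S = c • U
  · intro d hd
    refine mem_centerMap.2 ⟨hd.1, ?_⟩
    intro y hy
    exact hDU d hd y (hS ▸ hy)
  · obtain ⟨V, hV⟩ := hCI S (c • U) hS
    have hZ : (Subgroup.center ↥(S : Subgroup G)).map (S : Subgroup G).subtype ≤
        (Subgroup.center ↥(V : Subgroup G)).map (V : Subgroup G).subtype := by
      intro z hz
      refine hV ?_
      have hz' := mem_centerMap.1 hz
      have : z ∈ (S : Subgroup G) ⊓ C := by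
        refine ⟨hz'.1, ?_⟩
        rw [hC]
        refine Subgroup.mem_centralizer_iff.2 ?_
        intro d hd
        exact hz'.2 d hd.1
      exact ⟨hz'.1, hle this⟩
    have hZeq := Subgroup.eq_of_le_of_card_ge hZ (card_centerMap_eq V S).le
    intro d hd
    rw [hZeq]
    refine hV ⟨hd.1, hle ⟨hd.1, hDC hd⟩⟩

/-- The centralizer in `S` of an element `x ∈ S` is a Sylow `2`-subgroup of its centralizer. -/
theorem card_le_of_centralize (S : Sylow 2 G) (x : G) (hx : x ∈ (S : Subgroup G)) (P : Subgroup G)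
    (hP : IsPGroup 2 ↥P) (hPx : P ≤ Subgroup.centralizer ({x} : Set G)) :
    Nat.card ↥P ≤ Nat.card ↥((S : Subgroup G) ⊓ Subgroup.centralizer ({x} : Set G)) := by
  -- enlarge `P` by `x`
  have hX : IsPGroup 2 ↥(Subgroup.zpowers x) := S.isPGroup'.to_le (by
    rw [Subgroup.zpowers_le]; exact hx)
  have hnorm : P ≤ Subgroup.normalizer ((Subgroup.zpowers x : Subgroup G) : Set G) := by
    refine le_trans hPx ?_
    intro g hg
    rw [Subgroup.mem_normalizer_iff]
    have hgx : g * x * g⁻¹ = x := by
      have := Subgroup.mem_centralizer_singleton_iff.1 hg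
      rw [this]; group
    intro h
    constructor
    · rintro ⟨k, rfl⟩
      refine ⟨k, ?_⟩
      simp only
      rw [← conj_zpow, hgx]
    · rintro ⟨k, hk⟩
      refine ⟨k, ?_⟩
      simp only at hk ⊢
      have h2 : h = g⁻¹ * (x ^ k) * g := by rw [hk]; group
      rw [h2]
      have h3 : g⁻¹ * x * g = x := by
        calc g⁻¹ * x * g = g⁻¹ * (g * x * g⁻¹) * g := by rw [hgx]
          _ = x := by group
      have h4 : g⁻¹ * x ^ k * g = (g⁻¹ * x * g) ^ k := by
        have := conj_zpow (a := g⁻¹) (b := x) (i := k)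
        rw [inv_inv] at this
        rw [this]
      rw [h4, h3]
  have hPX : IsPGroup 2 ↥(P ⊔ Subgroup.zpowers x) := hP.to_sup_of_normal_right' hX hnorm
  obtain ⟨T, hT⟩ := hPX.exists_le_sylow
  have hPT : P ≤ (T : Subgroup G) := le_trans le_sup_left hT
  have hxT : x ∈ (T : Subgroup G) := hT (le_sup_right (α := Subgroup G) (Subgroup.mem_zpowers x))
  by_cases hST : S = T
  · subst hST
    exact Nat.card_le_card_of_injective _
      (Subgroup.inclusion_injective (le_inf hPT hPx))
  · have hxZ := mem_centerMap.1 (inter_le_center hCI S T hST ⟨hx, hxT⟩)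
    have hSx : (S : Subgroup G) ⊓ Subgroup.centralizer ({x} : Set G) = S := by
      refine inf_eq_left.2 ?_
      intro y hy
      exact Subgroup.mem_centralizer_singleton_iff.2 (hxZ.2 y hy)
    rw [hSx]
    have h1 : Nat.card ↥(T : Subgroup G) = Nat.card ↥(S : Subgroup G) :=
      Nat.card_congr (Sylow.equiv T S).toEquiv
    rw [← h1]
    exact Nat.card_le_card_of_injective _ (Subgroup.inclusion_injective hPT)

end Cfsg.Agent.H305
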