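import Mathlib
import Cfsg.Agent.H305.EssQ

/-!
# The chain of normalizers of an abelian centralizer in a 2-group

`W` is a class of involutions of the 2-group `S` (under `N ≥ S` normalizing `S`) whose centralizers
in `S` are abelian, `ch S w k` is the `k`-th iterated normalizer of `C_S(w)`. If the class is well behaved
for `k ≤ 1` then it is for all `k`.
-/

set_option autoImplicit false

namespace Cfsg.Agent.H305.Chain

open Subgroup Cfsg.Agent.Lib.GoldschmidtFusion Cfsg.Agent.H305.Ess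

variable {G : Type*} [Group G]

/-- iterated normalizers of `C_S(w)` -/
def ch (S : Subgroup G) (w : G) : ℕ → Subgroup G
  | 0 => S ⊓ centralizer ({w} : Set G)
  | k + 1 => S ⊓ normalizer (ch S w k : Set G)

theorem ch_le (S : Subgroup G) (w : G) (k : ℕ) : ch S w k ≤ S := by
  cases k <;> exact inf_le_left

theorem ch_succ_mem {S : Subgroup G} {w : G} {k : ℕ} {y : G} : y ∈ ch S w (k + 1) ↔ y ∈ S ∧
    y ∈ normalizer (ch S w k : Set G) := Iff.rfl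

theorem ch_zero_mem {S : Subgroup G} {w y : G} : y ∈ ch S w 0 ↔ y ∈ S ∧ y * w = w * y :=
  ⟨fun h => ⟨h.1, mem_centralizer_singleton_iff.1 h.2⟩, fun h => ⟨h.1, mem_centralizer_singleton_iff.2 h.2⟩⟩

theorem ch_mono (S : Subgroup G) (w : G) (k : ℕ) : ch S w k ≤ ch S w (k + 1) :=
  fun _ hy => ⟨ch_le S w k hy, le_normalizer hy⟩

theorem ch_mono' (S : Subgroup G) (w : G) {j k : ℕ} (h : j ≤ k) : ch S w j ≤ ch S w k := by
  induction h with
  | refl => exact le_rfl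
  | step _ ih => exact ih.trans (ch_mono S w _)

theorem cent_le {S : Subgroup G} {w y : G} (k : ℕ) (hy : y ∈ S) (hyw : y * w = w * y) : y ∈ ch S w k :=
  ch_mono' S w (Nat.zero_le k) (ch_zero_mem.2 ⟨hy, hyw⟩)

theorem cj_inf (g : G) (A B : Subgroup G) : cj g (A ⊓ B) = cj g A ⊓ cj g B :=
  Subgroup.map_inf _ _ _ (MulAut.conj g).injective

theorem cj_self {S : Subgroup G} {n : G} (hn : n ∈ normalizer (S : Set G)) : cj n S = S :=
  mem_normalizer_iff_map_conj.1 hn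

theorem ch_conj {S : Subgroup G} {n : G} (hn : n ∈ normalizer (S : Set G)) (w : G) (k : ℕ) :
    ch S (n * w * n⁻¹) k = cj n (ch S w k) := by
  induction k with
  | zero =>
    ext y
    rw [mem_cj, ch_zero_mem, ch_zero_mem]
    constructor
    · rintro ⟨h1, h2⟩
      refine ⟨conj_mem_of_norm' hn h1, ?_⟩
      calc n⁻¹ * y * n * w = n⁻¹ * (y * (n * w * n⁻¹)) * n := by group
        _ = n⁻¹ * ((n * w * n⁻¹) * y) * n := by rw [h2]
        _ = w * (n⁻¹ * y * n) := by group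
    · rintro ⟨h1, h2⟩
      have h3 := conj_mem_of_norm hn h1
      have e : n * (n⁻¹ * y * n) * n⁻¹ = y := by group
      rw [e] at h3
      refine ⟨h3, ?_⟩
      calc y * (n * w * n⁻¹) = n * (n⁻¹ * y * n * w) * n⁻¹ := by group
        _ = n * (w * (n⁻¹ * y * n)) * n⁻¹ := by rw [h2]
        _ = n * w * n⁻¹ * y := by group
  | succ k ih =>
    ext y
    rw [ch_succ_mem, ih, mem_norm_cj, mem_cj, ch_succ_mem]
    constructor
    · rintro ⟨h1, h2⟩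
      exact ⟨conj_mem_of_norm' hn h1, h2⟩
    · rintro ⟨h1, h2⟩
      have h3 := conj_mem_of_norm hn h1
      have e : n * (n⁻¹ * y * n) * n⁻¹ = y := by group
      rw [e] at h3
      exact ⟨h3, h2⟩

/-- conjugacy -/
def Cj (T : Subgroup G) (u v : G) : Prop := ∃ y ∈ T, v = y * u * y⁻¹

theorem Cj.symm {T : Subgroup G} {u v : G} (h : Cj T u v) : Cj T v u := by
  obtain ⟨y, hy, rfl⟩ := h
  exact ⟨y⁻¹, inv_mem hy, by group⟩

theorem Cj.trans {T : Subgroup G} {u v w : G} (h : Cj T u v) (h' : Cj T v w) : Cj T u w := by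
  obtain ⟨y, hy, rfl⟩ := h
  obtain ⟨z, hz, rfl⟩ := h'
  exact ⟨z * y, mul_mem hz hy, by group⟩

theorem Cj.mono {T T' : Subgroup G} (hT : T ≤ T') {u v : G} (h : Cj T u v) : Cj T' u v := by
  obtain ⟨y, hy, rfl⟩ := h
  exact ⟨y, hT hy, rfl⟩

variable [Finite G]

theorem ch_grow {S : Subgroup G} (hS : IsPGroup 2 S) {w : G} {k : ℕ} {x : G} (hx : x ∈ S) (hxk : x ∉ ch S w k) :
    ∃ y ∈ ch S w (k + 1), y ∉ ch S w k := by
  obtain ⟨y, hyS, hyk, hyN⟩ := exists_norm hS (ch_le S w k) hx hxk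
  exact ⟨y, ⟨hyS, hyN⟩, hyk⟩

/-- the hypotheses -/
structure CH (S N : Subgroup G) (W : Set G) : Prop where
  p : IsPGroup 2 S
  norm : N ≤ normalizer (S : Set G)
  SN : S ≤ N
  conj : ∀ u ∈ W, ∀ v ∈ W, ∃ n ∈ N, v = n * u * n⁻¹
  closed : ∀ u ∈ W, ∀ n ∈ N, n * u * n⁻¹ ∈ W
  mem : ∀ u ∈ W, u ∈ S
  sq : ∀ u ∈ W, u * u = 1
  comm : ∀ u ∈ W, ∀ a ∈ S, ∀ b ∈ S, a * u = u * a → b * u = u * b → a * b = b * a
  two : ∀ w ∈ W, ∃ t, ∀ u ∈ W, u * w = w * u → u = w ∨ u = t * w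
  three : ∀ w ∈ W, ∀ u ∈ W, ∀ v ∈ W, u ∈ ch S w 1 → v ∈ ch S w 1 →
    u * w = w * u ∨ v * w = w * v ∨ u * v = v * u
  proper : ∀ w ∈ W, ∃ x ∈ S, x ∉ ch S w 1

/-- the statement proved by induction -/
def Q (S : Subgroup G) (W : Set G) (k : ℕ) : Prop :=
  ∀ w ∈ W, ∀ u ∈ W, ∀ v ∈ W, ch S w k = ch S u k → v ∈ ch S w k →
    Cj (ch S w k) w u ∨ Cj (ch S w k) w v ∨ Cj (ch S w k) u v

namespace CH

variable {S N : Subgroup G} {W : Set G} (h : CH S N W)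
include h

theorem closedS {u y : G} (hu : u ∈ W) (hy : y ∈ S) : y * u * y⁻¹ ∈ W := h.closed u hu y (h.SN hy)

omit [Finite G] h in
/-- elements conjugating `w` in the same way -/
theorem mem_of_conj_eq {w y z : G} {k : ℕ} (hy : y ∈ S) (hz : z ∈ ch S w k)
    (heq : y * w * y⁻¹ = z * w * z⁻¹) : y ∈ ch S w k := by
  have h1 : z⁻¹ * y ∈ ch S w k := by
    refine cent_le k (mul_mem (inv_mem (ch_le S w k hz)) hy) ?_
    calc z⁻¹ * y * w = z⁻¹ * (y * w * y⁻¹) * y := by group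
      _ = z⁻¹ * (z * w * z⁻¹) * y := by rw [heq]
      _ = w * (z⁻¹ * y) := by group
  have h2 := mul_mem hz h1
  rwa [mul_inv_cancel_left] at h2

theorem ch_conjS {w y : G} {k : ℕ} (hy : y ∈ ch S w (k + 1)) : ch S (y * w * y⁻¹) k = ch S w k := by
  rw [ch_conj (h.norm (h.SN hy.1)), cj_eq_iff]
  exact hy.2

theorem self_mem {w : G} (hw : w ∈ W) (k : ℕ) : w ∈ ch S w k := cent_le k (h.mem w hw) rfl

/-- `(M1)` -/
theorem m1 {k : ℕ} (hQ : Q S W k) {w v s : G} (hw : w ∈ W) (hv : v ∈ W) (hvk : v ∈ ch S w k)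
    (hs : s ∈ ch S w (k + 1)) (hsk : s ∉ ch S w k) :
    Cj (ch S w k) w v ∨ Cj (ch S w k) (s * w * s⁻¹) v := by
  have hu := h.closedS hw hs.1
  rcases hQ w hw _ hu v hv (h.ch_conjS hs).symm hvk with h1 | h1 | h1
  · exfalso
    obtain ⟨z, hz, hze⟩ := h1
    exact hsk (mem_of_conj_eq hs.1 hz hze)
  · exact Or.inl h1
  · exact Or.inr h1

theorem m1' {k : ℕ} (hQ : Q S W k) {w v s : G} (hw : w ∈ W) (hv : v ∈ W) (hvk : v ∈ ch S w k)
    (hs : s ∈ ch S w (k + 1)) (hsk : s ∉ ch S w k) : Cj (ch S w (k + 1)) w v := by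
  rcases h.m1 hQ hw hv hvk hs hsk with h1 | h1
  · exact h1.mono (ch_mono S w k)
  · exact Cj.trans ⟨s, hs, rfl⟩ (h1.mono (ch_mono S w k))

/-- `(M2)` -/
theorem m2 {k : ℕ} (hQ : Q S W k) {w s y : G} (hw : w ∈ W)
    (hs : s ∈ ch S w (k + 1)) (hsk : s ∉ ch S w k) (hy : y ∈ ch S w (k + 1)) (hyk : y ∉ ch S w k) :
    s⁻¹ * y ∈ ch S w k := by
  have hv := h.closedS hw hy.1
  have hvk : y * w * y⁻¹ ∈ ch S w k := by
    rw [← h.ch_conjS hy]
    exact h.self_mem hv k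
  rcases h.m1 hQ hw hv hvk hs hsk with ⟨z, hz, hze⟩ | ⟨z, hz, hze⟩
  · exact absurd (mem_of_conj_eq hy.1 hz hze) hyk
  · -- `y w y⁻¹ = z s w s⁻¹ z⁻¹`
    have h1 : s⁻¹ * z⁻¹ * y ∈ ch S w k := by
      refine cent_le k (mul_mem (mul_mem (inv_mem hs.1) (inv_mem (ch_le S w k hz))) hy.1) ?_
      calc s⁻¹ * z⁻¹ * y * w = s⁻¹ * z⁻¹ * (y * w * y⁻¹) * y := by group
        _ = s⁻¹ * z⁻¹ * (z * (s * w * s⁻¹) * z⁻¹) * y := by rw [hze]
        _ = w * (s⁻¹ * z⁻¹ * y) := by group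
    have h2 : s⁻¹ * z * s ∈ ch S w k := conj_mem_of_norm' hs.2 hz
    have h3 := mul_mem h2 h1
    have e : s⁻¹ * z * s * (s⁻¹ * z⁻¹ * y) = s⁻¹ * y := by group
    rwa [e] at h3

/-- generation of `ch S w k` by `C_S(w)` and a subgroup containing `w`, not in `ch S w (k-1)` -/
theorem gen {k : ℕ} (hQ : ∀ j, j ≤ k → Q S W j) {w : G} (hw : w ∈ W) {D : Subgroup G} (hwD : w ∈ D)
    (hDk : D ≤ ch S w (k + 1)) {x : G} (hx : x ∈ D) (hxk : x ∉ ch S w k) :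
    ∀ y ∈ ch S w (k + 1), ∃ d ∈ D, d⁻¹ * y ∈ S ∧ (d⁻¹ * y) * w = w * (d⁻¹ * y) := by
  have hDS : D ≤ S := hDk.trans (ch_le S w _)
  have key : ∀ j, j ≤ k + 1 → ∀ y ∈ ch S w j, ∃ d ∈ D, d ∈ ch S w j ∧ d⁻¹ * y ∈ S ∧
      (d⁻¹ * y) * w = w * (d⁻¹ * y) := by
    intro j
    induction j with
    | zero =>
      intro _ y hy
      rw [ch_zero_mem] at hy
      exact ⟨1, one_mem D, one_mem _, by rw [inv_one, one_mul]; exact hy.1, by rw [inv_one, one_mul]; exact hy.2⟩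
    | succ j ih =>
      intro hj y hy
      have hjk : j ≤ k := by omega
      have hxj : x ∉ ch S w j := fun h1 => hxk (ch_mono' S w hjk h1)
      -- an element of `D` normalizing `D ∩ ch j`
      obtain ⟨d, hdD, hdj, hdN⟩ := exists_norm (T := D) (H := D ⊓ ch S w j) (h.p.to_le hDS) inf_le_left hx
        (fun h1 => hxj h1.2)
      have hdj' : d ∉ ch S w j := fun h1 => hdj ⟨hdD, h1⟩
      obtain ⟨s, hs, hsj⟩ := ch_grow h.p (h.mem w hw |> fun _ => hDS hx) hxj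
      have h1 : d * w * d⁻¹ ∈ ch S w j := (conj_mem_of_norm hdN ⟨hwD, h.self_mem hw j⟩).2
      have h2 := h.m1' (hQ j hjk) hw (h.closedS hw (hDS hdD)) h1 hs hsj
      obtain ⟨z, hz, hze⟩ := h2
      have hd1 : d ∈ ch S w (j + 1) := mem_of_conj_eq (hDS hdD) hz hze
      by_cases hyj : y ∈ ch S w j
      · obtain ⟨d', hd'D, hd'j, h3, h4⟩ := ih (by omega) y hyj
        exact ⟨d', hd'D, ch_mono S w j hd'j, h3, h4⟩
      · have h5 := h.m2 (hQ j hjk) hw hd1 hdj' hy hyj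
        obtain ⟨d', hd'D, hd'j, h3, h4⟩ := ih (by omega) _ h5
        refine ⟨d * d', mul_mem hdD hd'D, mul_mem hd1 (ch_mono S w j hd'j), ?_, ?_⟩
        · have e : (d * d')⁻¹ * y = d'⁻¹ * (d⁻¹ * y) := by group
          rw [e]; exact h3
        · have e : (d * d')⁻¹ * y = d'⁻¹ * (d⁻¹ * y) := by group
          rw [e]; exact h4
  intro y hy
  obtain ⟨d, hd, -, h1, h2⟩ := key (k + 1) le_rfl y hy
  exact ⟨d, hd, h1, h2⟩

end CH

/-! ### Dihedral groups -/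

section dihedral

omit [Finite G]

/-- the squares of the rotations -/
abbrev YY (w v : G) : Subgroup G := zpowers ((w * v) * (w * v))

variable {w v : G} (hw : w * w = 1) (hv : v * v = 1)
include hw hv

theorem inv_w : w⁻¹ = w := inv_eq_of_mul_eq_one_right hw

omit hv in
theorem conj_w_c : w * (w * v) * w⁻¹ = v * w := by
  rw [inv_eq_of_mul_eq_one_right hw, ← mul_assoc, hw, one_mul]

theorem c_inv : (w * v)⁻¹ = v * w := by
  rw [mul_inv_rev, inv_eq_of_mul_eq_one_right hw, inv_eq_of_mul_eq_one_right hv]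

theorem w_inverts {y : G} (hy : y ∈ YY w v) : w * y * w⁻¹ = y⁻¹ := by
  obtain ⟨k, rfl⟩ := mem_zpowers_iff.1 hy
  have h1 : w * ((w * v) * (w * v)) * w⁻¹ = ((w * v) * (w * v))⁻¹ := by
    have e : w * ((w * v) * (w * v)) * w⁻¹ = (w * (w * v) * w⁻¹) * (w * (w * v) * w⁻¹) := by group
    rw [e, conj_w_c hw, ← c_inv hw hv]
    exact (mul_inv_rev _ _).symm
  rw [← conj_zpow, h1, inv_zpow]

theorem v_inverts {y : G} (hy : y ∈ YY w v) : v * y * v⁻¹ = y⁻¹ := by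
  obtain ⟨k, rfl⟩ := mem_zpowers_iff.1 hy
  have h1 : v * ((w * v) * (w * v)) * v⁻¹ = ((w * v) * (w * v))⁻¹ := by
    have e : v * ((w * v) * (w * v)) * v⁻¹ = (v * w) * (v * w) := by group
    rw [e, ← c_inv hw hv]
    exact (mul_inv_rev _ _).symm
  rw [← conj_zpow, h1, inv_zpow]

/-- elements normalizing `Y` and centralizing `w` modulo `Y` -/
def BB (w v : G) : Subgroup G where
  carrier := {g | g ∈ normalizer (YY w v : Set G) ∧ g * w * g⁻¹ * w⁻¹ ∈ YY w v}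
  one_mem' := ⟨one_mem _, by
    have e : 1 * w * 1⁻¹ * w⁻¹ = 1 := by group
    rw [e]; exact one_mem _⟩
  mul_mem' := by
    rintro a b ⟨ha, ha'⟩ ⟨hb, hb'⟩
    refine ⟨mul_mem ha hb, ?_⟩
    have e : a * b * w * (a * b)⁻¹ * w⁻¹ = (a * (b * w * b⁻¹ * w⁻¹) * a⁻¹) * (a * w * a⁻¹ * w⁻¹) := by group
    rw [e]
    exact mul_mem (conj_mem_of_norm ha hb') ha'
  inv_mem' := by
    rintro a ⟨ha, ha'⟩
    refine ⟨inv_mem ha, ?_⟩
    have e : a⁻¹ * w * a⁻¹⁻¹ * w⁻¹ = a⁻¹ * (a * w * a⁻¹ * w⁻¹)⁻¹ * a := by group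
    rw [e]
    exact conj_mem_of_norm' ha (inv_mem ha')

omit hw hv in
theorem norm_of_inverts {Y : Subgroup G} {g : G} (hg : ∀ y ∈ Y, g * y * g⁻¹ = y⁻¹) : g ∈ normalizer (Y : Set G) := by
  rw [mem_normalizer_iff]
  intro y
  constructor
  · intro hy
    rw [hg y hy]; exact inv_mem hy
  · intro hy
    have h1 := hg _ hy
    have h2 : g * y⁻¹ * g⁻¹ = g * (g * y * g⁻¹) * g⁻¹ := by rw [h1]; group
    have h3 : y⁻¹ = g * y * g⁻¹ := mul_left_cancel (mul_right_cancel h2)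
    rw [← h3] at hy
    have := inv_mem hy
    rwa [inv_inv] at this

theorem mem_BB {d : G} (hd : d ∈ closure ({w, v} : Set G)) :
    d ∈ normalizer (YY w v : Set G) ∧ d * w * d⁻¹ * w⁻¹ ∈ YY w v := by
  have h1 : closure ({w, v} : Set G) ≤ BB w v := by
    rw [closure_le]
    rintro y (rfl | rfl)
    · refine ⟨norm_of_inverts (fun z hz => w_inverts hw hv hz), ?_⟩
      have e : y * y * y⁻¹ * y⁻¹ = 1 := by group
      rw [e]; exact one_mem _
    · refine ⟨norm_of_inverts (fun z hz => v_inverts hw hv hz), ?_⟩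
      have e : y * w * y⁻¹ * w⁻¹ = ((w * y) * (w * y))⁻¹ := by
        rw [mul_inv_rev, c_inv hw hv, inv_eq_of_mul_eq_one_right hw, inv_eq_of_mul_eq_one_right hv]
        group
      rw [e]
      exact inv_mem (mem_zpowers _)
  exact h1 hd

end dihedral

namespace CH

variable {S N : Subgroup G} {W : Set G} (h : CH S N W)
include h

theorem y1 {k : ℕ} (hQ : ∀ j, j ≤ k → Q S W j) {w v : G} (hw : w ∈ W) (hv : v * v = 1)
    (hvk : v ∈ ch S w (k + 1)) (hvk' : v ∉ ch S w k) {y : G} (hy : y ∈ ch S w (k + 1)) :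
    y * w * y⁻¹ * w⁻¹ ∈ YY w v := by
  have hDk : closure ({w, v} : Set G) ≤ ch S w (k + 1) := by
    rw [closure_le]
    rintro z (rfl | rfl)
    · exact h.self_mem hw _
    · exact hvk
  obtain ⟨d, hd, h1, h2⟩ := h.gen hQ hw (D := closure ({w, v} : Set G)) (subset_closure (by simp)) hDk
    (x := v) (subset_closure (by simp)) hvk' y hy
  have h3 := (mem_BB (h.sq w hw) hv hd).2
  have e : y * w * y⁻¹ * w⁻¹ = d * w * d⁻¹ * w⁻¹ := by
    calc y * w * y⁻¹ * w⁻¹ = d * ((d⁻¹ * y) * w) * y⁻¹ * w⁻¹ := by group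
      _ = d * (w * (d⁻¹ * y)) * y⁻¹ * w⁻¹ := by rw [h2]
      _ = d * w * d⁻¹ * w⁻¹ := by group
  rw [e]
  exact h3

theorem y2 {k : ℕ} (hk : 1 ≤ k) (hQ : ∀ j, j ≤ k → Q S W j) {w v : G} (hw : w ∈ W) (hv : v * v = 1)
    (hvk : v ∈ ch S w (k + 1)) (hvk' : v ∉ ch S w k) :
    ((w * v) * (w * v)) * ((w * v) * (w * v)) ≠ 1 := by
  intro hc
  have hvS := ch_le S w _ hvk
  obtain ⟨s₀, hs₀, hs₀'⟩ := ch_grow h.p (k := 0) hvS (fun h1 => hvk' (ch_mono' S w (Nat.zero_le k) h1))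
  obtain ⟨s₁, hs₁, hs₁'⟩ := ch_grow h.p (k := 1) hvS (fun h1 => hvk' (ch_mono' S w hk h1))
  have key : ∀ s ∈ ch S w (k + 1), s ∉ ch S w 0 → s * w * s⁻¹ * w⁻¹ = (w * v) * (w * v) := by
    intro s hs hs'
    have h1 := h.y1 hQ hw hv hvk hvk' hs
    obtain ⟨j, hj⟩ := mem_zpowers_iff.1 h1
    rcases Int.even_or_odd' j with ⟨i, rfl | rfl⟩
    · exfalso
      have h2 : s * w * s⁻¹ * w⁻¹ = 1 := by
        rw [← hj, zpow_mul]
        have : ((w * v) * (w * v)) ^ (2 : ℤ) = 1 := by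
          rw [show (2 : ℤ) = ((2 : ℕ) : ℤ) from rfl, zpow_natCast, pow_two, hc]
        rw [this, one_zpow]
      apply hs'
      refine cent_le 0 (ch_le S w _ hs) ?_
      rw [mul_inv_eq_one, mul_inv_eq_iff_eq_mul] at h2
      exact h2
    · rw [← hj, zpow_add, zpow_mul]
      have : ((w * v) * (w * v)) ^ (2 : ℤ) = 1 := by
        rw [show (2 : ℤ) = ((2 : ℕ) : ℤ) from rfl, zpow_natCast, pow_two, hc]
      rw [this, one_zpow, one_mul, zpow_one]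
  have h0 := key s₀ (ch_mono' S w (by omega) hs₀) hs₀'
  have h1 := key s₁ (ch_mono' S w (by omega) hs₁) (fun h2 => hs₁' (ch_mono S w 0 h2))
  rw [← h1] at h0
  have h2 : s₁ * w * s₁⁻¹ = s₀ * w * s₀⁻¹ := (mul_right_cancel h0).symm
  exact hs₁' (mem_of_conj_eq (ch_le S w _ hs₁) hs₀ h2)

/-- **three involutions** -/
theorem three_inv {k : ℕ} (hk : 1 ≤ k) (hQ : ∀ j, j ≤ k → Q S W j) {w u v : G} (hw : w ∈ W) (hu : u ∈ W)
    (hv : v ∈ W) (hwu : ch S w (k + 1) = ch S u (k + 1)) (hvk : v ∈ ch S w (k + 1))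
    (h1 : u ∉ ch S w k) (h2 : v ∉ ch S w k) (h3 : w ∉ ch S u k) (h4 : v ∉ ch S u k) : False := by
  have hww := h.sq w hw
  have huu := h.sq u hu
  have hvv := h.sq v hv
  have hwi : w⁻¹ = w := inv_eq_of_mul_eq_one_right hww
  have hui : u⁻¹ = u := inv_eq_of_mul_eq_one_right huu
  have hvi : v⁻¹ = v := inv_eq_of_mul_eq_one_right hvv
  have hwk : w ∈ ch S w (k + 1) := h.self_mem hw _
  have huk : u ∈ ch S u (k + 1) := h.self_mem hu _
  have huk' : u ∈ ch S w (k + 1) := by rw [hwu]; exact huk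
  have hwk' : w ∈ ch S u (k + 1) := by rw [← hwu]; exact hwk
  have hvk' : v ∈ ch S u (k + 1) := by rw [← hwu]; exact hvk
  set c₁ := w * v with hc₁
  set c₂ := w * u with hc₂
  set p := c₁ * c₁ with hp
  set q := c₂ * c₂ with hq
  set r := (u * v) * (u * v) with hr
  have hc₁i : c₁⁻¹ = v * w := c_inv hww hvv
  have hc₂i : c₂⁻¹ = u * w := c_inv hww huu
  -- `q ∈ ⟨p⟩`
  have e1 : q ∈ zpowers p := by
    have h5 := h.y1 hQ hw hvv hvk h2 huk'
    have e : u * w * u⁻¹ * w⁻¹ = q⁻¹ := by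
      rw [hq, mul_inv_rev, hc₂i, hwi, hui]; group
    rw [e] at h5
    have := inv_mem h5
    rwa [inv_inv] at this
  have e2 : p ∈ zpowers q := by
    have h5 := h.y1 hQ hw huu huk' h1 hvk
    have e : v * w * v⁻¹ * w⁻¹ = p⁻¹ := by
      rw [hp, mul_inv_rev, hc₁i, hwi, hvi]; group
    rw [e] at h5
    have := inv_mem h5
    rwa [inv_inv] at this
  have hq' : (u * w) * (u * w) = q⁻¹ := by rw [hq, mul_inv_rev, hc₂i]
  have e3 : q ∈ zpowers r := by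
    have h5 := h.y1 hQ hu hvv hvk' h4 hwk'
    have e : w * u * w⁻¹ * u⁻¹ = q := by rw [hwi, hui, hq, hc₂]; group
    rw [e] at h5
    exact h5
  have e4 : r ∈ zpowers q := by
    have h5 := h.y1 hQ hu hww hwk' h3 hvk'
    have e : v * u * v⁻¹ * u⁻¹ = r⁻¹ := by
      rw [hr, mul_inv_rev, mul_inv_rev, hui, hvi]; group
    rw [e, YY, hq', zpowers_inv] at h5
    have := inv_mem h5
    rwa [inv_inv] at this
  have hpp := h.y2 hk hQ hw hvv hvk h2
  -- commutations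
  have hwinv : ∀ y ∈ zpowers p, w * y * w⁻¹ = y⁻¹ := fun y hy => w_inverts hww hvv hy
  have hpq : zpowers p = zpowers q := le_antisymm (by rw [zpowers_le]; exact e2) (by rw [zpowers_le]; exact e1)
  have hc₁Y : ∀ y ∈ zpowers p, c₁ * y = y * c₁ := by
    intro y hy
    obtain ⟨j, rfl⟩ := mem_zpowers_iff.1 hy
    have h5 : Commute c₁ p := (Commute.refl c₁).mul_right (Commute.refl c₁)
    exact (h5.zpow_right j).eq
  have hc₂Y : ∀ y ∈ zpowers p, c₂ * y = y * c₂ := by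
    intro y hy
    rw [hpq] at hy
    obtain ⟨j, rfl⟩ := mem_zpowers_iff.1 hy
    have h5 : Commute c₂ q := (Commute.refl c₂).mul_right (Commute.refl c₂)
    exact (h5.zpow_right j).eq
  have hYY : ∀ y ∈ zpowers p, ∀ z ∈ zpowers p, y * z = z * y := by
    intro y hy z hz
    obtain ⟨i, rfl⟩ := mem_zpowers_iff.1 hy
    obtain ⟨j, rfl⟩ := mem_zpowers_iff.1 hz
    rw [← zpow_add, ← zpow_add, add_comm]
  -- `κ`
  have hc₁k : c₁ ∈ ch S w (k + 1) := mul_mem hwk hvk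
  obtain ⟨κ, hκ, hκe⟩ : ∃ κ ∈ zpowers p, c₁ * c₂ * c₁⁻¹ = κ * c₂ := by
    have h5 := h.y1 hQ hw hvv hvk h2 hc₁k
    have h6 : c₁ * u * c₁⁻¹ * u⁻¹ ∈ zpowers p := by
      have := h.y1 hQ hu hww hwk' h3 (y := c₁) (by rw [← hwu]; exact hc₁k)
      rw [YY, hq', zpowers_inv, ← hpq] at this
      exact this
    set y₁ := c₁ * w * c₁⁻¹ * w⁻¹ with hy₁
    set y₂ := c₁ * u * c₁⁻¹ * u⁻¹ with hy₂
    refine ⟨y₁ * (w * y₂ * w⁻¹), mul_mem h5 (by rw [hwinv y₂ h6]; exact inv_mem h6), ?_⟩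
    rw [hy₁, hy₂, hc₂]
    group
  have hκ2 : κ * κ = 1 := by
    have h5 : w * (c₁ * c₂ * c₁⁻¹) * w⁻¹ = c₁⁻¹ * c₂⁻¹ * c₁ := by
      have a1 : w * c₁ * w⁻¹ = c₁⁻¹ := by rw [hc₁i, hc₁]; exact conj_w_c hww
      have a2 : w * c₂ * w⁻¹ = c₂⁻¹ := by rw [hc₂i, hc₂]; exact conj_w_c hww
      have e : w * (c₁ * c₂ * c₁⁻¹) * w⁻¹ = (w * c₁ * w⁻¹) * (w * c₂ * w⁻¹) * (w * c₁ * w⁻¹)⁻¹ := by group
      rw [e, a1, a2, inv_inv]
    have h6 : w * (κ * c₂) * w⁻¹ = κ⁻¹ * c₂⁻¹ := by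
      have a2 : w * c₂ * w⁻¹ = c₂⁻¹ := by rw [hc₂i, hc₂]; exact conj_w_c hww
      have e : w * (κ * c₂) * w⁻¹ = (w * κ * w⁻¹) * (w * c₂ * w⁻¹) := by group
      rw [e, a2, hwinv κ hκ]
    rw [hκe, h6] at h5
    -- `c₁⁻¹ c₂ c₁ = c₂ κ`
    have h7 : c₁⁻¹ * c₂ * c₁ = c₂ * κ := by
      have h8 := congrArg (fun x => x⁻¹) h5
      simp only [mul_inv_rev, inv_inv] at h8
      rw [h8]; group
    have h8 : c₂ = κ * (κ * c₂) := by
      calc c₂ = c₁ * (c₁⁻¹ * c₂ * c₁) * c₁⁻¹ := by group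
        _ = c₁ * (c₂ * κ) * c₁⁻¹ := by rw [h7]
        _ = c₁ * (κ * c₂) * c₁⁻¹ := by rw [hc₂Y κ hκ]
        _ = (c₁ * κ) * c₂ * c₁⁻¹ := by group
        _ = κ * (c₁ * c₂ * c₁⁻¹) := by rw [hc₁Y κ hκ]; group
        _ = κ * (κ * c₂) := by rw [hκe]
    have h9 : κ * κ * c₂ = 1 * c₂ := by rw [one_mul, mul_assoc, ← h8]
    exact mul_right_cancel h9
  -- `r² = q⁻² p²`
  have hri : r = κ⁻¹ * q⁻¹ * p := by
    have huv : u * v = c₂⁻¹ * c₁ := by rw [hc₂i, hc₁]; calc u * v = u * (w * w) * v := by rw [hww, mul_one]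
                                                        _ = u * w * (w * v) := by group
    have h5 : c₁ * c₂⁻¹ = κ⁻¹ * c₂⁻¹ * c₁ := by
      have h6 := congrArg (fun x => x⁻¹) hκe
      simp only [mul_inv_rev, inv_inv] at h6
      -- `c₁ (c₂⁻¹ c₁⁻¹) = c₂⁻¹ κ⁻¹`
      have h7 : c₂⁻¹ * κ⁻¹ = κ⁻¹ * c₂⁻¹ := by
        rw [← mul_inv_rev, ← mul_inv_rev, hc₂Y κ hκ]
      rw [← h7, ← h6]; group
    rw [hr, huv]
    calc c₂⁻¹ * c₁ * (c₂⁻¹ * c₁) = c₂⁻¹ * (c₁ * c₂⁻¹) * c₁ := by group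
      _ = c₂⁻¹ * κ⁻¹ * c₂⁻¹ * (c₁ * c₁) := by rw [h5]; group
      _ = κ⁻¹ * c₂⁻¹ * c₂⁻¹ * (c₁ * c₁) := by
          have h7 : c₂⁻¹ * κ⁻¹ = κ⁻¹ * c₂⁻¹ := by
            rw [← mul_inv_rev, ← mul_inv_rev, hc₂Y κ hκ]
          rw [h7]
      _ = κ⁻¹ * q⁻¹ * p := by rw [hq, hp]; group
  obtain ⟨a, ha⟩ := mem_zpowers_iff.1 e1
  obtain ⟨a', ha'⟩ := mem_zpowers_iff.1 e2
  obtain ⟨b, hb⟩ := mem_zpowers_iff.1 (hpq ▸ e4 : r ∈ zpowers p)
  obtain ⟨b', hb'⟩ := mem_zpowers_iff.1 e3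
  -- the order of `p` is divisible by four
  have hpS : p ∈ S := ch_le S w _ (mul_mem hc₁k hc₁k)
  have h4p : 4 ∣ orderOf p := by
    obtain ⟨m, hm⟩ := h.p ⟨p, hpS⟩
    have hm' : p ^ 2 ^ m = 1 := congrArg Subtype.val hm
    obtain ⟨i, -, hi⟩ := (Nat.dvd_prime_pow Nat.prime_two).1 (orderOf_dvd_of_pow_eq_one hm')
    rcases i with _ | _ | i
    · exfalso
      rw [pow_zero, orderOf_eq_one_iff] at hi
      exact hpp (by change p * p = 1; rw [hi, one_mul])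
    · exfalso
      have h5 := pow_orderOf_eq_one p
      rw [hi, zero_add, pow_one, pow_two] at h5
      exact hpp h5
    · rw [hi]
      exact pow_dvd_pow 2 (by omega : 2 ≤ i + 1 + 1)
  have h4p' : (4 : ℤ) ∣ (orderOf p : ℤ) := by exact_mod_cast h4p
  have hodd_a : a * a' % 2 = 1 := by
    have h5 : p ^ (a * a' - 1) = 1 := by
      rw [zpow_sub, zpow_mul, ha, ha', zpow_one, mul_inv_cancel]
    have h6 := (orderOf_dvd_iff_zpow_eq_one.2 h5)
    have h7 : (4 : ℤ) ∣ a * a' - 1 := h4p'.trans h6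
    omega
  have hodd_b : b * b' * a' % 2 = 1 := by
    have h5 : p ^ (b * b' * a' - 1) = 1 := by
      rw [zpow_sub, zpow_mul, zpow_mul, hb, hb', ha', zpow_one, mul_inv_cancel]
    have h6 := (orderOf_dvd_iff_zpow_eq_one.2 h5)
    have h7 : (4 : ℤ) ∣ b * b' * a' - 1 := h4p'.trans h6
    omega
  have hodd_a' : a % 2 = 1 := by
    rcases Int.emod_two_eq_zero_or_one a with h5 | h5
    · rw [Int.mul_emod, h5] at hodd_a; simp at hodd_a
    · exact h5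
  have hodd_b' : b % 2 = 1 := by
    rcases Int.emod_two_eq_zero_or_one b with h5 | h5
    · rw [mul_assoc, Int.mul_emod, h5] at hodd_b; simp at hodd_b
    · exact h5
  have hfin : p ^ (2 * b + 2 * a - 2) = 1 := by
    have h5 : r * r = q⁻¹ * q⁻¹ * (p * p) := by
      have a1 : κ⁻¹ * κ⁻¹ = 1 := by rw [← mul_inv_rev, hκ2, inv_one]
      have a2 := hYY q⁻¹ (inv_mem e1) κ⁻¹ (inv_mem hκ)
      have a3 := hYY p (mem_zpowers p) (κ⁻¹ * q⁻¹) (mul_mem (inv_mem hκ) (inv_mem e1))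
      calc r * r = κ⁻¹ * q⁻¹ * (p * (κ⁻¹ * q⁻¹)) * p := by rw [hri]; group
        _ = κ⁻¹ * (q⁻¹ * κ⁻¹) * q⁻¹ * (p * p) := by rw [a3]; group
        _ = (κ⁻¹ * κ⁻¹) * (q⁻¹ * q⁻¹ * (p * p)) := by rw [a2]; group
        _ = q⁻¹ * q⁻¹ * (p * p) := by rw [a1, one_mul]
    rw [← hb, ← ha] at h5
    have h6 : p ^ (2 * b + 2 * a - 2) = (p ^ b * p ^ b) * ((p ^ a)⁻¹ * (p ^ a)⁻¹ * (p * p))⁻¹ := by
      group
    rw [h6, h5, mul_inv_cancel]
  have h5 := (orderOf_dvd_iff_zpow_eq_one.2 hfin)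
  have h6 : (4 : ℤ) ∣ 2 * b + 2 * a - 2 := h4p'.trans h5
  omega

theorem q_zero : Q S W 0 := by
  intro w hw u hu v hv heq hvk
  obtain ⟨t, ht⟩ := h.two w hw
  have hu0 : u ∈ ch S w 0 := by rw [heq]; exact h.self_mem hu 0
  have h1 := ht u hu (ch_zero_mem.1 hu0).2
  have h2 := ht v hv (ch_zero_mem.1 hvk).2
  have hone : ∀ x : G, Cj (ch S w 0) x x := fun x => ⟨1, one_mem _, by group⟩
  rcases h1 with rfl | rfl
  · exact Or.inl (hone _)
  · rcases h2 with rfl | rfl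
    · exact Or.inr (Or.inl (hone _))
    · exact Or.inr (Or.inr (hone _))

theorem q_one : Q S W 1 := by
  intro w hw u hu v hv heq hvk
  have hgrow : ∀ w ∈ W, ∃ s ∈ ch S w 1, s ∉ ch S w 0 := by
    intro w hw
    obtain ⟨x, hx, hx1⟩ := h.proper w hw
    exact ch_grow h.p hx (fun h1 => hx1 (ch_mono S w 0 h1))
  have huk : u ∈ ch S w 1 := by rw [heq]; exact h.self_mem hu 1
  rcases h.three w hw u hu v hv huk hvk with h1 | h1 | h1
  · obtain ⟨s, hs, hs'⟩ := hgrow w hw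
    exact Or.inl (h.m1' h.q_zero hw hu (ch_zero_mem.2 ⟨h.mem u hu, h1⟩) hs hs')
  · obtain ⟨s, hs, hs'⟩ := hgrow w hw
    exact Or.inr (Or.inl (h.m1' h.q_zero hw hv (ch_zero_mem.2 ⟨h.mem v hv, h1⟩) hs hs'))
  · obtain ⟨s, hs, hs'⟩ := hgrow u hu
    have h2 := h.m1' h.q_zero hu hv (ch_zero_mem.2 ⟨h.mem v hv, h1.symm⟩) hs hs'
    rw [← heq] at h2
    exact Or.inr (Or.inr h2)

theorem card_ch {w u : G} (hw : w ∈ W) (hu : u ∈ W) (k : ℕ) : Nat.card (ch S u k) = Nat.card (ch S w k) := by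
  obtain ⟨n, hn, rfl⟩ := h.conj w hw u hu
  rw [ch_conj (h.norm hn), card_cj]

theorem q_succ {k : ℕ} (hk : 1 ≤ k) (hQ : ∀ j, j ≤ k → Q S W j) : Q S W (k + 1) := by
  intro w hw u hu v hv heq hvk
  by_cases hex : ∃ s ∈ ch S w (k + 1), s ∉ ch S w k
  · obtain ⟨s, hs, hs'⟩ := hex
    obtain ⟨s', hs₁, hs₁'⟩ : ∃ s ∈ ch S u (k + 1), s ∉ ch S u k := by
      by_contra hcon
      push Not at hcon
      have h1 : ch S u (k + 1) ≤ ch S u k := hcon
      have h2 : ch S w k = ch S w (k + 1) := by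
        refine eq_of_le_of_card_ge (ch_mono S w k) ?_
        rw [← h.card_ch hw hu k, heq]
        exact Nat.card_le_card_of_injective _ (inclusion_injective h1)
      exact hs' (by rw [h2]; exact hs)
    have huk : u ∈ ch S w (k + 1) := by rw [heq]; exact h.self_mem hu _
    have hwk : w ∈ ch S u (k + 1) := by rw [← heq]; exact h.self_mem hw _
    by_cases h1 : u ∈ ch S w k
    · exact Or.inl (h.m1' (hQ k le_rfl) hw hu h1 hs hs')
    by_cases h2 : v ∈ ch S w k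
    · exact Or.inr (Or.inl (h.m1' (hQ k le_rfl) hw hv h2 hs hs'))
    by_cases h3 : w ∈ ch S u k
    · have h5 := h.m1' (hQ k le_rfl) hu hw h3 hs₁ hs₁'
      rw [← heq] at h5
      exact Or.inl h5.symm
    by_cases h4 : v ∈ ch S u k
    · have h5 := h.m1' (hQ k le_rfl) hu hv h4 hs₁ hs₁'
      rw [← heq] at h5
      exact Or.inr (Or.inr h5)
    exact (h.three_inv hk hQ hw hu hv heq hvk h1 h2 h3 h4).elim
  · push Not at hex
    have hS : ∀ x ∈ S, x ∈ ch S w k := by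
      intro x hx
      by_contra hxk
      obtain ⟨y, hy, hyk⟩ := ch_grow h.p hx hxk
      exact hyk (hex y hy)
    have h1 : ch S w k = S := le_antisymm (ch_le S w k) hS
    have h2 : ch S u k = S := by
      refine eq_of_le_of_card_ge (ch_le S u k) ?_
      rw [h.card_ch hw hu k, h1]
    have h3 : ch S w k = ch S w (k + 1) := le_antisymm (ch_mono S w k) (fun x hx => hS x (ch_le S w _ hx))
    have h4 := hQ k le_rfl w hw u hu v hv (h1.trans h2.symm) (hS v (h.mem v hv))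
    rw [h3] at h4
    exact h4

/-- **Q holds for all `k`** -/
theorem q_all (k : ℕ) : Q S W k := by
  induction k using Nat.strong_induction_on with
  | _ k ih =>
    rcases k with _ | _ | k
    · exact h.q_zero
    · exact h.q_one
    · exact h.q_succ (by omega) (fun j hj => ih j (by omega))

end CH

end Cfsg.Agent.H305.Chain
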