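import Mathlib
import Cfsg.Agent.H305.EndA

/-!
# Endgame: the focal subgroup argument
-/

set_option autoImplicit false

namespace Cfsg.Agent.H305.Ess

open Subgroup Cfsg.Agent.Lib.GoldschmidtFusion Cfsg.Agent.H305.FF Cfsg.Agent.H305.Chain
open scoped Pointwise commutatorElement

variable {G : Type*} [Group G] [Finite G] {S : Sylow 2 G}

theorem NN.swap {E : Subgroup G} {x : G} (h : NN S E x) : NN S (cj x E) x := by
  refine ⟨h.hE', h.xS, ?_, ?_⟩
  · rw [mem_norm_cj]
    have e : x⁻¹ * x * x = x := by group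
    rw [e]; exact h.xE
  · rw [h.T0_eq]; exact h.xT

/-- If there is a non-normal essential subgroup, then no essential subgroup is normal. -/
theorem NN.not_normal (hAI : AI G) {E : Subgroup G} {x : G} (h : NN S E x) {E₁ : Subgroup G} (h₁ : IsE S E₁) :
    ¬ (S : Subgroup G) ≤ normalizer (E₁ : Set G) := by
  intro hn
  have hle : om E₁ ≤ T0 S E := by
    by_contra hcon
    obtain ⟨v₁, hv₁, hv₁T⟩ := SetLike.not_le_iff_exists.1 hcon
    have hSN : (S : Subgroup G) ≤ normalizer (om E₁ : Set G) := fun s hs => norm_om (hn hs)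
    have hE1 : E ≤ normalizer (om E₁ : Set G) := h.hE.le.trans hSN
    have hTS : E ⊔ om E₁ ≤ (S : Subgroup G) := sup_le h.hE.le h₁.om_le_S
    obtain ⟨y, hyT, hyE, hyN⟩ := exists_norm (S.isPGroup'.to_le hTS) (H := E) le_sup_left
      (mem_sup_right hv₁) (fun h2 => hv₁T (h.E_le h2))
    have hy' : y ∈ (E : Set G) * (om E₁ : Set G) := by
      rw [← coe_mul_of_left_le_normalizer_right E (om E₁) hE1]; exact hyT
    obtain ⟨e, he, v, hv, rfl⟩ := Set.mem_mul.1 hy'
    have hvN : v ∈ normalizer (E : Set G) := by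
      have := mul_mem (inv_mem (le_normalizer he)) hyN
      rwa [inv_mul_cancel_left] at this
    have hvE : v ∉ E := fun h2 => hyE (mul_mem he h2)
    have hvT : v ∈ T0 S E := ⟨h₁.om_le_S hv, hvN⟩
    rcases h.inv_cases hAI hvT (h₁.mem_om'.1 hv).2 with h2 | h2
    · exact hvE (om_le E h2)
    · have hvc : ¬ Cen (T0 S (cj x E)) v := by
        rw [h.T0_eq]
        intro hc
        exact hvE (h.mem_of_cen (h₁.om_le_S hv) hc).1
      apply hcon
      intro u hu
      exact h.E'_le (h.swap.cent_eq hAI h2 hvc (h₁.om_le_S hu) (h₁.comm u (om_le _ hu) v (om_le _ hv)))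
  rcases h.eq_or_eq hAI h₁ hle with rfl | rfl
  · exact h.xE (hn h.xS)
  · exact h.swap.xE (hn h.xS)

/-- the structure for every essential subgroup -/
theorem NN.all (hAI : AI G) [IsSimpleGroup G] (hna : ∃ a b : G, a * b ≠ b * a) {E : Subgroup G} {x : G}
    (h : NN S E x) {E₁ : Subgroup G} (h₁ : IsE S E₁) : ∃ x₁ t w A, NN S E₁ x₁ ∧ Q2 S E₁ t w A := by
  obtain ⟨x₁, hx₁⟩ := exists_NN h₁ (h.not_normal hAI h₁)
  obtain ⟨t, w, A, q⟩ := hx₁.exists_Q2 hAI (hx₁.relIndex_le hAI hna)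
  exact ⟨x₁, t, w, A, hx₁, q⟩

/-- the focal subgroup contributions of `E` -/
theorem Q2.focE (hAI : AI G) {E : Subgroup G} {t w : G} {A : Subgroup G} (q : Q2 S E t w A) {H : Subgroup G}
    (hN : ∀ n ∈ normalizer ((S : Subgroup G) : Set G), ∀ s ∈ (S : Subgroup G), s⁻¹ * (n * s * n⁻¹) ∈ H)
    (hw : w ∈ H) : ∀ g ∈ normalizer (E : Set G), ∀ e ∈ E, e⁻¹ * (g * e * g⁻¹) ∈ H := by
  intro g hg e he
  have ht : t ∈ H := by
    obtain ⟨f, hfS, hfE, hfN⟩ := q.hE.exists_t
    have h1 := q.comm f ⟨hfS, hfN⟩ hfE w q.wV q.wcen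
    have h2 := hN f (le_normalizer hfS) w q.wS
    have h3 : f * w * f⁻¹ = t * w := by
      rw [← h1, mul_assoc _ w w, q.ww, mul_one]
    rw [h3, q.tw, inv_mul_cancel_left] at h2
    exact h2
  have hW : ∀ y, InW t w y → y ∈ H := by
    rintro y (rfl | rfl | rfl | rfl)
    · exact one_mem _
    · exact ht
    · exact hw
    · exact mul_mem ht hw
  obtain ⟨y, hy, ha⟩ := q.decomp e he
  obtain ⟨n, hnS, -, hn⟩ := q.fratt hAI hg
  set a := y⁻¹ * e with haa
  have hea : e = y * a := by rw [haa]; group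
  have hyE : y ∈ E := by
    have := mul_mem he (inv_mem (q.AE ha))
    have e1 : e * a⁻¹ = y := by rw [haa]; group
    rwa [e1] at this
  have hgy := conj_mem_of_norm hg hyE
  have h1 := hN n hnS a (q.AS ha)
  rw [← hn a ha] at h1
  have h2 : g * y * g⁻¹ ∈ H := hW _ (q.Winv g hg y hy)
  have h3 := q.hE.comm _ (inv_mem (q.AE ha)) _ (mul_mem (inv_mem hyE) hgy)
  have e1 : e⁻¹ * (g * e * g⁻¹) = (y⁻¹ * (g * y * g⁻¹)) * (a⁻¹ * (g * a * g⁻¹)) := by
    calc e⁻¹ * (g * e * g⁻¹) = (a⁻¹ * (y⁻¹ * (g * y * g⁻¹))) * (g * a * g⁻¹) := by rw [hea]; group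
      _ = ((y⁻¹ * (g * y * g⁻¹)) * a⁻¹) * (g * a * g⁻¹) := by rw [h3]
      _ = _ := by group
  rw [e1]
  exact mul_mem (mul_mem (inv_mem (hW y hy)) h2) h1

namespace Q2

variable {E : Subgroup G} {t w : G} {A : Subgroup G} (q : Q2 S E t w A)
include q

/-- the chain of normalizers reaches `S` -/
theorem exists_k {x : G} (h : NN S E x) : ∃ k, 1 ≤ k ∧ ch (S : Subgroup G) w k ≠ (S : Subgroup G) ∧
    ch (S : Subgroup G) w (k + 1) = (S : Subgroup G) := by
  classical
  have hex : ∃ k, ch (S : Subgroup G) w k = (S : Subgroup G) := by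
    by_contra hcon
    push Not at hcon
    have h1 : ∀ k, k < Nat.card (ch (S : Subgroup G) w k) := by
      intro k
      induction k with
      | zero => exact Nat.card_pos
      | succ k ih =>
        obtain ⟨y, hyS, hy⟩ := SetLike.exists_of_lt (lt_of_le_of_ne (ch_le (S : Subgroup G) w k) (hcon k))
        obtain ⟨z, hz, hzk⟩ := ch_grow S.isPGroup' hyS hy
        have h2 : ch (S : Subgroup G) w k < ch (S : Subgroup G) w (k + 1) :=
          lt_of_le_of_ne (ch_mono _ _ _) (fun h3 => hzk (by rw [h3]; exact hz))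
        have h3 : Nat.card (ch (S : Subgroup G) w k) < Nat.card (ch (S : Subgroup G) w (k + 1)) := by
          rcases lt_or_ge (Nat.card (ch (S : Subgroup G) w k)) (Nat.card (ch (S : Subgroup G) w (k + 1))) with h4 | h4
          · exact h4
          · exact absurd (eq_of_le_of_card_ge h2.le h4) h2.ne
        omega
    have h2 := h1 (Nat.card S)
    have h3 : Nat.card (ch (S : Subgroup G) w (Nat.card S)) ≤ Nat.card S :=
      Nat.card_le_card_of_injective _ (inclusion_injective (ch_le (S : Subgroup G) w (Nat.card S)))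
    omega
  have hx : ∀ k, k ≤ 1 → ch (S : Subgroup G) w k ≠ (S : Subgroup G) := by
    intro k hk hS
    have h1 : (S : Subgroup G) ≤ T0 S E := by
      rw [← q.ch_one]
      exact hS.symm.le.trans (ch_mono' _ _ hk)
    exact h.xE (mem_T0.1 (h1 h.xS)).2
  obtain ⟨k, hk⟩ : ∃ k, Nat.find hex = k + 1 := by
    refine ⟨Nat.find hex - 1, ?_⟩
    have h1 : Nat.find hex ≠ 0 := fun h2 => hx 0 (by omega) (by rw [← h2]; exact Nat.find_spec hex)
    omega
  refine ⟨k, ?_, Nat.find_min hex (by omega), by rw [← hk]; exact Nat.find_spec hex⟩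
  by_contra h1
  exact hx (k + 1) (by omega) (by rw [← hk]; exact Nat.find_spec hex)

end Q2

/-- the index of `S` in `N(S)` is odd -/
theorem exists_odd_pow {n : G} (hn : n ∈ normalizer ((S : Subgroup G) : Set G)) :
    ∃ m : ℕ, Odd m ∧ n ^ m ∈ (S : Subgroup G) := by
  have : Fact (Nat.Prime 2) := ⟨Nat.prime_two⟩
  obtain ⟨s, m, hm, hsm⟩ := Nat.exists_eq_two_pow_mul_odd (n := orderOf n) (orderOf_pos n).ne'
  refine ⟨m, hm, ?_⟩
  have h1 : n ^ m ∈ normalizer ((S : Subgroup G) : Set G) := pow_mem hn m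
  have hp : IsPGroup 2 (zpowers (n ^ m)) := by
    rw [IsPGroup.iff_card]
    have h2 : orderOf (n ^ m) ∣ 2 ^ s := orderOf_dvd_of_pow_eq_one (by
      rw [← pow_mul, mul_comm, ← hsm]; exact pow_orderOf_eq_one n)
    obtain ⟨j, -, hj⟩ := (Nat.dvd_prime_pow Nat.prime_two).1 h2
    exact ⟨j, by rw [Nat.card_zpowers, hj]⟩
  have h2 : IsPGroup 2 ((S : Subgroup G) ⊔ zpowers (n ^ m) : Subgroup G) :=
    S.isPGroup'.to_sup_of_normal_left' hp (by rw [zpowers_le]; exact h1)
  have h3 := S.is_maximal' h2 le_sup_left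
  rw [← h3]
  exact mem_sup_right (mem_zpowers _)

/-- a subgroup containing `S` and the square of an element of `N(S)` contains the element. -/
theorem mem_of_sq {n : G} (hn : n ∈ normalizer ((S : Subgroup G) : Set G)) {H : Subgroup G} (hH : (S : Subgroup G) ≤ H)
    (h2 : n * n ∈ H) : n ∈ H := by
  obtain ⟨m, ⟨k, rfl⟩, hm⟩ := exists_odd_pow hn
  have h3 : (n * n) ^ k ∈ H := pow_mem h2 k
  have e : n ^ (2 * k + 1) = (n * n) ^ k * n := by rw [pow_succ, pow_mul, pow_two]
  rw [e] at hm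
  have := mul_mem (inv_mem h3) (hH hm)
  rwa [inv_mul_cancel_left] at this

end Cfsg.Agent.H305.Ess
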