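import Mathlib
import Cfsg.Agent.H305.EndB

/-!
# Endgame: a second essential subgroup
-/

set_option autoImplicit false

namespace Cfsg.Agent.H305.Ess

open Subgroup Cfsg.Agent.Lib.GoldschmidtFusion Cfsg.Agent.H305.FF Cfsg.Agent.H305.Chain
open scoped Pointwise commutatorElement

variable {G : Type*} [Group G] [Finite G] {S : Sylow 2 G}

/-- the data: a non-normal essential subgroup with its structure, and the top of the chain -/
structure Dat (S : Sylow 2 G) (E : Subgroup G) (t w : G) (A : Subgroup G) (x : G) (k : ℕ) : Prop where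
  nn : NN S E x
  q : Q2 S E t w A
  hk : 1 ≤ k
  ne : ch (S : Subgroup G) w k ≠ (S : Subgroup G)
  top : ch (S : Subgroup G) w (k + 1) = (S : Subgroup G)

theorem exists_dat (hAI : AI G) [IsSimpleGroup G] (hna : ∃ a b : G, a * b ≠ b * a) {E : Subgroup G} {x : G}
    (h : NN S E x) {E₁ : Subgroup G} (h₁ : IsE S E₁) : ∃ t w A x k, Dat S E₁ t w A x k := by
  obtain ⟨x₁, t, w, A, h', q⟩ := h.all hAI hna h₁
  obtain ⟨k, hk, h2, h3⟩ := q.exists_k h'
  exact ⟨t, w, A, x₁, k, h', q, hk, h2, h3⟩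

namespace Dat

variable {E : Subgroup G} {t w : G} {A : Subgroup G} {x : G} {k : ℕ} (d : Dat S E t w A x k)
include d

theorem w_mem : w ∈ Q2.cl (S : Subgroup G) w := ⟨1, one_mem _, by group⟩

theorem conj_top {n : G} (hn : n ∈ normalizer ((S : Subgroup G) : Set G)) :
    ch (S : Subgroup G) (n * w * n⁻¹) (k + 1) = (S : Subgroup G) := by
  rw [ch_conj hn, d.top, cj_self hn]

/-- the `N(S)`-class of `w` is the `S`-class -/
theorem conj_S (hAI : AI G) {n : G} (hn : n ∈ normalizer ((S : Subgroup G) : Set G)) :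
    ∃ s ∈ (S : Subgroup G), n * w * n⁻¹ = s * w * s⁻¹ := by
  have hCH := d.q.toCH hAI d.nn
  set C : Subgroup G := normalizer ((S : Subgroup G) : Set G) ⊓ centralizer ({w} : Set G) with hC
  have hmem : ∀ m, m ∈ normalizer ((S : Subgroup G) : Set G) → (∃ s ∈ (S : Subgroup G), m * w * m⁻¹ = s * w * s⁻¹) →
      m ∈ (S : Subgroup G) ⊔ C := by
    rintro m hm ⟨s, hs, hse⟩
    have h1 : s⁻¹ * m ∈ C := by
      refine mem_inf.2 ⟨mul_mem (inv_mem (le_normalizer hs)) hm, mem_centralizer_singleton_iff.2 ?_⟩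
      calc s⁻¹ * m * w = s⁻¹ * (m * w * m⁻¹) * m := by group
        _ = s⁻¹ * (s * w * s⁻¹) * m := by rw [hse]
        _ = w * (s⁻¹ * m) := by group
    have := mul_mem (mem_sup_left (T := C) hs) (mem_sup_right h1)
    rwa [mul_inv_cancel_left] at this
  have hback : ∀ m, m ∈ (S : Subgroup G) ⊔ C → ∃ s ∈ (S : Subgroup G), m * w * m⁻¹ = s * w * s⁻¹ := by
    intro m hm
    have h1 : m ∈ ((S : Subgroup G) : Set G) * (C : Set G) := by
      rw [← coe_mul_of_right_le_normalizer_left (S : Subgroup G) C inf_le_left]; exact hm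
    obtain ⟨s, hs, c, hc, rfl⟩ := Set.mem_mul.1 h1
    refine ⟨s, hs, ?_⟩
    have h2 := mem_centralizer_singleton_iff.1 hc.2
    calc s * c * w * (s * c)⁻¹ = s * (c * w) * c⁻¹ * s⁻¹ := by group
      _ = s * w * s⁻¹ := by rw [h2]; group
  have hu : n * w * n⁻¹ ∈ Q2.cl (S : Subgroup G) w := ⟨n, hn, rfl⟩
  have hn2 : n * n ∈ normalizer ((S : Subgroup G) : Set G) := mul_mem hn hn
  have hv : (n * n) * w * (n * n)⁻¹ ∈ Q2.cl (S : Subgroup G) w := ⟨n * n, hn2, rfl⟩
  have hQ := hCH.q_all (k + 1) w d.w_mem _ hu _ hv (by rw [d.top, d.conj_top hn])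
    (by rw [d.top]; exact conj_mem_of_norm hn2 d.q.wS)
  rw [d.top] at hQ
  rcases hQ with ⟨s, hs, h1⟩ | ⟨s, hs, h1⟩ | ⟨s, hs, h1⟩
  · exact ⟨s, hs, h1⟩
  · have h2 := hmem (n * n) hn2 ⟨s, hs, h1⟩
    exact hback n (mem_of_sq hn le_sup_left h2)
  · refine ⟨n⁻¹ * s * n, conj_mem_of_norm' hn hs, ?_⟩
    calc n * w * n⁻¹ = n⁻¹ * ((n * n) * w * (n * n)⁻¹) * n := by group
      _ = n⁻¹ * (s * (n * w * n⁻¹) * s⁻¹) * n := by rw [h1]
      _ = (n⁻¹ * s * n) * w * (n⁻¹ * s * n)⁻¹ := by group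

theorem norm_ch (hAI : AI G) {n : G} (hn : n ∈ normalizer ((S : Subgroup G) : Set G)) :
    n ∈ normalizer (ch (S : Subgroup G) w k : Set G) := by
  have hCH := d.q.toCH hAI d.nn
  obtain ⟨s, hs, hse⟩ := d.conj_S hAI hn
  rw [← cj_eq_iff, ← ch_conj hn, hse]
  exact hCH.ch_conjS (by rw [d.top]; exact hs)

/-- there is an essential subgroup whose `w` is not in the maximal subgroup of the chain -/
theorem exists_F (hAI : AI G) [IsSimpleGroup G] (hna : ∃ a b : G, a * b ≠ b * a) :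
    ∃ F t' w' A' x' k', Dat S F t' w' A' x' k' ∧ w' ∉ ch (S : Subgroup G) w k := by
  by_contra hcon
  push Not at hcon
  have hCH := d.q.toCH hAI d.nn
  have hN : ∀ n ∈ normalizer ((S : Subgroup G) : Set G), ∀ s ∈ (S : Subgroup G),
      s⁻¹ * (n * s * n⁻¹) ∈ ch (S : Subgroup G) w k := by
    intro n hn s hs
    have hnP := d.norm_ch hAI hn
    by_cases hsP : s ∈ ch (S : Subgroup G) w k
    · exact mul_mem (inv_mem hsP) (conj_mem_of_norm hnP hsP)
    · have h1 : n * s * n⁻¹ ∉ ch (S : Subgroup G) w k := by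
        intro h2
        apply hsP
        have h3 := conj_mem_of_norm' hnP h2
        have e : n⁻¹ * (n * s * n⁻¹) * n = s := by group
        rwa [e] at h3
      exact hCH.m2 (hCH.q_all k) d.w_mem (by rw [d.top]; exact hs) hsP
        (by rw [d.top]; exact conj_mem_of_norm hn hs) h1
  have h1 := focal hAI S hna (ch (S : Subgroup G) w k) hN (fun E₁ h₁ g hg e he => by
    obtain ⟨t₁, w₁, A₁, x₁, k₁, d₁⟩ := exists_dat hAI hna d.nn h₁
    exact d₁.q.focE hAI hN (hcon _ _ _ _ _ _ d₁) g hg e he)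
  exact d.ne (le_antisymm (ch_le _ _ _) h1)

end Dat

/-- the size of a conjugacy class -/
theorem class_ncard {T X : Subgroup G} {v : G} (hX : ∀ y, y ∈ X ↔ y ∈ T ∧ y * v = v * y) :
    ({u | ∃ s ∈ T, u = s * v * s⁻¹} : Set G).ncard = X.relIndex T := by
  have hkey : ∀ a b : T, (a : G) * v * (a : G)⁻¹ = b * v * (b : G)⁻¹ ↔ (a : G)⁻¹ * b ∈ X := by
    intro a b
    rw [hX]
    constructor
    · intro h
      refine ⟨mul_mem (inv_mem a.2) b.2, ?_⟩
      calc (a : G)⁻¹ * b * v = (a : G)⁻¹ * (b * v * (b : G)⁻¹) * b := by group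
        _ = (a : G)⁻¹ * (a * v * (a : G)⁻¹) * b := by rw [h]
        _ = v * ((a : G)⁻¹ * b) := by group
    · rintro ⟨-, h⟩
      calc (a : G) * v * (a : G)⁻¹ = a * (v * ((a : G)⁻¹ * b)) * (b : G)⁻¹ := by group
        _ = a * ((a : G)⁻¹ * b * v) * (b : G)⁻¹ := by rw [h]
        _ = b * v * (b : G)⁻¹ := by group
  rw [← Nat.card_coe_set_eq, relIndex, index]
  symm
  refine Nat.card_congr (Equiv.ofBijective (fun c : T ⧸ X.subgroupOf T => Quotient.liftOn' c
    (fun s : T => (⟨(s : G) * v * (s : G)⁻¹, s, s.2, rfl⟩ : ({u | ∃ s ∈ T, u = s * v * s⁻¹} : Set G))) ?_) ?_)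
  · intro a b hab
    rw [QuotientGroup.leftRel_apply, mem_subgroupOf] at hab
    exact Subtype.ext ((hkey a b).2 hab)
  · constructor
    · intro a b
      induction a using QuotientGroup.induction_on with | _ a => ?_
      induction b using QuotientGroup.induction_on with | _ b => ?_
      intro hab
      have h1 := (hkey a b).1 (congrArg Subtype.val hab)
      exact QuotientGroup.eq.2 (mem_subgroupOf.2 h1)
    · rintro ⟨_, s, hs, rfl⟩
      exact ⟨QuotientGroup.mk ⟨s, hs⟩, rfl⟩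

end Cfsg.Agent.H305.Ess
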