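import Mathlib
import Cfsg.Agent.H305.EndC

/-!
# Endgame: the cyclic group generated by the product of two involutions
-/

set_option autoImplicit false

namespace Cfsg.Agent.H305.Ess

open Subgroup Cfsg.Agent.Lib.GoldschmidtFusion Cfsg.Agent.H305.FF Cfsg.Agent.H305.Chain
open scoped Pointwise commutatorElement

variable {G : Type*} [Group G]

theorem image_ncard (Y : Subgroup G) (v : G) : ({u | ∃ y ∈ Y, u = y * v} : Set G).ncard = Nat.card Y := by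
  have h1 : ({u | ∃ y ∈ Y, u = y * v} : Set G) = (fun y => y * v) '' (Y : Set G) := by
    ext u
    constructor
    · rintro ⟨y, hy, rfl⟩; exact ⟨y, hy, rfl⟩
    · rintro ⟨y, hy, rfl⟩; exact ⟨y, hy, rfl⟩
  rw [h1, Set.ncard_image_of_injective _ (mul_left_injective v), ← Nat.card_coe_set_eq]
  rfl

theorem class_ge [Finite G] {T X Y : Subgroup G} {v : G} (hX : ∀ y, y ∈ X ↔ y ∈ T ∧ y * v = v * y)
    (hYv : ∀ y ∈ Y, ∃ s ∈ T, y * v = s * v * s⁻¹) (hle : ∀ s ∈ T, s * v * s⁻¹ * v⁻¹ ∈ Y) :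
    X.relIndex T = Nat.card Y := by
  rw [← class_ncard hX, ← image_ncard Y v]
  congr 1
  ext u
  constructor
  · rintro ⟨s, hs, rfl⟩
    exact ⟨_, hle s hs, by group⟩
  · rintro ⟨y, hy, rfl⟩
    exact hYv y hy

theorem class_le [Finite G] {T X Y : Subgroup G} {v : G} (hX : ∀ y, y ∈ X ↔ y ∈ T ∧ y * v = v * y)
    (hYv : ∀ y ∈ Y, ∃ s ∈ T, y * v = s * v * s⁻¹) (hcard : X.relIndex T ≤ Nat.card Y) :
    ∀ s ∈ T, s * v * s⁻¹ * v⁻¹ ∈ Y := by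
  have h1 : ({u | ∃ y ∈ Y, u = y * v} : Set G) ⊆ {u | ∃ s ∈ T, u = s * v * s⁻¹} := by
    rintro u ⟨y, hy, rfl⟩
    exact hYv y hy
  have h2 := Set.eq_of_subset_of_ncard_le h1 (by rw [class_ncard hX, image_ncard]; exact hcard) (Set.toFinite _)
  intro s hs
  have h3 : s * v * s⁻¹ ∈ ({u | ∃ y ∈ Y, u = y * v} : Set G) := by rw [h2]; exact ⟨s, hs, rfl⟩
  obtain ⟨y, hy, h4⟩ := h3
  rw [h4, mul_inv_cancel_right]
  exact hy

/-- the element of order four in a cyclic 2-group -/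
theorem exists_four {S : Sylow 2 G} [Finite G] {c : G} (hcS : c ∈ (S : Subgroup G)) (hc : c * c ≠ 1) :
    ∃ j : ℤ, c ^ j * c ^ j ≠ 1 ∧ (c ^ j * c ^ j) * (c ^ j * c ^ j) = 1 ∧
      ∀ i : ℤ, c ^ i * c ^ i = 1 → c ^ i = 1 ∨ c ^ i = c ^ j * c ^ j := by
  obtain ⟨n, hn⟩ := S.isPGroup' ⟨c, hcS⟩
  have hn' : c ^ 2 ^ n = 1 := congrArg Subtype.val hn
  obtain ⟨m, -, hm⟩ := (Nat.dvd_prime_pow Nat.prime_two).1 (orderOf_dvd_of_pow_eq_one hn')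
  have hm2 : 2 ≤ m := by
    by_contra hlt
    apply hc
    have h1 : orderOf c ∣ 2 := by
      rw [hm]
      interval_cases m <;> norm_num
    rw [← pow_two]
    exact orderOf_dvd_iff_pow_eq_one.1 h1
  obtain ⟨l, rfl⟩ := Nat.exists_eq_add_of_le hm2
  have e1 : c ^ ((2 : ℤ) ^ l) * c ^ ((2 : ℤ) ^ l) = c ^ ((2 : ℤ) ^ (l + 1)) := by
    rw [← zpow_add, pow_succ]; congr 1; ring
  have e2 : c ^ ((2 : ℤ) ^ (l + 1)) * c ^ ((2 : ℤ) ^ (l + 1)) = 1 := by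
    rw [← zpow_add, ← orderOf_dvd_iff_zpow_eq_one, hm]
    refine ⟨1, ?_⟩
    push_cast
    ring
  have e3 : c ^ ((2 : ℤ) ^ (l + 1)) ≠ 1 := by
    intro h1
    have h2 : orderOf c ∣ 2 ^ (l + 1) := by
      rw [orderOf_dvd_iff_pow_eq_one, ← zpow_natCast]
      push_cast
      exact h1
    rw [hm] at h2
    have := (Nat.pow_dvd_pow_iff_le_right (by norm_num : 1 < 2)).1 h2
    omega
  refine ⟨(2 : ℤ) ^ l, by rw [e1]; exact e3, by rw [e1]; exact e2, ?_⟩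
  intro i hi
  rw [e1]
  rw [← zpow_add, ← orderOf_dvd_iff_zpow_eq_one, hm] at hi
  have h1 : (2 : ℤ) ^ (l + 1) ∣ i := by
    obtain ⟨k, hk⟩ := hi
    refine ⟨k, ?_⟩
    push_cast at hk
    have h2 : (2 : ℤ) * i = 2 * (2 ^ (l + 1) * k) := by
      calc (2 : ℤ) * i = i + i := by ring
        _ = 2 ^ (2 + l) * k := hk
        _ = 2 * (2 ^ (l + 1) * k) := by ring
    exact mul_left_cancel₀ (by norm_num) h2
  obtain ⟨k, rfl⟩ := h1
  rcases Int.even_or_odd' k with ⟨k', rfl | rfl⟩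
  · left
    rw [← mul_assoc, zpow_mul, zpow_mul, zpow_ofNat, pow_two, e2, one_zpow]
  · right
    rw [zpow_mul, zpow_add, zpow_mul, zpow_ofNat, pow_two, e2, one_zpow, one_mul, zpow_one]

/-- one half of the configuration -/
structure Half (S : Sylow 2 G) (E : Subgroup G) (t w : G) (A : Subgroup G) (c z : G) : Prop where
  q : Q2 S E t w A
  cS : c ∈ (S : Subgroup G)
  wc : w * c * w⁻¹ = c⁻¹
  zc : ∃ j : ℤ, z = c ^ j
  zz : z * z = t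
  SE : ∀ s ∈ (S : Subgroup G), ∃ i : ℤ, (c ^ i)⁻¹ * s ∈ E
  norm : ∀ n ∈ normalizer ((S : Subgroup G) : Set G), ∃ u : ℤ, n * c * n⁻¹ = c ^ (1 + 2 * u)
  two : ∀ i : ℤ, c ^ i * c ^ i = 1 → c ^ i = 1 ∨ c ^ i = t
  wn : ∀ n ∈ normalizer ((S : Subgroup G) : Set G), ∃ i : ℤ, n * w * n⁻¹ = c ^ (2 * i) * w

theorem mem_YY {w v y : G} : y ∈ YY w v ↔ ∃ i : ℤ, y = (w * v) ^ (2 * i) := by
  rw [YY, mem_zpowers_iff]
  constructor
  · rintro ⟨i, rfl⟩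
    exact ⟨i, by rw [zpow_mul, zpow_ofNat, pow_two]⟩
  · rintro ⟨i, rfl⟩
    exact ⟨i, by rw [zpow_mul, zpow_ofNat, pow_two]⟩

/-- conjugating an inverting element -/
theorem conj_inv_elt {c w : G} (hwc : w * c * w⁻¹ = c⁻¹) (i : ℤ) : c ^ i * w * (c ^ i)⁻¹ = c ^ (2 * i) * w := by
  have h1 : w * (c ^ i)⁻¹ * w⁻¹ = c ^ i := by
    rw [← conj_inv, ← conj_zpow, hwc, inv_zpow, inv_inv]
  calc c ^ i * w * (c ^ i)⁻¹ = c ^ i * (w * (c ^ i)⁻¹ * w⁻¹) * w := by group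
    _ = c ^ (2 * i) * w := by rw [h1, ← zpow_add, two_mul]

/-- **The configuration** -/
theorem exists_half (hAI : AI G) [Finite G] {S : Sylow 2 G} {E F : Subgroup G} {t w t' w' : G} {A A' : Subgroup G}
    {x x' : G} {k k' : ℕ} (d : Dat S E t w A x k) (d' : Dat S F t' w' A' x' k')
    (hw' : w' ∉ ch (S : Subgroup G) w k) (hcard : Nat.card E ≤ Nat.card F) :
    ∃ z, Half S E t w A (w * w') z ∧ Half S F t' w' A' (w * w') z := by
  have hCH := d.q.toCH hAI d.nn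
  have hQ : ∀ j, j ≤ k → Q (S : Subgroup G) (Q2.cl (S : Subgroup G) w) j := fun j _ => hCH.q_all j
  have hw'S : w' ∈ ch (S : Subgroup G) w (k + 1) := by rw [d.top]; exact d'.q.wS
  have hww := d.q.ww
  have hww' := d'.q.ww
  have hwi : w⁻¹ = w := inv_eq_of_mul_eq_one_right hww
  have hwi' : w'⁻¹ = w' := inv_eq_of_mul_eq_one_right hww'
  set c := w * w' with hc
  have hc4 : (c * c) * (c * c) ≠ 1 := hCH.y2 d.hk hQ d.w_mem hww' hw'S hw'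
  have hc2 : c * c ≠ 1 := fun h => hc4 (by rw [h, one_mul])
  have hcS : c ∈ (S : Subgroup G) := mul_mem d.q.wS d'.q.wS
  have hwc : w * c * w⁻¹ = c⁻¹ := by rw [c_inv hww hww']; exact conj_w_c hww
  have hwc' : w' * c * w'⁻¹ = c⁻¹ := by
    rw [c_inv hww hww', hc]
    group
  have hYw : ∀ y ∈ YY w w', ∃ s ∈ (S : Subgroup G), y * w = s * w * s⁻¹ := by
    intro y hy
    obtain ⟨i, rfl⟩ := mem_YY.1 hy
    exact ⟨c ^ i, zpow_mem hcS i, (conj_inv_elt hwc i).symm⟩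
  have hYw' : ∀ y ∈ YY w w', ∃ s ∈ (S : Subgroup G), y * w' = s * w' * s⁻¹ := by
    intro y hy
    obtain ⟨i, rfl⟩ := mem_YY.1 hy
    exact ⟨c ^ i, zpow_mem hcS i, (conj_inv_elt hwc' i).symm⟩
  have hY1 : ∀ s ∈ (S : Subgroup G), s * w * s⁻¹ * w⁻¹ ∈ YY w w' := fun s hs =>
    hCH.y1 hQ d.w_mem hww' hw'S hw' (by rw [d.top]; exact hs)
  have hi1 := class_ge (T := (S : Subgroup G)) (fun y => d.q.cent_w.symm) hYw hY1
  have hi2 : F.relIndex (S : Subgroup G) ≤ Nat.card (YY w w') := by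
    rw [← hi1]
    have h1 := card_inf_mul E (S : Subgroup G)
    have h2 := card_inf_mul F (S : Subgroup G)
    rw [inf_of_le_left d.q.hE.le] at h1
    rw [inf_of_le_left d'.q.hE.le] at h2
    by_contra hlt
    rw [not_le] at hlt
    have h3 : Nat.card E * E.relIndex (S : Subgroup G) < Nat.card F * F.relIndex (S : Subgroup G) := by
      calc Nat.card E * E.relIndex (S : Subgroup G) ≤ Nat.card F * E.relIndex (S : Subgroup G) :=
            Nat.mul_le_mul_right _ hcard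
        _ < _ := Nat.mul_lt_mul_of_pos_left hlt Nat.card_pos
    omega
  have hY2 := class_le (T := (S : Subgroup G)) (fun y => d'.q.cent_w.symm) hYw' hi2
  have hY1' : ∀ s ∈ (S : Subgroup G), ∃ i : ℤ, s * w * s⁻¹ = c ^ (2 * i) * w := by
    intro s hs
    obtain ⟨i, hi⟩ := mem_YY.1 (hY1 s hs)
    exact ⟨i, by rw [← hi]; group⟩
  have hY2' : ∀ s ∈ (S : Subgroup G), ∃ i : ℤ, s * w' * s⁻¹ = c ^ (2 * i) * w' := by
    intro s hs
    obtain ⟨i, hi⟩ := mem_YY.1 (hY2 s hs)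
    exact ⟨i, by rw [← hi]; group⟩
  have hn1 : ∀ n ∈ normalizer ((S : Subgroup G) : Set G), ∃ i : ℤ, n * w * n⁻¹ = c ^ (2 * i) * w := by
    intro n hn
    obtain ⟨s, hs, h1⟩ := d.conj_S hAI hn
    rw [h1]; exact hY1' s hs
  have hn2 : ∀ n ∈ normalizer ((S : Subgroup G) : Set G), ∃ i : ℤ, n * w' * n⁻¹ = c ^ (2 * i) * w' := by
    intro n hn
    obtain ⟨s, hs, h1⟩ := d'.conj_S hAI hn
    rw [h1]; exact hY2' s hs
  have hwci : ∀ i : ℤ, w * c ^ i * w⁻¹ = c ^ (-i) := by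
    intro i
    rw [← conj_zpow, hwc, inv_zpow, zpow_neg]
  have hnorm : ∀ n ∈ normalizer ((S : Subgroup G) : Set G), ∃ u : ℤ, n * c * n⁻¹ = c ^ (1 + 2 * u) := by
    intro n hn
    obtain ⟨i, hi⟩ := hn1 n hn
    obtain ⟨j, hj⟩ := hn2 n hn
    refine ⟨i - j, ?_⟩
    have e : n * c * n⁻¹ = (n * w * n⁻¹) * (n * w' * n⁻¹) := by rw [hc]; group
    rw [e, hi, hj]
    calc c ^ (2 * i) * w * (c ^ (2 * j) * w') = c ^ (2 * i) * (w * c ^ (2 * j) * w⁻¹) * (w * w') := by group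
      _ = c ^ (2 * i) * c ^ (-(2 * j)) * c := by rw [hwci]
      _ = c ^ (1 + 2 * (i - j)) := by
        rw [← zpow_add, ← zpow_add_one]; congr 1; ring
  obtain ⟨j, hj1, hj2, hj3⟩ := exists_four hcS hc2
  -- `z * z = t`
  have key : ∀ {E₁ : Subgroup G} {t₁ w₁ : G} {A₁ : Subgroup G}, Q2 S E₁ t₁ w₁ A₁ → w₁ * c * w₁⁻¹ = c⁻¹ →
      c ^ j * c ^ j = t₁ := by
    intro E₁ t₁ w₁ A₁ q₁ hwc₁
    have h1 : c ^ j * w₁ * (c ^ j)⁻¹ = (c ^ j * c ^ j) * w₁ := by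
      rw [conj_inv_elt hwc₁, two_mul, zpow_add]
    have h2 : w₁ * (c ^ j * c ^ j) * w₁⁻¹ = c ^ j * c ^ j := by
      have h3 : w₁ * (c ^ j * c ^ j) * w₁⁻¹ = (c ^ j * c ^ j)⁻¹ := by
        rw [← zpow_add, ← conj_zpow, hwc₁, inv_zpow]
      rw [h3]
      exact inv_eq_of_mul_eq_one_right hj2
    have h2' : w₁ * (c ^ j * c ^ j) = (c ^ j * c ^ j) * w₁ := mul_inv_eq_iff_eq_mul.1 h2
    have hz : c ^ j ∈ normalizer ((S : Subgroup G) : Set G) := le_normalizer (zpow_mem hcS j)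
    have h4 : (c ^ j * w₁ * (c ^ j)⁻¹) * w₁ = w₁ * (c ^ j * w₁ * (c ^ j)⁻¹) := by
      rw [h1, ← h2', mul_assoc, h2']
    rcases q₁.conj_w hz (q₁.norm_of_comm hz h4) with h5 | h5
    · exfalso
      rw [h1] at h5
      exact hj1 (mul_eq_right.1 h5)
    · rw [h1] at h5
      exact mul_right_cancel h5
  have ht := key d.q hwc
  have ht' := key d'.q hwc'
  refine ⟨c ^ j, ⟨d.q, hcS, hwc, ⟨j, rfl⟩, ht, ?_, hnorm, ?_, hn1⟩, ⟨d'.q, hcS, hwc', ⟨j, rfl⟩, ht', ?_, hnorm, ?_, hn2⟩⟩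
  · intro s hs
    obtain ⟨i, hi⟩ := hY1' s hs
    refine ⟨i, d.q.cent_w.1 ⟨mul_mem (inv_mem (zpow_mem hcS i)) hs, ?_⟩⟩
    rw [← conj_inv_elt hwc] at hi
    calc (c ^ i)⁻¹ * s * w = (c ^ i)⁻¹ * (s * w * s⁻¹) * s := by group
      _ = (c ^ i)⁻¹ * (c ^ i * w * (c ^ i)⁻¹) * s := by rw [hi]
      _ = w * ((c ^ i)⁻¹ * s) := by group
  · intro i hi
    rw [← ht]; exact hj3 i hi
  · intro s hs
    obtain ⟨i, hi⟩ := hY2' s hs
    refine ⟨i, d'.q.cent_w.1 ⟨mul_mem (inv_mem (zpow_mem hcS i)) hs, ?_⟩⟩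
    rw [← conj_inv_elt hwc'] at hi
    calc (c ^ i)⁻¹ * s * w' = (c ^ i)⁻¹ * (s * w' * s⁻¹) * s := by group
      _ = (c ^ i)⁻¹ * (c ^ i * w' * (c ^ i)⁻¹) * s := by rw [hi]
      _ = w' * ((c ^ i)⁻¹ * s) := by group
  · intro i hi
    rw [← ht']; exact hj3 i hi

end Cfsg.Agent.H305.Ess
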