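import Mathlib
import Cfsg.Agent.H305.EndE
import Cfsg.Agent.SporadicB.DihedralLift

/-!
# Endgame: a non-normal essential subgroup gives a dihedral Sylow subgroup or a strongly closed abelian subgroup
-/

set_option autoImplicit false

namespace Cfsg.Agent.H305.Ess

open Subgroup Cfsg.Agent.Lib.GoldschmidtFusion Cfsg.Agent.H305.FF Cfsg.Agent.H305.Chain
open scoped Pointwise commutatorElement

variable {G : Type*} [Group G] [Finite G]

/-- the center of `S` -/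
def Zs (S : Subgroup G) : Subgroup G := S ⊓ centralizer (S : Set G)

omit [Finite G] in
theorem mem_Zs {S : Subgroup G} {z : G} : z ∈ Zs S ↔ z ∈ S ∧ Cen S z :=
  ⟨fun h => ⟨h.1, mem_centralizer_iff.1 h.2⟩, fun h => ⟨h.1, mem_centralizer_iff.2 h.2⟩⟩

omit [Finite G] in
theorem mem_closure_pair {w c w' d : G} (hww : w * w = 1) (hwc : w * c * w⁻¹ = c⁻¹) (hw' : w' = w * c)
    (hd : d ∈ closure ({w, w'} : Set G)) : ∃ i : ℤ, d = c ^ i ∨ d = c ^ i * w := by
  have hwi : ∀ i : ℤ, w * c ^ i = c ^ (-i) * w := by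
    intro i
    rw [← mul_inv_eq_iff_eq_mul, ← conj_zpow, hwc, inv_zpow, zpow_neg]
  have h1 : w' = c ^ (-1 : ℤ) * w := by rw [hw', ← hwi, zpow_one]
  induction hd using closure_induction with
  | mem x hx =>
    rcases hx with rfl | rfl
    · exact ⟨0, Or.inr (by rw [zpow_zero, one_mul])⟩
    · exact ⟨-1, Or.inr h1⟩
  | one => exact ⟨0, Or.inl (by rw [zpow_zero])⟩
  | mul x y _ _ hx hy =>
    obtain ⟨i, rfl | rfl⟩ := hx <;> obtain ⟨j, rfl | rfl⟩ := hy
    · exact ⟨i + j, Or.inl (by rw [zpow_add])⟩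
    · exact ⟨i + j, Or.inr (by rw [zpow_add]; group)⟩
    · refine ⟨i + -j, Or.inr ?_⟩
      rw [mul_assoc, hwi, zpow_add]; group
    · refine ⟨i + -j, Or.inl ?_⟩
      calc c ^ i * w * (c ^ j * w) = c ^ i * (w * c ^ j) * w := by group
        _ = c ^ i * c ^ (-j) * (w * w) := by rw [hwi]; group
        _ = c ^ (i + -j) := by rw [hww, mul_one, zpow_add]
  | inv x _ hx =>
    obtain ⟨i, rfl | rfl⟩ := hx
    · exact ⟨-i, Or.inl (by rw [zpow_neg])⟩
    · refine ⟨i, Or.inr ?_⟩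
      rw [mul_inv_rev, inv_eq_of_mul_eq_one_right hww, ← zpow_neg, hwi, neg_neg]

section

variable {S : Sylow 2 G} {E : Subgroup G} {t w w' : G} {A : Subgroup G} {z : G}

namespace Half

variable (H : Half S E t w A (w * w') z)
include H

omit [Finite G] in
theorem c_mem : w * w' ∈ closure ({w, w'} : Set G) :=
  mul_mem (subset_closure (by simp)) (subset_closure (by simp))

theorem eq_wc : w' = w * (w * w') := by rw [← mul_assoc, H.q.ww, one_mul]

theorem mem_D {d : G} (hd : d ∈ closure ({w, w'} : Set G)) : ∃ i : ℤ, d = (w * w') ^ i ∨ d = (w * w') ^ i * w :=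
  mem_closure_pair H.q.ww H.wc H.eq_wc hd

theorem decD {s : G} (hs : s ∈ (S : Subgroup G)) : ∃ d ∈ closure ({w, w'} : Set G), ∃ a ∈ A, s = d * a := by
  obtain ⟨i, a, ha, h1 | h1⟩ := H.dec hs
  · exact ⟨_, zpow_mem H.c_mem i, a, ha, h1⟩
  · exact ⟨_, mul_mem (zpow_mem H.c_mem i) (subset_closure (by simp)), a, ha, h1⟩

omit [Finite G] in
theorem D_le : closure ({w, w'} : Set G) ≤ (S : Subgroup G) := by
  rw [closure_le]
  rintro x (rfl | rfl)
  · exact H.q.wS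
  · have := mul_mem (inv_mem H.q.wS) H.cS
    rwa [inv_mul_cancel_left] at this

theorem D_conj {n d : G} (hn : n ∈ normalizer ((S : Subgroup G) : Set G)) (hd : d ∈ closure ({w, w'} : Set G)) :
    n * d * n⁻¹ ∈ closure ({w, w'} : Set G) := by
  obtain ⟨u, hu⟩ := H.norm n hn
  obtain ⟨v, hv⟩ := H.wn n hn
  have hwm : w ∈ closure ({w, w'} : Set G) := subset_closure (by simp)
  obtain ⟨i, rfl | rfl⟩ := H.mem_D hd
  · rw [← conj_zpow, hu]
    exact zpow_mem (zpow_mem H.c_mem _) _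
  · have e : n * ((w * w') ^ i * w) * n⁻¹ = (n * (w * w') ^ i * n⁻¹) * (n * w * n⁻¹) := by group
    rw [e, hv, ← conj_zpow, hu]
    exact mul_mem (zpow_mem (zpow_mem H.c_mem _) _) (mul_mem (zpow_mem H.c_mem _) hwm)

theorem D_conj' {n d : G} (hn : n ∈ normalizer ((S : Subgroup G) : Set G)) (hd : d ∈ closure ({w, w'} : Set G)) :
    n⁻¹ * d * n ∈ closure ({w, w'} : Set G) := by
  have := H.D_conj (inv_mem hn) hd
  rwa [inv_inv] at this

/-- commutators of elements of `S` are in `D` -/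
theorem comm_D {s s' : G} (hs : s ∈ (S : Subgroup G)) (hs' : s' ∈ (S : Subgroup G)) :
    s⁻¹ * (s' * s * s'⁻¹) ∈ closure ({w, w'} : Set G) := by
  obtain ⟨d, hd, a, ha, rfl⟩ := H.decD hs
  obtain ⟨d', hd', a', ha', rfl⟩ := H.decD hs'
  have hA := H.q.A_comm ha' ha
  have haN : a ∈ normalizer ((S : Subgroup G) : Set G) := le_normalizer (H.q.AS ha)
  have haN' : a' ∈ normalizer ((S : Subgroup G) : Set G) := le_normalizer (H.q.AS ha')
  have e : (d * a)⁻¹ * (d' * a' * (d * a) * (d' * a')⁻¹) = (a⁻¹ * (d⁻¹ * d' * (a' * d * a'⁻¹)) * a) * d'⁻¹ := by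
    calc (d * a)⁻¹ * (d' * a' * (d * a) * (d' * a')⁻¹) = a⁻¹ * (d⁻¹ * d' * (a' * d * a'⁻¹)) * (a' * a) * a'⁻¹ * d'⁻¹ := by
          group
      _ = a⁻¹ * (d⁻¹ * d' * (a' * d * a'⁻¹)) * (a * a') * a'⁻¹ * d'⁻¹ := by rw [hA]
      _ = _ := by group
  rw [e]
  exact mul_mem (H.D_conj' haN (mul_mem (mul_mem (inv_mem hd) hd') (H.D_conj haN' hd))) (inv_mem hd')

theorem cen_iff {g : G} (h1 : ∀ i : ℤ, (w * w') ^ i * g = g * (w * w') ^ i) (h2 : w * g = g * w)
    (h3 : ∀ a ∈ A, a * g = g * a) : Cen (S : Subgroup G) g := by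
  intro s hs
  obtain ⟨i, a, ha, rfl | rfl⟩ := H.dec hs
  · rw [mul_assoc, h3 a ha, ← mul_assoc, h1, mul_assoc]
  · rw [mul_assoc, h3 a ha, ← mul_assoc, mul_assoc _ w g, h2, ← mul_assoc, h1, mul_assoc, mul_assoc, mul_assoc]

/-- the action of `N(S)` on `A` -/
theorem A_act {n a : G} (hn : n ∈ normalizer ((S : Subgroup G) : Set G)) (ha : a ∈ A) :
    ∃ i : ℤ, ∃ b ∈ A, n * a * n⁻¹ = (w * w') ^ i * b * ((w * w') ^ i)⁻¹ ∧ Cen (S : Subgroup G) (a⁻¹ * b) := by
  obtain ⟨i, hi⟩ := H.wn n hn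
  rw [← conj_inv_elt H.wc] at hi
  set m := ((w * w') ^ i)⁻¹ * n with hm
  have hmN : m ∈ normalizer ((S : Subgroup G) : Set G) := mul_mem (inv_mem (le_normalizer (H.cci i))) hn
  have hmw : m * w * m⁻¹ = w := by
    calc m * w * m⁻¹ = ((w * w') ^ i)⁻¹ * (n * w * n⁻¹) * (w * w') ^ i := by rw [hm]; group
      _ = w := by rw [hi]; group
  have hmE : m ∈ normalizer (E : Set G) := H.q.norm_of_comm hmN (by rw [hmw])
  have hb := H.q.Ainv hmE ha
  refine ⟨i, _, hb, by rw [hm]; group, ?_⟩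
  refine H.cen_iff ?_ ?_ ?_
  · intro j
    obtain ⟨u, hu⟩ := H.a_conj ha
    obtain ⟨v, hv⟩ := H.norm m hmN
    have hv' : ∀ j : ℤ, m * (w * w') ^ j * m⁻¹ = (w * w') ^ (j * (1 + 2 * v)) := by
      intro j
      rw [← conj_zpow, hv, ← zpow_mul, mul_comm]
    -- `m a m⁻¹ c^j m a⁻¹ m⁻¹ = c^(j (1+4u))`
    have h1 : ∀ j : ℤ, (m * a * m⁻¹) * (w * w') ^ j * (m * a * m⁻¹)⁻¹ = (w * w') ^ (j * (1 + 4 * u)) := by
      intro j
      have hb2 : m * a * m⁻¹ ∈ (S : Subgroup G) := H.q.AS hb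
      obtain ⟨u', hu'⟩ := H.norm _ (le_normalizer hb2)
      -- evaluate at `m c m⁻¹`
      have h2 : ∀ j : ℤ, (m * a * m⁻¹) * (w * w') ^ j * (m * a * m⁻¹)⁻¹ = (w * w') ^ (j * (1 + 2 * u')) := by
        intro j
        rw [← conj_zpow, hu', ← zpow_mul, mul_comm]
      have h3 := h2 (1 * (1 + 2 * v))
      rw [← hv' 1] at h3
      have h4 : (m * a * m⁻¹) * (m * (w * w') ^ (1 : ℤ) * m⁻¹) * (m * a * m⁻¹)⁻¹ = (w * w') ^ ((1 * (1 + 4 * u)) * (1 + 2 * v)) := by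
        rw [← hv', ← hu]; group
      rw [h4] at h3
      have h5 : ((w * w') ^ ((1 + 4 * u) - (1 + 2 * u'))) ^ (1 + 2 * v) = 1 := by
        rw [← zpow_mul]
        have e : ((1 + 4 * u) - (1 + 2 * u')) * (1 + 2 * v) = (1 * (1 + 4 * u)) * (1 + 2 * v) - 1 * (1 + 2 * v) * (1 + 2 * u') := by
          ring
        rw [e, zpow_sub, h3, mul_inv_cancel]
      have h6 := odd_one (H.cci _) h5
      rw [h2]
      have e : j * (1 + 4 * u) = j * (1 + 2 * u') + ((1 + 4 * u) - (1 + 2 * u')) * j := by ring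
      rw [e, zpow_add, zpow_mul _ ((1 + 4 * u) - (1 + 2 * u')), h6, one_zpow, mul_one]
    have h2 : (m * a * m⁻¹) * (w * w') ^ j * (m * a * m⁻¹)⁻¹ = a * (w * w') ^ j * a⁻¹ := by rw [h1, hu]
    calc (w * w') ^ j * (a⁻¹ * (m * a * m⁻¹)) = a⁻¹ * (a * (w * w') ^ j * a⁻¹) * (m * a * m⁻¹) := by group
      _ = a⁻¹ * ((m * a * m⁻¹) * (w * w') ^ j * (m * a * m⁻¹)⁻¹) * (m * a * m⁻¹) := by rw [h2]
      _ = a⁻¹ * (m * a * m⁻¹) * (w * w') ^ j := by group
  · exact H.wa (mul_mem (inv_mem ha) hb)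
  · intro a' ha'
    exact H.q.A_comm ha' (mul_mem (inv_mem ha) hb)

/-- the commutators with elements of `N(S)` -/
theorem comm_DZ {n s : G} (hn : n ∈ normalizer ((S : Subgroup G) : Set G)) (hs : s ∈ (S : Subgroup G)) :
    s⁻¹ * (n * s * n⁻¹) ∈ closure ({w, w'} : Set G) ⊔ Zs (S : Subgroup G) := by
  obtain ⟨d, hd, a, ha, rfl⟩ := H.decD hs
  have haN : a ∈ normalizer ((S : Subgroup G) : Set G) := le_normalizer (H.q.AS ha)
  obtain ⟨i, b, hb, hnb, hc⟩ := H.A_act hn ha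
  have e : (d * a)⁻¹ * (n * (d * a) * n⁻¹) = (a⁻¹ * (d⁻¹ * (n * d * n⁻¹)) * a) *
      ((a⁻¹ * b) * (b⁻¹ * ((w * w') ^ i * b * ((w * w') ^ i)⁻¹))) := by
    rw [← hnb]; group
  rw [e]
  refine mul_mem (mem_sup_left (H.D_conj' haN (mul_mem (inv_mem hd) (H.D_conj hn hd)))) (mul_mem (mem_sup_right ?_)
    (mem_sup_left ?_))
  · exact mem_Zs.2 ⟨mul_mem (inv_mem (H.q.AS ha)) (H.q.AS hb), hc⟩
  · exact H.comm_D (H.q.AS hb) (H.cci i)

/-- if `S = D Z(S)` then `A` is central -/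
theorem A_cen (hS : (S : Subgroup G) ≤ closure ({w, w'} : Set G) ⊔ Zs (S : Subgroup G)) {a : G} (ha : a ∈ A) :
    Cen (S : Subgroup G) a := by
  have hle : Zs (S : Subgroup G) ≤ normalizer (closure ({w, w'} : Set G) : Set G) := by
    intro ζ hζ
    refine norm_of_conj_le (fun d hd => ?_)
    have h1 := (mem_Zs.1 hζ).2 d (H.D_le hd)
    rw [← h1, mul_inv_cancel_right]
    exact hd
  have h1 : a ∈ (closure ({w, w'} : Set G) : Set G) * (Zs (S : Subgroup G) : Set G) := by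
    rw [← coe_mul_of_right_le_normalizer_left _ _ hle]
    exact hS (H.q.AS ha)
  obtain ⟨d, hd, ζ, hζ, rfl⟩ := Set.mem_mul.1 h1
  have hζc := (mem_Zs.1 hζ).2
  refine Cen.mul ?_ hζc
  obtain ⟨i, rfl | rfl⟩ := H.mem_D hd
  · -- `w` commutes with `c^i`
    have h2 := H.wa ha
    have h3 := hζc w H.q.wS
    have h4 : w * (w * w') ^ i = (w * w') ^ i * w := by
      have h5 : w * (w * w') ^ i * ζ = (w * w') ^ i * w * ζ := by
        calc w * (w * w') ^ i * ζ = w * ((w * w') ^ i * ζ) := by group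
          _ = (w * w') ^ i * ζ * w := h2
          _ = (w * w') ^ i * (w * ζ) := by rw [h3]; group
          _ = (w * w') ^ i * w * ζ := by group
      exact mul_right_cancel h5
    rw [H.wci'] at h4
    have h5 := mul_right_cancel h4
    rw [zpow_neg] at h5
    have h6 : (w * w') ^ i * (w * w') ^ i = 1 := by
      nth_rewrite 1 [← h5]
      exact inv_mul_cancel _
    rcases H.two i h6 with h7 | h7
    · rw [h7]; exact Cen.one _
    · rw [h7]
      exact H.cen_iff (fun j => (H.tcomm j).symm) H.q.tw.symm (fun a ha => (H.ta ha).symm)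
  · exfalso
    have h2 := H.za ha
    have h3 := hζc z H.zS
    have h4 : z * ((w * w') ^ i * w * 1) = ((w * w') ^ i * w * 1) * z := by
      have h5 : z * ((w * w') ^ i * w) * ζ = ((w * w') ^ i * w) * z * ζ := by
        calc z * ((w * w') ^ i * w) * ζ = z * ((w * w') ^ i * w * ζ) := by group
          _ = (w * w') ^ i * w * ζ * z := h2
          _ = (w * w') ^ i * w * (z * ζ) := by rw [h3]; group
          _ = (w * w') ^ i * w * z * ζ := by group
      rw [mul_one]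
      exact mul_right_cancel h5
    exact H.com2 (one_mem A) h4

/-- `N(S)` normalizes `A` if `A` is central -/
theorem A_norm (hcen : ∀ a ∈ A, Cen (S : Subgroup G) a) {n a : G} (hn : n ∈ normalizer ((S : Subgroup G) : Set G))
    (ha : a ∈ A) : n * a * n⁻¹ ∈ A := by
  obtain ⟨i, b, hb, hnb, -⟩ := H.A_act hn ha
  rw [hnb, hcen b hb _ (H.cci i), mul_inv_cancel_right]
  exact hb

/-- elements of `S` commuting with `z` and `w` -/
theorem comm_zw {s : G} (hs : s ∈ (S : Subgroup G)) (hsz : z * s = s * z) (hsw : w * s = s * w) :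
    s ∈ A ∨ t * s ∈ A := by
  obtain ⟨i, a, ha, rfl | rfl⟩ := H.dec hs
  · have h1 := H.wa ha
    have h4 : w * (w * w') ^ i = (w * w') ^ i * w := by
      have h5 : w * (w * w') ^ i * a = (w * w') ^ i * w * a := by
        calc w * (w * w') ^ i * a = w * ((w * w') ^ i * a) := by group
          _ = (w * w') ^ i * a * w := hsw
          _ = (w * w') ^ i * (w * a) := by rw [h1]; group
          _ = (w * w') ^ i * w * a := by group
      exact mul_right_cancel h5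
    rw [H.wci'] at h4
    have h5 := mul_right_cancel h4
    rw [zpow_neg] at h5
    have h6 : (w * w') ^ i * (w * w') ^ i = 1 := by
      nth_rewrite 1 [← h5]
      exact inv_mul_cancel _
    rcases H.two i h6 with h7 | h7
    · left; rw [h7, one_mul]; exact ha
    · right; rw [h7, ← mul_assoc, H.q.tt, one_mul]; exact ha
  · exact absurd hsz (H.com2 ha)

end Half

/-- transport of focal contributions -/
theorem focE_conj {H : Subgroup G} {E₁ : Subgroup G} {s : G} (hH : H ≤ (S : Subgroup G)) (hs : s ∈ (S : Subgroup G))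
    (hN : ∀ n ∈ normalizer ((S : Subgroup G) : Set G), ∀ s ∈ (S : Subgroup G), s⁻¹ * (n * s * n⁻¹) ∈ H)
    (hE : ∀ g ∈ normalizer (cj s E₁ : Set G), ∀ e ∈ cj s E₁, e⁻¹ * (g * e * g⁻¹) ∈ H) :
    ∀ g ∈ normalizer (E₁ : Set G), ∀ e ∈ E₁, e⁻¹ * (g * e * g⁻¹) ∈ H := by
  intro g hg e he
  have h1 := hE (s * g * s⁻¹) (by
    rw [mem_norm_cj]
    have e : s⁻¹ * (s * g * s⁻¹) * s = g := by group
    rw [e]; exact hg) (s * e * s⁻¹) (conj_mem_cj he)
  have h2 := hN s⁻¹ (le_normalizer (inv_mem hs)) _ (hH h1)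
  have h3 := mul_mem h1 h2
  have e2 : (s * e * s⁻¹)⁻¹ * (s * g * s⁻¹ * (s * e * s⁻¹) * (s * g * s⁻¹)⁻¹) *
      (((s * e * s⁻¹)⁻¹ * (s * g * s⁻¹ * (s * e * s⁻¹) * (s * g * s⁻¹)⁻¹))⁻¹ *
      (s⁻¹ * ((s * e * s⁻¹)⁻¹ * (s * g * s⁻¹ * (s * e * s⁻¹) * (s * g * s⁻¹)⁻¹)) * s⁻¹⁻¹)) = e⁻¹ * (g * e * g⁻¹) := by
    group
  rwa [e2] at h3

end

end Cfsg.Agent.H305.Ess
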