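import Mathlib
import Cfsg.Agent.H305.EndF

/-!
# Endgame: conclusion
-/

set_option autoImplicit false

namespace Cfsg.Agent.H305.Ess

open Subgroup Cfsg.Agent.Lib.GoldschmidtFusion Cfsg.Agent.H305.FF Cfsg.Agent.H305.Chain
open scoped Pointwise commutatorElement

variable {G : Type*} [Group G]

theorem Half.inv {S : Sylow 2 G} {E : Subgroup G} {t w : G} {A : Subgroup G} {c z : G} (H : Half S E t w A c z) :
    Half S E t w A c⁻¹ z where
  q := H.q
  cS := inv_mem H.cS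
  wc := by rw [← conj_inv, H.wc]
  zc := by
    obtain ⟨j, hj⟩ := H.zc
    exact ⟨-j, by rw [inv_zpow, zpow_neg, inv_inv, hj]⟩
  zz := H.zz
  SE := by
    intro s hs
    obtain ⟨i, hi⟩ := H.SE s hs
    exact ⟨-i, by rw [inv_zpow, zpow_neg, inv_inv]; exact hi⟩
  norm := by
    intro n hn
    obtain ⟨u, hu⟩ := H.norm n hn
    exact ⟨u, by rw [← conj_inv, hu, inv_zpow]⟩
  two := by
    intro i hi
    rw [inv_zpow, ← zpow_neg] at hi ⊢
    exact H.two (-i) hi
  wn := by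
    intro n hn
    obtain ⟨i, hi⟩ := H.wn n hn
    exact ⟨-i, by rw [hi, inv_zpow, ← zpow_neg]; congr 2; ring⟩

variable [Finite G]

theorem exists_min {S : Sylow 2 G} {E₀ : Subgroup G} (h₀ : IsE S E₀) :
    ∃ E, IsE S E ∧ ∀ F, IsE S F → Nat.card E ≤ Nat.card F := by
  obtain ⟨E, hE, hmin⟩ := Set.exists_min_image {E : Subgroup G | IsE S E} (fun E => Nat.card E)
    (Set.toFinite _) ⟨E₀, h₀⟩
  exact ⟨E, hE, hmin⟩

/-- **Endgame** -/
theorem endgame (hAI : AI G) [IsSimpleGroup G] (hna : ∃ a b : G, a * b ≠ b * a) {S : Sylow 2 G} {E₀ : Subgroup G}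
    {x₀ : G} (h₀ : NN S E₀ x₀) :
    (∃ m : ℕ, 2 ≤ m ∧ Nonempty (↥(S : Subgroup G) ≃* DihedralGroup m)) ∨
      ∃ B : Subgroup G, B ≠ ⊥ ∧ (∀ x ∈ B, ∀ y ∈ B, x * y = y * x) ∧ Cfsg.IsStronglyClosed B (S : Subgroup G) := by
  obtain ⟨E, hE, hmin⟩ := exists_min h₀.hE
  obtain ⟨t, w, A, x, k, d⟩ := exists_dat hAI hna h₀ hE
  obtain ⟨F, t', w', A', x', k', d', hw'⟩ := d.exists_F hAI hna
  obtain ⟨z, H, H'⟩ := exists_half hAI d d' hw' (hmin F d'.q.hE)
  have hww := H.q.ww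
  have hww' := H'.q.ww
  have hci : (w * w')⁻¹ = w' * w := c_inv hww hww'
  have H'' : Half S F t' w' A' (w' * w) z := by rw [← hci]; exact H'.inv
  have hpair : ({w', w} : Set G) = {w, w'} := Set.pair_comm w' w
  -- classification of the essential subgroups
  have hall : ∀ E₁, IsE S E₁ → (∃ s ∈ (S : Subgroup G), E = cj s E₁) ∨ (∃ s ∈ (S : Subgroup G), F = cj s E₁) := by
    intro E₁ h₁
    obtain ⟨t₁, w₁, A₁, x₁, k₁, d₁⟩ := exists_dat hAI hna h₀ h₁
    obtain ⟨i, a, ha, h1, h2, h3⟩ := H.class_of d₁.q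
    obtain ⟨j, a', ha', h4, h5, h6⟩ := H'.class_of d₁.q
    rcases Int.even_or_odd' i with ⟨i', hi | hi⟩
    · exact Or.inl (h3 ⟨i', hi⟩)
    rcases Int.even_or_odd' j with ⟨j', hj | hj⟩
    · exact Or.inr (h6 ⟨j', hj⟩)
    exfalso
    rw [hi] at h1
    rw [hj] at h4
    exact no_mixed H ha h2 h5 (h1.symm.trans h4)
  have hwm : w ∈ closure ({w, w'} : Set G) := subset_closure (by simp)
  have hwm' : w' ∈ closure ({w, w'} : Set G) := subset_closure (by simp)
  have hfoc : ∀ K : Subgroup G, K ≤ (S : Subgroup G) → closure ({w, w'} : Set G) ≤ K →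
      (∀ n ∈ normalizer ((S : Subgroup G) : Set G), ∀ s ∈ (S : Subgroup G), s⁻¹ * (n * s * n⁻¹) ∈ K) →
      (S : Subgroup G) ≤ K := by
    intro K hKS hDK hN
    refine focal hAI S hna K hN (fun E₁ h₁ => ?_)
    rcases hall E₁ h₁ with ⟨s, hs, h2⟩ | ⟨s, hs, h2⟩
    · exact focE_conj hKS hs hN (by rw [← h2]; exact H.q.focE hAI hN (hDK hwm))
    · exact focE_conj hKS hs hN (by rw [← h2]; exact H'.q.focE hAI hN (hDK hwm'))
  have hS : (S : Subgroup G) ≤ closure ({w, w'} : Set G) ⊔ Zs (S : Subgroup G) :=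
    hfoc _ (sup_le H.D_le inf_le_left) le_sup_left (fun n hn s hs => H.comm_DZ hn hs)
  have hcA : ∀ a ∈ A, Cen (S : Subgroup G) a := fun a ha => H.A_cen hS ha
  have hcA' : ∀ a ∈ A', Cen (S : Subgroup G) a := fun a ha => H''.A_cen (by rw [hpair]; exact hS) ha
  by_cases hB : A ⊓ A' = ⊥
  · left
    have hfix : ∀ n ∈ normalizer ((S : Subgroup G) : Set G), ∀ a ∈ A, n * a * n⁻¹ = a := by
      intro n hn a ha
      have hb := H.A_norm hcA hn ha
      have hone : ∀ b, b ∈ A → b ∈ A' → b = 1 := by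
        intro b hb hb'
        have : b ∈ A ⊓ A' := ⟨hb, hb'⟩
        rwa [hB, mem_bot] at this
      have h1 : a ∈ A' ∨ t' * a ∈ A' := H''.comm_zw (H.q.AS ha) (hcA a ha z H.zS) (hcA a ha w' H'.q.wS)
      have h2 : n * a * n⁻¹ ∈ A' ∨ t' * (n * a * n⁻¹) ∈ A' :=
        H''.comm_zw (H.q.AS hb) (hcA _ hb z H.zS) (hcA _ hb w' H'.q.wS)
      rcases h1 with h1 | h1
      · rw [hone a ha h1]; group
      rcases h2 with h2 | h2
      · have h3 := hone _ hb h2
        have h4 : a = 1 := by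
          have : n * a * n⁻¹ = n * 1 * n⁻¹ := by rw [h3]; group
          exact mul_left_cancel (mul_right_cancel this)
        rw [h4]; group
      · have h3 := mul_mem (inv_mem h1) h2
        have e : (t' * a)⁻¹ * (t' * (n * a * n⁻¹)) = a⁻¹ * (n * a * n⁻¹) := by group
        rw [e] at h3
        have h4 := hone _ (mul_mem (inv_mem ha) hb) h3
        exact (inv_mul_eq_one.1 h4).symm
    have hSD : (S : Subgroup G) ≤ closure ({w, w'} : Set G) := by
      refine hfoc _ H.D_le le_rfl (fun n hn s hs => ?_)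
      obtain ⟨d, hd, a, ha, rfl⟩ := H.decD hs
      have h1 := hfix n hn a ha
      have haN : a ∈ normalizer ((S : Subgroup G) : Set G) := le_normalizer (H.q.AS ha)
      have e : (d * a)⁻¹ * (n * (d * a) * n⁻¹) = a⁻¹ * (d⁻¹ * (n * d * n⁻¹)) * a := by
        calc (d * a)⁻¹ * (n * (d * a) * n⁻¹) = a⁻¹ * (d⁻¹ * (n * d * n⁻¹)) * (n * a * n⁻¹) := by group
          _ = _ := by rw [h1]
      rw [e]
      exact H.D_conj' haN (mul_mem (inv_mem hd) (H.D_conj hn hd))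
    have heq : (S : Subgroup G) = closure ({w, w'} : Set G) := le_antisymm hSD H.D_le
    have hwn : w ∉ zpowers (w * w') := by
      intro h1
      obtain ⟨i, hi⟩ := mem_zpowers_iff.1 h1
      have h2 := H.zcomm i
      have h3 := H.com2 (i := 0) (one_mem A)
      rw [zpow_zero, one_mul, mul_one] at h3
      rw [hi] at h2
      exact h3 h2
    obtain ⟨e⟩ := Cfsg.Agent.SporadicB.DihedralLift.closure_pair_equiv_dihedral hww hww' rfl hwn
    refine ⟨orderOf (w * w'), ?_, ⟨(MulEquiv.subgroupCongr heq).trans e⟩⟩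
    have h1 : orderOf (w * w') ≠ 1 := by
      intro h2
      rw [orderOf_eq_one_iff] at h2
      apply H.q.t1
      obtain ⟨j, hj, -⟩ := H.tj
      rw [hj, h2, one_zpow]
    have h2 : 0 < orderOf (w * w') := orderOf_pos _
    omega
  · right
    refine ⟨A ⊓ A', hB, fun a ha b hb => H.q.A_comm ha.1 hb.1, ?_⟩
    have hNB : ∀ n ∈ normalizer ((S : Subgroup G) : Set G), ∀ a ∈ A ⊓ A', n * a * n⁻¹ ∈ A ⊓ A' := fun n hn a ha =>
      ⟨H.A_norm hcA hn ha.1, H''.A_norm hcA' hn ha.2⟩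
    have hfix : ∀ s ∈ (S : Subgroup G), ∀ b ∈ A ⊓ A', s * b * s⁻¹ = b := by
      intro s hs b hb
      rw [hcA b hb.1 s hs, mul_inv_cancel_right]
    have key : ∀ (K E₁ : Subgroup G) (s : G), s ∈ (S : Subgroup G) → K = cj s E₁ →
        (∀ g ∈ normalizer (K : Set G), ∀ b ∈ A ⊓ A', b ∈ K → g * b * g⁻¹ ∈ A ⊓ A') →
        ∀ g ∈ normalizer (E₁ : Set G), ∀ e ∈ E₁, e ∈ A ⊓ A' → g * e * g⁻¹ ∈ A ⊓ A' := by
      rintro K E₁ s hs rfl hK g hg e he heB
      have h1 := hK (s * g * s⁻¹) (by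
        rw [mem_norm_cj]
        have e : s⁻¹ * (s * g * s⁻¹) * s = g := by group
        rw [e]; exact hg) e heB (by
        have := conj_mem_cj (g := s) he
        rwa [hfix s hs e heB] at this)
      have h2 := hfix s⁻¹ (inv_mem hs) _ h1
      have h3 := hfix s⁻¹ (inv_mem hs) e heB
      rw [← h2] at h1
      have e1 : s⁻¹ * (s * g * s⁻¹ * e * (s * g * s⁻¹)⁻¹) * s⁻¹⁻¹ = g * (s⁻¹ * e * s⁻¹⁻¹) * g⁻¹ := by group
      rw [e1, h3] at h1
      exact h1
    refine stronglyClosed hAI S (A ⊓ A') (fun a ha => H.q.AS ha.1) hNB (fun E₁ h₁ => ?_)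
    rcases hall E₁ h₁ with ⟨s, hs, h2⟩ | ⟨s, hs, h2⟩
    · refine key E E₁ s hs h2 (fun g hg b hb _ => ?_)
      obtain ⟨n, hnS, -, hn⟩ := H.q.fratt hAI hg
      rw [hn b hb.1]
      exact hNB n hnS b hb
    · refine key F E₁ s hs h2 (fun g hg b hb _ => ?_)
      obtain ⟨n, hnS, -, hn⟩ := H'.q.fratt hAI hg
      rw [hn b hb.2]
      exact hNB n hnS b hb

end Cfsg.Agent.H305.Ess
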