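import Mathlib
import Cfsg.Agent.H305.EssOmega
import Cfsg.Agent.H305.FFMain

/-!
# Essential subgroups: the action of `N_G(V)` on `V = Ω₁(E)`

The automizer of `V` has TI Sylow 2-subgroups; quadratic offenders.
-/

set_option autoImplicit false

namespace Cfsg.Agent.H305.Ess

open Subgroup Cfsg.Agent.Lib.GoldschmidtFusion Cfsg.Agent.H305.FF
open Cfsg.Agent.ClassTwoFusion.Quad (cv mem_cv mem_cv_singleton cv_anti d cv_sup mem_smul_sylow
  coe_smul_sylow)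
open scoped Pointwise commutatorElement

variable {G : Type*} [Group G]

/-- the normalizer of `Ω₁(E)` -/
abbrev NV (E : Subgroup G) : Subgroup G := normalizer (om E : Set G)

/-- the automizer of `Ω₁(E)` -/
abbrev LL (E : Subgroup G) : Subgroup (MulAut (om E)) := (om E).normalizerMonoidHom.range

/-- the action -/
def rho (E : Subgroup G) : NV E →* LL E := (om E).normalizerMonoidHom.rangeRestrict

theorem rho_surj (E : Subgroup G) : Function.Surjective (rho E) :=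
  (om E).normalizerMonoidHom.rangeRestrict_surjective

theorem coe_smul {E : Subgroup G} (k : NV E) (v : om E) :
    ((rho E k • v : om E) : G) = (k : G) * v * (k : G)⁻¹ := rfl

theorem rho_eq_one {E : Subgroup G} {k : NV E} : rho E k = 1 ↔ (k : G) ∈ centralizer (om E : Set G) := by
  rw [mem_centralizer_iff]
  constructor
  · intro h v hv
    have h1 : ((rho E k • (⟨v, hv⟩ : om E) : om E) : G) = v := by rw [h, one_smul]
    rw [coe_smul, mul_inv_eq_iff_eq_mul] at h1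
    exact h1.symm
  · intro h
    apply Subtype.ext
    apply MulEquiv.ext
    intro v
    apply Subtype.ext
    change ((rho E k • v : om E) : G) = v
    rw [coe_smul, mul_inv_eq_iff_eq_mul]
    exact (h v v.2).symm

theorem rho_eq {E : Subgroup G} {k l : NV E} : rho E k = rho E l ↔ (l : G)⁻¹ * k ∈ centralizer (om E : Set G) := by
  rw [← coe_inv, ← coe_mul, ← rho_eq_one, map_mul, map_inv, inv_mul_eq_one, eq_comm]

theorem mod {E : Subgroup G} (hcomm : ∀ x ∈ E, ∀ y ∈ E, x * y = y * x) : Mod (LL E) (om E) := by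
  refine ⟨fun v w => Subtype.ext (hcomm v (om_le E v.2) w (om_le E w.2)),
    fun v => Subtype.ext ((mem_om hcomm).1 v.2).2, fun x hx => ?_⟩
  apply Subtype.ext
  apply MulEquiv.ext
  exact hx

section

variable [Finite G] (hAI : AI G) {S : Sylow 2 G} {E : Subgroup G} (hE : IsE S E)
include hAI hE

namespace IsE

omit hAI hE in
/-- a Sylow 2-subgroup of `N_G(V)` contains `V` -/
theorem om_le_sylow (hE : IsE S E) (T : Sylow 2 (NV E)) {v : G} (hv : v ∈ om E) :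
    (⟨v, le_normalizer hv⟩ : NV E) ∈ (T : Subgroup (NV E)) := by
  have : Fact (Nat.Prime 2) := ⟨Nat.prime_two⟩
  have hn : ((om E).subgroupOf (NV E)).Normal := by
    refine ⟨fun x hx g => ?_⟩
    exact mem_subgroupOf.2 (conj_mem_of_norm g.2 (mem_subgroupOf.1 hx))
  have hp : IsPGroup 2 ((om E).subgroupOf (NV E)) := (hE.isPGroup.to_le (om_le E)).comap_subtype
  have h1 := hp.to_sup_of_normal_left T.isPGroup'
  have h2 : ((om E).subgroupOf (NV E)) ⊔ T = T := T.is_maximal' h1 le_sup_right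
  have h3 : (⟨v, le_normalizer hv⟩ : NV E) ∈ ((om E).subgroupOf (NV E)) ⊔ T :=
    mem_sup_left (mem_subgroupOf.2 hv)
  rwa [h2] at h3

omit hE in
/-- Sylow 2-subgroups of `N_G(V)` sharing an element outside `C_G(V)` are equal. -/
theorem sylow_eq (hE : IsE S E) {T T' : Sylow 2 (NV E)} {x : NV E} (hx : x ∈ (T : Subgroup (NV E)))
    (hx' : x ∈ (T' : Subgroup (NV E))) (hxV : (x : G) ∉ centralizer (om E : Set G)) : T = T' := by
  have : Fact (Nat.Prime 2) := ⟨Nat.prime_two⟩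
  obtain ⟨v, hv, hxv⟩ : ∃ v ∈ om E, v * (x : G) ≠ x * v := by
    by_contra hcon
    push Not at hcon
    exact hxV (mem_centralizer_iff.2 hcon)
  obtain ⟨S₁, hS₁⟩ := (T.isPGroup'.map (NV E).subtype).exists_le_sylow
  obtain ⟨S₂, hS₂⟩ := (T'.isPGroup'.map (NV E).subtype).exists_le_sylow
  have h12 : S₁ = S₂ := hAI S₁ S₂ v x (hS₁ ⟨_, hE.om_le_sylow T hv, rfl⟩)
    (hS₂ ⟨_, hE.om_le_sylow T' hv, rfl⟩) (hS₁ ⟨x, hx, rfl⟩) (hS₂ ⟨x, hx', rfl⟩) hxv
  have key : ∀ T : Sylow 2 (NV E), T.map (NV E).subtype ≤ S₁ →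
      (S₁ : Subgroup G).subgroupOf (NV E) = (T : Subgroup (NV E)) := by
    intro T hT
    exact T.is_maximal' S₁.isPGroup'.comap_subtype (fun y hy => mem_subgroupOf.2 (hT ⟨y, hy, rfl⟩))
  apply Sylow.ext
  rw [← key T hS₁, ← key T' (by rw [h12]; exact hS₂)]

/-- **TI** -/
theorem ti (P Q : Sylow 2 (LL E)) (x : LL E) (hxP : x ∈ (P : Subgroup (LL E))) (hxQ : x ∈ (Q : Subgroup (LL E)))
    (hx1 : x ≠ 1) : P = Q := by
  have : Fact (Nat.Prime 2) := ⟨Nat.prime_two⟩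
  obtain ⟨T₁, rfl⟩ := Sylow.mapSurjective_surjective (rho_surj E) 2 P
  obtain ⟨T₂, rfl⟩ := Sylow.mapSurjective_surjective (rho_surj E) 2 Q
  rw [Sylow.coe_mapSurjective] at hxP hxQ
  obtain ⟨k, hk, rfl⟩ := hxP
  set M₁ : Subgroup (NV E) := ((T₂ : Subgroup (NV E)).map (rho E)).comap (rho E) with hM₁
  have hT₂M : (T₂ : Subgroup (NV E)) ≤ M₁ := le_comap_map _ _
  have hkp : IsPGroup 2 (zpowers k) := T₁.isPGroup'.to_le (by rw [zpowers_le]; exact hk)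
  obtain ⟨c, hc, hck⟩ := Cfsg.Agent.TwoFusion.SylowConj.exists_conj_le_of_sylow_le T₂ M₁ (zpowers k)
    hT₂M hkp (by rw [zpowers_le]; exact hxQ)
  have h1 : k ∈ ((c⁻¹ • T₂ : Sylow 2 (NV E)) : Subgroup (NV E)) := by
    rw [mem_smul, inv_inv]
    exact hck k (mem_zpowers k)
  have h2 : T₁ = c⁻¹ • T₂ := hE.sylow_eq hAI hk h1 (fun h => hx1 (rho_eq_one.2 h))
  rw [h2]
  -- `ρ(c)` normalizes `ρ(T₂)`
  have h3 : rho E c ∈ (T₂ : Subgroup (NV E)).map (rho E) := hc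
  apply Sylow.ext
  rw [Sylow.coe_mapSurjective, Sylow.coe_mapSurjective]
  ext y
  constructor
  · rintro ⟨z, hz, rfl⟩
    have hz' : c⁻¹⁻¹ * z * c⁻¹ ∈ (T₂ : Subgroup (NV E)) := mem_smul.1 hz
    rw [inv_inv] at hz'
    have e : rho E z = (rho E c)⁻¹ * rho E (c * z * c⁻¹) * rho E c := by
      rw [← map_inv, ← map_mul, ← map_mul]
      congr 1
      group
    rw [e]
    exact mul_mem (mul_mem (inv_mem h3) ⟨_, hz', rfl⟩) h3
  · rintro ⟨z, hz, rfl⟩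
    have h4 : rho E c * rho E z * (rho E c)⁻¹ ∈ (T₂ : Subgroup (NV E)).map (rho E) :=
      mul_mem (mul_mem h3 ⟨z, hz, rfl⟩) (inv_mem h3)
    obtain ⟨w, hw, hwe⟩ := h4
    refine ⟨c⁻¹ * w * c, ?_, ?_⟩
    · refine mem_smul.2 ?_
      have e : c⁻¹⁻¹ * (c⁻¹ * w * c) * c⁻¹ = w := by group
      rw [e]
      exact hw
    · rw [map_mul, map_mul, hwe, map_inv]
      group

/-- `N_S(V)` as a Sylow 2-subgroup of `N_G(V)` -/
noncomputable def TS : Sylow 2 (NV E) where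
  toSubgroup := (S : Subgroup G).subgroupOf (NV E)
  isPGroup' := S.isPGroup'.comap_subtype
  is_maximal' := by
    intro R hR hle
    apply le_antisymm _ hle
    intro r hr
    rw [mem_subgroupOf]
    have h1 : R.map (NV E).subtype ≤ S := by
      obtain ⟨t, htS, htE, htN⟩ := hE.exists_t
      obtain ⟨e, he, hte⟩ := hE.exists_noncomm htS htE
      exact le_of_noncomm hAI (hR.map _) htS (hE.le he)
        ⟨⟨t, norm_om htN⟩, hle (mem_subgroupOf.2 htS), rfl⟩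
        ⟨⟨e, norm_om (le_normalizer he)⟩, hle (mem_subgroupOf.2 (hE.le he)), rfl⟩ hte
    exact h1 ⟨r, hr, rfl⟩

theorem mem_TS {x : NV E} : x ∈ (hE.TS hAI : Subgroup (NV E)) ↔ (x : G) ∈ (S : Subgroup G) := Iff.rfl

/-- its image in the automizer -/
noncomputable def P0 : Sylow 2 (LL E) := (hE.TS hAI).mapSurjective (rho_surj E)

theorem mem_P0 {x : LL E} : x ∈ (hE.P0 hAI : Subgroup (LL E)) ↔
    ∃ t : NV E, (t : G) ∈ (S : Subgroup G) ∧ rho E t = x := by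
  constructor
  · rintro ⟨t, ht, rfl⟩
    exact ⟨t, ht, rfl⟩
  · rintro ⟨t, ht, rfl⟩
    exact ⟨t, ht, rfl⟩

theorem smul_ne {g : G} (hg : g ∈ NV E)
    (hgm : ∀ k ∈ centralizer (om E : Set G), k * g ∉ normalizer ((S : Subgroup G) : Set G)) :
    rho E ⟨g, hg⟩ • hE.P0 hAI ≠ hE.P0 hAI := by
  have : Fact (Nat.Prime 2) := ⟨Nat.prime_two⟩
  intro h
  -- Sylow conjugacy in the preimage of `P0`
  set M₁ : Subgroup (NV E) := (hE.P0 hAI : Subgroup (LL E)).comap (rho E) with hM₁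
  have hT₂M : (hE.TS hAI : Subgroup (NV E)) ≤ M₁ := fun x hx => (hE.mem_P0 hAI).2 ⟨x, hx, rfl⟩
  have hgT : ((⟨g, hg⟩ : NV E) • hE.TS hAI : Sylow 2 (NV E)) ≤ M₁ := by
    intro x hx
    have hx' : (⟨g, hg⟩ : NV E)⁻¹ * x * ⟨g, hg⟩ ∈ (hE.TS hAI : Subgroup (NV E)) := mem_smul.1 hx
    have h1 : rho E ((⟨g, hg⟩ : NV E)⁻¹ * x * ⟨g, hg⟩) ∈ (hE.P0 hAI : Subgroup (LL E)) :=
      (hE.mem_P0 hAI).2 ⟨_, (hE.mem_TS hAI).1 hx', rfl⟩
    rw [map_mul, map_mul, map_inv] at h1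
    have h2 : rho E x ∈ ((rho E ⟨g, hg⟩ • hE.P0 hAI : Sylow 2 (LL E)) : Subgroup (LL E)) := mem_smul.2 h1
    rw [h] at h2
    exact h2
  obtain ⟨c, hc, hck⟩ := Cfsg.Agent.TwoFusion.SylowConj.exists_conj_le_of_sylow_le (hE.TS hAI) M₁
    ((⟨g, hg⟩ : NV E) • hE.TS hAI : Sylow 2 (NV E)) hT₂M ((⟨g, hg⟩ : NV E) • hE.TS hAI).isPGroup' hgT
  obtain ⟨t, htS, htc⟩ := (hE.mem_P0 hAI).1 hc
  have hk := rho_eq.1 htc.symm
  -- `t⁻¹ c g` conjugates `N_S(E)` into `S`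
  obtain ⟨s, hsS, hsE, hsN⟩ := hE.exists_t
  obtain ⟨e, he, hse⟩ := hE.exists_noncomm hsS hsE
  have key : ∀ y ∈ (S : Subgroup G), y ∈ NV E → ((t : G)⁻¹ * c * g) * y * ((t : G)⁻¹ * c * g)⁻¹ ∈ (S : Subgroup G) := by
    intro y hyS hyN
    have h1 : (⟨g, hg⟩ : NV E) * ⟨y, hyN⟩ * (⟨g, hg⟩ : NV E)⁻¹ ∈
        (((⟨g, hg⟩ : NV E) • hE.TS hAI : Sylow 2 (NV E)) : Subgroup (NV E)) := by
      rw [mem_smul]
      have e1 : (⟨g, hg⟩ : NV E)⁻¹ * ((⟨g, hg⟩ : NV E) * ⟨y, hyN⟩ * (⟨g, hg⟩ : NV E)⁻¹) * ⟨g, hg⟩ = ⟨y, hyN⟩ := by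
        group
      rw [e1]
      exact hyS
    have h2 : (c : G) * (g * y * g⁻¹) * (c : G)⁻¹ ∈ (S : Subgroup G) := hck _ h1
    have e1 : ((t : G)⁻¹ * c * g) * y * ((t : G)⁻¹ * c * g)⁻¹ = (t : G)⁻¹ * (c * (g * y * g⁻¹) * (c : G)⁻¹) * t := by
      group
    rw [e1]
    exact mul_mem (mul_mem (inv_mem htS) h2) htS
  refine hgm _ hk (norm_of_conj hAI hsS (hE.le he) hse (key s hsS (norm_om hsN))
    (key e (hE.le he) (norm_om (le_normalizer he))))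

theorem tiL : TI (LL E) := by
  refine ⟨hE.ti hAI, ?_⟩
  obtain ⟨g, hg, hgm⟩ := hE.moveV hAI
  exact ⟨_, _, hE.smul_ne hAI (norm_om hg) hgm⟩

omit hE in
theorem ff_aux (hE : IsE S E) (B : Subgroup G) (hBV : B ≤ NV E)
    (hBS : B ≤ S)
    (hq : ∀ b ∈ B, ∀ b' ∈ B, ∀ v ∈ om E, b' * (b * v * b⁻¹ * v) = (b * v * b⁻¹ * v) * b') :
    Qd (om E) ((rho E).comp (inclusion hBV)).range ∧
    cv (om E) ((((rho E).comp (inclusion hBV)).range : Subgroup (LL E)) : Set (LL E)) =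
      (centralizer (B : Set G)).subgroupOf (om E) ∧
    Nat.card ((rho E).comp (inclusion hBV)).range = E.relIndex B := by
  refine ⟨?_, ?_, ?_⟩
  · rintro _ ⟨x, rfl⟩ _ ⟨y, rfl⟩ v
    apply Subtype.ext
    have e1 : (((rho E).comp (inclusion hBV)) y • d (((rho E).comp (inclusion hBV)) x) v : om E) =
        ((y : G) * (x * v * (x : G)⁻¹ * v) * (y : G)⁻¹ : G) := rfl
    have e2 : ((d (((rho E).comp (inclusion hBV)) x) v : om E) : G) = x * v * (x : G)⁻¹ * v := rfl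
    rw [e1, e2, mul_inv_eq_iff_eq_mul]
    exact hq x x.2 y y.2 v v.2
  · ext v
    rw [mem_subgroupOf, mem_centralizer_iff]
    constructor
    · intro h b hb
      have h1 := congrArg Subtype.val (h _ ⟨⟨b, hb⟩, rfl⟩)
      have e1 : ((((rho E).comp (inclusion hBV)) ⟨b, hb⟩ • v : om E) : G) = b * v * b⁻¹ := rfl
      rw [e1, mul_inv_eq_iff_eq_mul] at h1
      exact h1
    · rintro h _ ⟨b, rfl⟩
      apply Subtype.ext
      have e1 : ((((rho E).comp (inclusion hBV)) b • v : om E) : G) = b * v * (b : G)⁻¹ := rfl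
      rw [e1, mul_inv_eq_iff_eq_mul]
      exact h b b.2
  · rw [← index_ker]
    have : ((rho E).comp (inclusion hBV)).ker = E.subgroupOf B := by
      ext b
      rw [MonoidHom.mem_ker, mem_subgroupOf]
      change rho E (inclusion hBV b) = 1 ↔ _
      rw [rho_eq_one]
      constructor
      · intro h
        exact hE.centV hAI (hBS b.2) (fun v hv => (mem_centralizer_iff.1 h v hv).symm)
      · intro h
        exact mem_centralizer_iff.2 (fun v hv => hE.comm v (om_le E hv) b h)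
    rw [this]
    rfl

/-- **Quadratic offenders.** -/
theorem ff (B : Subgroup G) (hBV : B ≤ NV E) (hBS : B ≤ S) {b₀ : G} (hb₀ : b₀ ∈ B) (hb₀E : b₀ ∉ E)
    (hq : ∀ b ∈ B, ∀ b' ∈ B, ∀ v ∈ om E, b' * (b * v * b⁻¹ * v) = (b * v * b⁻¹ * v) * b')
    (hidx : (centralizer (B : Set G)).relIndex (om E) ≤ E.relIndex B) :
    (∀ s ∈ (S : Subgroup G), s ∈ NV E → ∃ b ∈ B, b⁻¹ * s ∈ E) ∧ Concl (om E) (hE.P0 hAI) := by
  obtain ⟨h1, h2, h3⟩ := ff_aux hAI hE B hBV hBS hq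
  set A := ((rho E).comp (inclusion hBV)).range with hA
  have hA1 : A ≠ ⊥ := by
    intro h
    have h4 : rho E (inclusion hBV ⟨b₀, hb₀⟩) ∈ A := ⟨⟨b₀, hb₀⟩, rfl⟩
    rw [h, mem_bot, rho_eq_one] at h4
    exact hb₀E (hE.centV hAI (hBS hb₀) (fun v hv => (mem_centralizer_iff.1 h4 v hv).symm))
  have hAP : A ≤ hE.P0 hAI := by
    rintro _ ⟨b, rfl⟩
    exact (hE.mem_P0 hAI).2 ⟨_, hBS b.2, rfl⟩
  obtain ⟨h4, h5⟩ := FF.main (mod hE.comm) (hE.tiL hAI) h1 hA1 (by rw [h2, h3]; exact hidx) hAP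
  refine ⟨?_, h5⟩
  intro s hsS hsN
  have h6 : rho E ⟨s, hsN⟩ ∈ A := by
    rw [h4]
    exact (hE.mem_P0 hAI).2 ⟨_, hsS, rfl⟩
  obtain ⟨b, hb⟩ := h6
  refine ⟨b, b.2, ?_⟩
  have h7 : rho E (inclusion hBV b) = rho E ⟨s, hsN⟩ := hb
  have h8 := rho_eq.1 h7.symm
  exact hE.centV hAI (mul_mem (inv_mem (hBS b.2)) hsS) (fun v hv => (mem_centralizer_iff.1 h8 v hv).symm)

end IsE

end

end Cfsg.Agent.H305.Ess
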