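import Mathlib
import Cfsg.Agent.H305.EssFF

/-!
# Essential subgroups: consequences of the theorem on offenders
-/

set_option autoImplicit false

namespace Cfsg.Agent.H305.Ess

open Subgroup Cfsg.Agent.Lib.GoldschmidtFusion Cfsg.Agent.H305.FF
open Cfsg.Agent.ClassTwoFusion.Quad (cv mem_cv mem_cv_singleton cv_anti d cv_sup mem_smul_sylow
  coe_smul_sylow)
open scoped Pointwise commutatorElement

variable {G : Type*} [Group G] [Finite G]

/-- Consequences of an offender, in terms of `G`. `T0 = N_S(E)`. -/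
structure FFC (S : Sylow 2 G) (E : Subgroup G) : Prop where
  quad : ∀ t ∈ (S : Subgroup G), t ∈ normalizer (E : Set G) → ∀ v ∈ om E,
    ∀ s ∈ (S : Subgroup G), s ∈ normalizer (E : Set G) → s * (t * v * t⁻¹ * v) = (t * v * t⁻¹ * v) * s
  fix : ∀ t ∈ (S : Subgroup G), t ∈ normalizer (E : Set G) → t ∉ E → ∀ v ∈ om E, t * v = v * t →
    ∀ s ∈ (S : Subgroup G), s ∈ normalizer (E : Set G) → s * v = v * s
  opp : ∀ t ∈ (S : Subgroup G), t ∈ normalizer (E : Set G) → t ∉ E → ∀ v ∈ om E,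
    (∀ h ∈ normalizer (E : Set G), ∀ s ∈ (S : Subgroup G), s ∈ normalizer (E : Set G) →
      s * (h * (t * v * t⁻¹ * v) * h⁻¹) = (h * (t * v * t⁻¹ * v) * h⁻¹) * s) → t * v = v * t
  idx : (centralizer (((S : Subgroup G) ⊓ normalizer (E : Set G) : Subgroup G) : Set G)).relIndex (om E) =
    E.relIndex ((S : Subgroup G) ⊓ normalizer (E : Set G))

variable (hAI : AI G) {S : Sylow 2 G} {E : Subgroup G} (hE : IsE S E)
include hAI hE

namespace IsE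

/-- Frattini -/
theorem exists_cent_mul {g : G} (hg : g ∈ NV E) : ∃ k ∈ centralizer (om E : Set G), k * g ∈ normalizer (E : Set G) := by
  have : Fact (Nat.Prime 2) := ⟨Nat.prime_two⟩
  have hEC : E ≤ centralizer (om E : Set G) := fun e he =>
    mem_centralizer_iff.2 (fun v hv => hE.comm v (om_le E hv) e he)
  obtain ⟨P₀, hP₀L, hP₀p, hEP₀, k, hk, hkP⟩ := Cfsg.Agent.TwoFusion.SylowConj.exists_pgroup_le
    (centralizer (om E : Set G)) E (E.map (MulAut.conj g).toMonoidHom) hE.isPGroup hEC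
    (hE.isPGroup.map _) (by
      rintro _ ⟨e, he, rfl⟩
      change g * e * g⁻¹ ∈ _
      refine mem_centralizer_iff.2 (fun v hv => ?_)
      have h2 : g⁻¹ * v * g ∈ om E := conj_mem_of_norm' hg hv
      have h3 := hE.comm e he _ (om_le E h2)
      calc v * (g * e * g⁻¹) = g * ((g⁻¹ * v * g) * e) * g⁻¹ := by group
        _ = g * (e * (g⁻¹ * v * g)) * g⁻¹ := by rw [h3]
        _ = g * e * g⁻¹ * v := by group)
  have h1 := hE.le_of_pgroup hAI hP₀p hEP₀ (fun q hq v hv => (mem_centralizer_iff.1 (hP₀L hq) v hv).symm)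
  refine ⟨k, hk, norm_of_conj_le (fun e he => ?_)⟩
  have h2 := h1 (hkP (g * e * g⁻¹) ⟨e, he, rfl⟩)
  have e1 : k * g * e * (k * g)⁻¹ = k * (g * e * g⁻¹) * k⁻¹ := by group
  rw [e1]
  exact h2

/-- stabilizer of the Sylow subgroup in the automizer -/
theorem stab {m : G} (hm : m ∈ NV E) (h : rho E ⟨m, hm⟩ • hE.P0 hAI = hE.P0 hAI) :
    ∀ t ∈ (S : Subgroup G), t ∈ normalizer (E : Set G) → ∃ t' ∈ (S : Subgroup G), t' ∈ normalizer (E : Set G) ∧
      t'⁻¹ * (m * t * m⁻¹) ∈ centralizer (om E : Set G) := by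
  intro t htS htN
  have h1 : rho E (⟨m, hm⟩ * ⟨t, norm_om htN⟩ * ⟨m, hm⟩⁻¹) ∈ (hE.P0 hAI : Subgroup (LL E)) := by
    rw [← h, mem_smul, ← map_inv, ← map_mul, ← map_mul]
    refine (hE.mem_P0 hAI).2 ⟨⟨t, norm_om htN⟩, htS, ?_⟩
    congr 1
    group
  obtain ⟨t', ht'S, ht'⟩ := (hE.mem_P0 hAI).1 h1
  exact ⟨t', ht'S, hE.norm_of_normV hAI ht'S t'.2, rho_eq.1 ht'.symm⟩

/-- The Sylow subgroups of the automizer. -/
theorem sylow_cases (hc : Concl (om E) (hE.P0 hAI)) {g : G} (hg : g ∈ NV E)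
    (hgP : rho E ⟨g, hg⟩ • hE.P0 hAI ≠ hE.P0 hAI) {m : G} (hm : m ∈ NV E) :
    rho E ⟨m, hm⟩ • hE.P0 hAI = hE.P0 hAI ∨
    ∃ (s : G) (_ : s ∈ (S : Subgroup G)) (hs : s ∈ normalizer (E : Set G)),
      rho E ((⟨s, norm_om hs⟩ * ⟨g, hg⟩)⁻¹ * ⟨m, hm⟩) • hE.P0 hAI = hE.P0 hAI := by
  rcases hc.sylow _ hgP (rho E ⟨m, hm⟩ • hE.P0 hAI) with h1 | ⟨a, ha, h1⟩
  · exact Or.inl h1
  · right
    obtain ⟨s, hsS, rfl⟩ := (hE.mem_P0 hAI).1 ha
    have hsN := hE.norm_of_normV hAI hsS s.2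
    refine ⟨s, hsS, hsN, ?_⟩
    rw [map_mul, mul_smul, h1, ← mul_smul, ← mul_smul, ← map_mul, ← map_mul]
    have : ((⟨(s : G), norm_om hsN⟩ * ⟨g, hg⟩ : NV E)⁻¹ * s * ⟨g, hg⟩) = 1 := by
      rw [show (⟨(s : G), norm_om hsN⟩ : NV E) = s from rfl]
      group
    rw [this, map_one, one_smul]

theorem concl_ffc (hc : Concl (om E) (hE.P0 hAI)) : FFC S E := by
  have hcent : ∀ t ∈ (S : Subgroup G), ∀ (htN : t ∈ NV E), t ∉ E → rho E ⟨t, htN⟩ ≠ 1 := by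
    intro t htS htN htE h
    exact htE (hE.centV hAI htS (fun v hv => (mem_centralizer_iff.1 (rho_eq_one.1 h) v hv).symm))
  refine ⟨?_, ?_, ?_, ?_⟩
  · intro t htS htN v hv s hsS hsN
    have h1 := hc.qd _ ((hE.mem_P0 hAI).2 ⟨⟨t, norm_om htN⟩, htS, rfl⟩) _
      ((hE.mem_P0 hAI).2 ⟨⟨s, norm_om hsN⟩, hsS, rfl⟩) (⟨v, hv⟩ : om E)
    have h2 := congrArg Subtype.val h1
    have e1 : ((rho E ⟨s, norm_om hsN⟩ • d (rho E ⟨t, norm_om htN⟩) (⟨v, hv⟩ : om E) : om E) : G) =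
      s * (t * v * t⁻¹ * v) * s⁻¹ := rfl
    rw [e1, mul_inv_eq_iff_eq_mul] at h2
    exact h2
  · intro t htS htN htE v hv htv s hsS hsN
    have h1 := hc.fix _ ((hE.mem_P0 hAI).2 ⟨⟨t, norm_om htN⟩, htS, rfl⟩) (hcent t htS _ htE) (⟨v, hv⟩ : om E)
      (by
        apply Subtype.ext
        rw [coe_smul, mul_inv_eq_iff_eq_mul]
        exact htv)
    have h2 := congrArg Subtype.val (h1 _ ((hE.mem_P0 hAI).2 ⟨⟨s, norm_om hsN⟩, hsS, rfl⟩))
    rw [coe_smul, mul_inv_eq_iff_eq_mul] at h2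
    exact h2
  · intro t htS htN htE v hv H
    have h1 := hc.opp _ ((hE.mem_P0 hAI).2 ⟨⟨t, norm_om htN⟩, htS, rfl⟩) (hcent t htS _ htE) (⟨v, hv⟩ : om E) ?_
    · have h2 := congrArg Subtype.val h1
      rw [coe_smul, mul_inv_eq_iff_eq_mul] at h2
      exact h2
    · intro R hR
      obtain ⟨l, rfl⟩ := MulAction.exists_smul_eq (LL E) (hE.P0 hAI) R
      obtain ⟨h, rfl⟩ := rho_surj E l
      intro x hx
      have hx' : (rho E h)⁻¹ * x * rho E h ∈ (hE.P0 hAI : Subgroup (LL E)) := mem_smul.1 hx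
      obtain ⟨s, hsS, hsx⟩ := (hE.mem_P0 hAI).1 hx'
      have hsN := hE.norm_of_normV hAI hsS s.2
      -- replace `h⁻¹` by an element of `N(E)`
      obtain ⟨k, hk, hkh⟩ := hE.exists_cent_mul hAI (inv_mem h.2)
      have hxe : x = rho E (h * s * h⁻¹) := by
        rw [map_mul, map_mul, map_inv, hsx]
        group
      apply Subtype.ext
      rw [hxe]
      have e1 : ((rho E (h * s * h⁻¹) • d (rho E ⟨t, norm_om htN⟩) (⟨v, hv⟩ : om E) : om E) : G) =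
        (h * s * (h : G)⁻¹) * (t * v * t⁻¹ * v) * (h * s * (h : G)⁻¹)⁻¹ := rfl
      have e2 : ((d (rho E ⟨t, norm_om htN⟩) (⟨v, hv⟩ : om E) : om E) : G) = t * v * t⁻¹ * v := rfl
      rw [e1, e2, mul_inv_eq_iff_eq_mul]
      have h3 := H _ hkh s hsS hsN
      have hdV : t * v * t⁻¹ * v ∈ om E := mul_mem (conj_mem_of_norm (norm_om htN) hv) hv
      have hdV' : (h : G)⁻¹ * (t * v * t⁻¹ * v) * h ∈ om E := conj_mem_of_norm' h.2 hdV
      have h4 : k * (h : G)⁻¹ * (t * v * t⁻¹ * v) * (k * (h : G)⁻¹)⁻¹ = (h : G)⁻¹ * (t * v * t⁻¹ * v) * h := by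
        have h5 := mem_centralizer_iff.1 hk _ hdV'
        calc k * (h : G)⁻¹ * (t * v * t⁻¹ * v) * (k * (h : G)⁻¹)⁻¹ =
            (k * ((h : G)⁻¹ * (t * v * t⁻¹ * v) * h)) * k⁻¹ := by group
          _ = (((h : G)⁻¹ * (t * v * t⁻¹ * v) * h) * k) * k⁻¹ := by rw [h5]
          _ = _ := by group
      rw [h4] at h3
      calc (h * s * (h : G)⁻¹) * (t * v * t⁻¹ * v) = h * (s * ((h : G)⁻¹ * (t * v * t⁻¹ * v) * h)) * (h : G)⁻¹ := by group
        _ = h * (((h : G)⁻¹ * (t * v * t⁻¹ * v) * h) * s) * (h : G)⁻¹ := by rw [h3]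
        _ = _ := by group
  · have hle : ((S : Subgroup G) ⊓ normalizer (E : Set G)) ≤ NV E := fun x hx => norm_om hx.2
    have hq : ∀ b ∈ ((S : Subgroup G) ⊓ normalizer (E : Set G)), ∀ b' ∈ ((S : Subgroup G) ⊓ normalizer (E : Set G)),
        ∀ v ∈ om E, b' * (b * v * b⁻¹ * v) = (b * v * b⁻¹ * v) * b' := by
      intro b hb b' hb' v hv
      have h1 := hc.qd _ ((hE.mem_P0 hAI).2 ⟨⟨b, hle hb⟩, hb.1, rfl⟩) _
        ((hE.mem_P0 hAI).2 ⟨⟨b', hle hb'⟩, hb'.1, rfl⟩) (⟨v, hv⟩ : om E)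
      have h2 := congrArg Subtype.val h1
      have e1 : ((rho E ⟨b', hle hb'⟩ • d (rho E ⟨b, hle hb⟩) (⟨v, hv⟩ : om E) : om E) : G) =
        b' * (b * v * b⁻¹ * v) * b'⁻¹ := rfl
      rw [e1, mul_inv_eq_iff_eq_mul] at h2
      exact h2
    obtain ⟨-, h2, h3⟩ := ff_aux hAI hE ((S : Subgroup G) ⊓ normalizer (E : Set G)) hle inf_le_left hq
    have h4 : ((rho E).comp (inclusion hle)).range = (hE.P0 hAI : Subgroup (LL E)) := by
      ext x
      constructor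
      · rintro ⟨b, rfl⟩
        exact (hE.mem_P0 hAI).2 ⟨_, b.2.1, rfl⟩
      · intro hx
        obtain ⟨s, hsS, rfl⟩ := (hE.mem_P0 hAI).1 hx
        exact ⟨⟨s, hsS, hE.norm_of_normV hAI hsS s.2⟩, rfl⟩
    have h5 := hc.idx
    rw [h4] at h2 h3
    rw [h2] at h5
    exact h5.trans h3

end IsE

end Cfsg.Agent.H305.Ess
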