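import Mathlib
import Cfsg.Agent.H305.EssPair

/-!
# All essential subgroups are normal in `S`
-/

set_option autoImplicit false

namespace Cfsg.Agent.H305.Ess

open Subgroup Cfsg.Agent.Lib.GoldschmidtFusion Cfsg.Agent.H305.FF
open scoped Pointwise commutatorElement

variable {G : Type*} [Group G]

/-- class at most two -/
def Cl2 (S : Subgroup G) : Prop :=
  ∀ a ∈ S, ∀ b ∈ S, ∀ c ∈ S, c * (a * b * a⁻¹ * b⁻¹) = (a * b * a⁻¹ * b⁻¹) * c

theorem comm_mem {S H : Subgroup G} (hH : S ≤ normalizer (H : Set G)) {a b x y : G} (hx : x ∈ S) (hy : y ∈ S)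
    (hxy : x * y = y * x) (ha : x⁻¹ * a ∈ H) (hb : y⁻¹ * b ∈ H) : a * b * a⁻¹ * b⁻¹ ∈ H := by
  -- `a b = x y h₁`, `b a = y x h₂`
  have h1 : (x * y)⁻¹ * (a * b) ∈ H := by
    have e : (x * y)⁻¹ * (a * b) = (y⁻¹ * (x⁻¹ * a) * y) * (y⁻¹ * b) := by group
    rw [e]
    exact mul_mem (conj_mem_of_norm' (hH hy) ha) hb
  have h2 : (x * y)⁻¹ * (b * a) ∈ H := by
    have e : (x * y)⁻¹ * (b * a) = (x⁻¹ * (y⁻¹ * b) * x) * (x⁻¹ * a) := by rw [hxy]; group
    rw [e]
    exact mul_mem (conj_mem_of_norm' (hH hx) hb) ha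
  have h3 := mul_mem h1 (inv_mem h2)
  have h4 := conj_mem_of_norm (hH (mul_mem hx hy)) h3
  have e : x * y * ((x * y)⁻¹ * (a * b) * ((x * y)⁻¹ * (b * a))⁻¹) * (x * y)⁻¹ = a * b * a⁻¹ * b⁻¹ := by group
  rwa [e] at h4

variable [Finite G] (hAI : AI G) {S : Sylow 2 G}
include hAI

/-- Two distinct essential subgroups normal in `S`. -/
theorem two_normal {E₁ E₂ : Subgroup G} (h₁ : IsE S E₁) (h₂ : IsE S E₂) (hne : E₁ ≠ E₂)
    (h1S : (S : Subgroup G) ≤ normalizer (E₁ : Set G)) (h2S : (S : Subgroup G) ≤ normalizer (E₂ : Set G)) :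
    Cl2 (S : Subgroup G) := by
  wlog hcard : Nat.card (om E₂) ≤ Nat.card (om E₁) generalizing E₁ E₂
  · exact this h₂ h₁ hne.symm h2S h1S (not_le.1 hcard).le
  obtain ⟨h3, -⟩ := pair_ff hAI h₁ h₂ hne (fun x hx => h2S (h₁.om_le_S hx)) (fun x hx => h1S (h₂.om_le_S hx)) hcard
  intro a ha b hb c hc
  obtain ⟨x, hx, hxa⟩ := h3 a ha (h2S ha)
  obtain ⟨y, hy, hyb⟩ := h3 b hb (h2S hb)
  have hxS := h₁.om_le_S hx
  have hyS := h₁.om_le_S hy
  have e1 : a * b * a⁻¹ * b⁻¹ ∈ E₂ := comm_mem h2S hxS hyS (h₁.comm x (om_le E₁ hx) y (om_le E₁ hy)) hxa hyb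
  have hV1 : (S : Subgroup G) ≤ normalizer (om E₁ : Set G) := fun s hs => norm_om (h1S hs)
  have e2 : a * b * a⁻¹ * b⁻¹ ∈ om E₁ := by
    -- `a = (x (x⁻¹ a) x⁻¹) x`
    have hf : x * (x⁻¹ * a) * x⁻¹ ∈ E₂ := conj_mem_of_norm (h2S hxS) hxa
    have hf' : y * (y⁻¹ * b) * y⁻¹ ∈ E₂ := conj_mem_of_norm (h2S hyS) hyb
    refine comm_mem hV1 (h₂.le hf) (h₂.le hf') (h₂.comm _ hf _ hf') ?_ ?_
    · have e : (x * (x⁻¹ * a) * x⁻¹)⁻¹ * a = x := by group
      rw [e]
      exact hx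
    · have e : (y * (y⁻¹ * b) * y⁻¹)⁻¹ * b = y := by group
      rw [e]
      exact hy
  set k := a * b * a⁻¹ * b⁻¹ with hk
  obtain ⟨z, hz, hzc⟩ := h3 c hc (h2S hc)
  have e3 : z * k = k * z := h₁.comm z (om_le E₁ hz) k (om_le E₁ e2)
  have e4 : (z⁻¹ * c) * k = k * (z⁻¹ * c) := h₂.comm _ hzc k e1
  calc c * k = z * ((z⁻¹ * c) * k) := by group
    _ = (z * k) * (z⁻¹ * c) := by rw [e4]; group
    _ = k * c := by rw [e3]; group

omit hAI in
theorem exists_om_ne {E : Subgroup G} (hE : IsE S E) : ∃ v ∈ om E, v ≠ 1 := by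
  have : Fact (Nat.Prime 2) := ⟨Nat.prime_two⟩
  have h1 : ∃ e ∈ E, e ≠ 1 := by
    by_contra hcon
    push Not at hcon
    obtain ⟨x, hx, hxE⟩ := hE.exists_not_mem
    exact hxE (hE.cent x hx (fun e he => by rw [hcon e he, mul_one, one_mul]))
  obtain ⟨e, he, he1⟩ := h1
  have hp := hE.isPGroup
  have h2 : Nat.card E ≠ 1 := by
    intro h3
    rw [Nat.card_eq_one_iff_unique] at h3
    have := h3.1
    exact he1 (congrArg Subtype.val (Subsingleton.elim (⟨e, he⟩ : E) 1))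
  obtain ⟨n, hn⟩ := (IsPGroup.iff_card (p := 2)).1 hp
  have h3 : 2 ∣ Nat.card E := by
    rw [hn]
    cases n with
    | zero => rw [hn, pow_zero] at h2; exact absurd rfl h2
    | succ n => exact dvd_pow_self 2 (Nat.succ_ne_zero n)
  obtain ⟨y, hy⟩ := exists_prime_orderOf_dvd_card' 2 h3
  refine ⟨y, ?_, ?_⟩
  · rw [hE.mem_om']
    refine ⟨y.2, ?_⟩
    have h4 := pow_orderOf_eq_one y
    rw [hy, pow_two] at h4
    exact congrArg Subtype.val h4
  · intro h4
    have : y = 1 := Subtype.ext h4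
    rw [this, orderOf_one] at hy
    omega

/-- All essential subgroups are normal in `S`. -/
theorem normal_case (hS : (S : Subgroup G) ≠ ⊥)
    (hall : ∀ E, IsE S E → (S : Subgroup G) ≤ normalizer (E : Set G)) :
    Cl2 (S : Subgroup G) ∨ ∃ A : Subgroup G, A ≠ ⊥ ∧ (∀ x ∈ A, ∀ y ∈ A, x * y = y * x) ∧
      Cfsg.IsStronglyClosed A (S : Subgroup G) := by
  have : Fact (Nat.Prime 2) := ⟨Nat.prime_two⟩
  by_cases hex : ∃ E, IsE S E
  · obtain ⟨E, hE⟩ := hex
    by_cases huniq : ∀ E', IsE S E' → E' = E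
    · right
      refine ⟨om E, ?_, ?_, ?_⟩
      · intro h
        obtain ⟨v, hv, hv1⟩ := exists_om_ne hE
        rw [h, mem_bot] at hv
        exact hv1 hv
      · exact fun x hx y hy => hE.comm x (om_le E hx) y (om_le E hy)
      · refine stronglyClosed hAI S (om E) hE.om_le_S ?_ ?_
        · intro n hn a ha
          have h1 := huniq _ (hE.conj hn)
          exact conj_mem_of_norm (norm_om (cj_eq_iff.1 h1)) ha
        · intro E' hE' g hg e he heV
          rw [huniq E' hE'] at hg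
          exact conj_mem_of_norm (norm_om hg) heV
    · left
      push Not at huniq
      obtain ⟨E', hE', hne⟩ := huniq
      exact two_normal hAI hE' hE hne (hall E' hE') (hall E hE)
  · right
    push Not at hex
    refine ⟨(center (S : Subgroup G)).map (S : Subgroup G).subtype, ?_, ?_, ?_⟩
    · intro h
      have h1 : Nontrivial (S : Subgroup G) := (nontrivial_iff_ne_bot _).2 hS
      have h2 : Nontrivial (center (S : Subgroup G)) := S.isPGroup'.center_nontrivial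
      rw [map_eq_bot_iff_of_injective _ (Subgroup.subtype_injective _)] at h
      exact (nontrivial_iff_ne_bot _).1 h2 h
    · rintro _ ⟨x, hx, rfl⟩ _ ⟨y, -, rfl⟩
      exact congrArg Subtype.val (mem_center_iff.1 hx y).symm
    · refine stronglyClosed hAI S _ (map_subtype_le _) ?_ (fun E hE => absurd hE (hex E))
      rintro n hn _ ⟨x, hx, rfl⟩
      refine ⟨⟨n * x * n⁻¹, conj_mem_of_norm hn x.2⟩, ?_, rfl⟩
      refine mem_center_iff.2 (fun s => Subtype.ext ?_)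
      have h1 := congrArg Subtype.val (mem_center_iff.1 hx ⟨n⁻¹ * s * n, conj_mem_of_norm' hn s.2⟩)
      change (s : G) * (n * x * n⁻¹) = n * x * n⁻¹ * s
      have h2 : n⁻¹ * (s : G) * n * x = x * (n⁻¹ * s * n) := h1
      calc (s : G) * (n * x * n⁻¹) = n * (n⁻¹ * s * n * x) * n⁻¹ := by group
        _ = n * (x * (n⁻¹ * s * n)) * n⁻¹ := by rw [h2]
        _ = n * x * n⁻¹ * s := by group

end Cfsg.Agent.H305.Ess
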