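import Mathlib
import Cfsg.Agent.H305.EssNormal

/-!
# Essential subgroups which are not normal in `S`
-/

set_option autoImplicit false

namespace Cfsg.Agent.H305.Ess

open Subgroup Cfsg.Agent.Lib.GoldschmidtFusion Cfsg.Agent.H305.FF
open scoped Pointwise commutatorElement

variable {G : Type*} [Group G]

/-- `N_S(E)` -/
def T0 (S : Sylow 2 G) (E : Subgroup G) : Subgroup G := (S : Subgroup G) ⊓ normalizer (E : Set G)

theorem mem_T0 {S : Sylow 2 G} {E : Subgroup G} {x : G} : x ∈ T0 S E ↔ x ∈ (S : Subgroup G) ∧ x ∈ normalizer (E : Set G) :=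
  Iff.rfl

/-- central elements of `T` -/
def Cen (T : Subgroup G) (z : G) : Prop := ∀ t ∈ T, t * z = z * t

theorem Cen.mul {T : Subgroup G} {y z : G} (hy : Cen T y) (hz : Cen T z) : Cen T (y * z) := fun t ht => by
  rw [← mul_assoc, hy t ht, mul_assoc, hz t ht, mul_assoc]

theorem Cen.inv {T : Subgroup G} {y : G} (hy : Cen T y) : Cen T y⁻¹ := fun t ht => by
  rw [eq_inv_mul_iff_mul_eq, ← mul_assoc, mul_inv_eq_iff_eq_mul, hy t ht]

theorem Cen.one (T : Subgroup G) : Cen T (1 : G) := fun t _ => by rw [mul_one, one_mul]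

/-- a non-normal essential subgroup and an element of `N_S(N_S(E)) ∖ N_S(E)` -/
structure NN (S : Sylow 2 G) (E : Subgroup G) (x : G) : Prop where
  hE : IsE S E
  xS : x ∈ (S : Subgroup G)
  xE : x ∉ normalizer (E : Set G)
  xT : x ∈ normalizer (T0 S E : Set G)

/-- a subgroup contained in a union of two subgroups is contained in one of them -/
theorem le_or_le {A B C : Subgroup G} (h : ∀ x ∈ A, x ∈ B ∨ x ∈ C) : A ≤ B ∨ A ≤ C := by
  by_contra hcon
  push Not at hcon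
  obtain ⟨h1, h2⟩ := hcon
  obtain ⟨b, hbA, hb⟩ := SetLike.not_le_iff_exists.1 h1
  obtain ⟨c, hcA, hc⟩ := SetLike.not_le_iff_exists.1 h2
  have hbC := (h b hbA).resolve_left hb
  have hcB := (h c hcA).resolve_right hc
  rcases h (b * c) (mul_mem hbA hcA) with h3 | h3
  · exact hb (by have := mul_mem h3 (inv_mem hcB); rwa [mul_inv_cancel_right] at this)
  · exact hc (by have := mul_mem (inv_mem hbC) h3; rwa [inv_mul_cancel_left] at this)

variable [Finite G] (hAI : AI G) {S : Sylow 2 G}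

theorem exists_NN {E : Subgroup G} (hE : IsE S E) (h : ¬ (S : Subgroup G) ≤ normalizer (E : Set G)) :
    ∃ x, NN S E x := by
  obtain ⟨y, hyS, hy⟩ := SetLike.not_le_iff_exists.1 h
  obtain ⟨x, hxS, hxT, hxN⟩ := exists_norm (H := T0 S E) S.isPGroup' inf_le_left hyS (fun h => hy h.2)
  exact ⟨x, hE, hxS, fun h => hxT ⟨hxS, h⟩, hxN⟩

namespace NN

variable {E : Subgroup G} {x : G} (h : NN S E x)
include h

theorem hE' : IsE S (cj x E) := h.hE.conj (le_normalizer h.xS)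

theorem ne : cj x E ≠ E := fun e => h.xE (cj_eq_iff.1 e)

omit [Finite G] in
theorem T0_eq : T0 S (cj x E) = T0 S E := by
  ext y
  rw [mem_T0, mem_norm_cj]
  constructor
  · rintro ⟨hy, hyn⟩
    have h1 : x⁻¹ * y * x ∈ T0 S E := mem_T0.2 ⟨mul_mem (mul_mem (inv_mem h.xS) hy) h.xS, hyn⟩
    have h2 := conj_mem_of_norm h.xT h1
    have e : x * (x⁻¹ * y * x) * x⁻¹ = y := by group
    rwa [e] at h2
  · intro hy
    exact ⟨hy.1, (conj_mem_of_norm' h.xT hy).2⟩

omit [Finite G] in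
theorem E_le : E ≤ T0 S E := fun _ he => ⟨h.hE.le he, le_normalizer he⟩

theorem E'_le : cj x E ≤ T0 S E := by
  rw [← h.T0_eq]
  exact fun _ he => ⟨h.hE'.le he, le_normalizer he⟩

include hAI

theorem pair1 : (∀ t ∈ T0 S E, ∃ b ∈ om (cj x E), b⁻¹ * t ∈ E) ∧ FFC S E := by
  obtain ⟨h1, h2⟩ := pair_ff hAI h.hE' h.hE h.ne (fun y hy => (h.E'_le (om_le _ hy)).2)
    (fun y hy => by
      have := h.E_le (om_le _ hy)
      rw [← h.T0_eq] at this
      exact this.2) (by rw [om_cj, card_cj])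
  exact ⟨fun t ht => h1 t ht.1 ht.2, h.hE.concl_ffc hAI h2⟩

theorem pair2 : ∀ t ∈ T0 S E, ∃ b ∈ om E, b⁻¹ * t ∈ cj x E := by
  obtain ⟨h1, h2⟩ := pair_ff hAI h.hE h.hE' h.ne.symm (fun y hy => by
      have := h.E_le (om_le _ hy)
      rw [← h.T0_eq] at this
      exact this.2) (fun y hy => (h.E'_le (om_le _ hy)).2) (by rw [om_cj, card_cj])
  intro t ht
  rw [← h.T0_eq] at ht
  exact h1 t ht.1 ht.2

/-- an element of `E ∩ E'` is central in `N_S(E)` -/
theorem cen_of_mem {z : G} (hz : z ∈ E) (hz' : z ∈ cj x E) : Cen (T0 S E) z := by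
  intro t ht
  obtain ⟨b, hb, hbt⟩ := (h.pair1 hAI).1 t ht
  have h1 := h.hE'.comm b (om_le _ hb) z hz'
  have h2 := h.hE.comm _ hbt z hz
  calc t * z = b * ((b⁻¹ * t) * z) := by group
    _ = (b * z) * (b⁻¹ * t) := by rw [h2]; group
    _ = z * t := by rw [h1]; group

omit hAI in
theorem mem_of_cen {z : G} (hzS : z ∈ (S : Subgroup G)) (hz : Cen (T0 S E) z) : z ∈ E ∧ z ∈ cj x E :=
  ⟨h.hE.cent z hzS (fun e he => (hz e (h.E_le he)).symm), h.hE'.cent z hzS (fun e he => (hz e (h.E'_le he)).symm)⟩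

/-- `E = Ω₁(E) Z(N_S(E))` -/
theorem decomp {e : G} (he : e ∈ E) : ∃ v ∈ om E, v⁻¹ * e ∈ E ∧ Cen (T0 S E) (v⁻¹ * e) := by
  obtain ⟨b, hb, hbt⟩ := h.pair2 hAI e (h.E_le he)
  have h1 : b⁻¹ * e ∈ E := mul_mem (inv_mem (om_le E hb)) he
  exact ⟨b, hb, h1, h.cen_of_mem hAI h1 hbt⟩

/-- squares of elements of `E` are central in `N_S(E)` -/
theorem sq_cen {e : G} (he : e ∈ E) : Cen (T0 S E) (e * e) := by
  obtain ⟨v, hv, hz, hzc⟩ := h.decomp hAI he
  have e1 : e * e = (v⁻¹ * e) * (v⁻¹ * e) := by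
    have h1 := h.hE.comm v (om_le E hv) (v⁻¹ * e) hz
    have h2 := (h.hE.mem_om'.1 hv).2
    calc e * e = v * ((v⁻¹ * e) * v) * (v⁻¹ * e) := by group
      _ = v * (v * (v⁻¹ * e)) * (v⁻¹ * e) := by rw [← h1]
      _ = (v * v) * ((v⁻¹ * e) * (v⁻¹ * e)) := by group
      _ = (v⁻¹ * e) * (v⁻¹ * e) := by rw [h2, one_mul]
  rw [e1]
  exact hzc.mul hzc

theorem opp_sq {t v e : G} (ht : t ∈ T0 S E) (htE : t ∉ E) (hv : v ∈ om E) (he : e ∈ E)
    (heq : t * v * t⁻¹ * v = e * e) : t * v = v * t := by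
  refine (h.pair1 hAI).2.opp t ht.1 ht.2 htE v hv (fun g hg s hs hsN => ?_)
  have h1 := h.sq_cen hAI (conj_mem_of_norm hg he)
  have e1 : g * (t * v * t⁻¹ * v) * g⁻¹ = g * e * g⁻¹ * (g * e * g⁻¹) := by rw [heq]; group
  rw [e1]
  exact h1 s ⟨hs, hsN⟩

theorem cen_of_comm {t v : G} (ht : t ∈ T0 S E) (htE : t ∉ E) (hv : v ∈ om E) (htv : t * v = v * t) :
    Cen (T0 S E) v := fun s hs => (h.pair1 hAI).2.fix t ht.1 ht.2 htE v hv htv s hs.1 hs.2

/-- the involutions of `N_S(E)` -/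
theorem inv_cases {i : G} (hi : i ∈ T0 S E) (hii : i * i = 1) : i ∈ om E ∨ i ∈ om (cj x E) := by
  obtain ⟨b, hb, hbi⟩ := (h.pair1 hAI).1 i hi
  by_cases hbE : b ∈ E
  · left
    rw [h.hE.mem_om']
    refine ⟨?_, hii⟩
    have := mul_mem hbE hbi
    rwa [mul_inv_cancel_left] at this
  · right
    obtain ⟨v, hv, hz, hzc⟩ := h.decomp hAI hbi
    set z := v⁻¹ * (b⁻¹ * i) with hzdef
    have hi' : i = b * v * z := by rw [hzdef]; group
    have hbT : b ∈ T0 S E := h.E'_le (om_le _ hb)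
    have hvT : v ∈ T0 S E := h.E_le (om_le _ hv)
    have hbb : b⁻¹ = b := inv_eq_of_mul_eq_one_right (h.hE'.mem_om'.1 hb).2
    have h1 : b * v * b⁻¹ * v = z⁻¹ * z⁻¹ := by
      have h2 : (b * v) * (b * v) * (z * z) = 1 := by
        have h3 := hzc _ (mul_mem hbT hvT)
        calc (b * v) * (b * v) * (z * z) = (b * v) * ((b * v) * z) * z := by group
          _ = (b * v) * (z * (b * v)) * z := by rw [h3]
          _ = (b * v * z) * (b * v * z) := by group
          _ = 1 := by rw [← hi']; exact hii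
      rw [hbb]
      have h4 : b * v * (b * v) = (z * z)⁻¹ := eq_inv_of_mul_eq_one_left h2
      calc b * v * b * v = b * v * (b * v) := by group
        _ = z⁻¹ * z⁻¹ := by rw [h4, mul_inv_rev]
    have h2 := h.opp_sq hAI hbT hbE hv (inv_mem hz) h1
    have h3 := h.cen_of_comm hAI hbT hbE hv h2
    have h4 : Cen (T0 S E) (b⁻¹ * i) := by
      have e : b⁻¹ * i = v * z := by rw [hzdef]; group
      rw [e]
      exact h3.mul hzc
    have h5 := (h.mem_of_cen (h.hE.le hbi) h4).2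
    rw [h.hE'.mem_om']
    refine ⟨?_, hii⟩
    have := mul_mem (om_le _ hb) h5
    rwa [mul_inv_cancel_left] at this

/-- centralizers of the elements of `Ω₁(E)` outside `Z(N_S(E))` -/
theorem cent_eq {v : G} (hv : v ∈ om E) (hnc : ¬ Cen (T0 S E) v) {y : G} (hy : y ∈ (S : Subgroup G))
    (hyv : y * v = v * y) : y ∈ E := by
  by_contra hyE
  have hED : E ≤ (S : Subgroup G) ⊓ centralizer ({v} : Set G) := fun e he =>
    ⟨h.hE.le he, mem_centralizer_singleton_iff.2 (h.hE.comm e he v (om_le E hv))⟩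
  obtain ⟨y', hy'D, hy'E, hy'N⟩ := exists_norm (S.isPGroup'.to_le inf_le_left) hED
    (x := y) ⟨hy, mem_centralizer_singleton_iff.2 hyv⟩ hyE
  exact hnc (h.cen_of_comm hAI ⟨hy'D.1, hy'N⟩ hy'E hv (mem_centralizer_singleton_iff.1 hy'D.2))

theorem norm_T0 {y : G} (hy : y ∈ (S : Subgroup G)) (hyN : y ∈ normalizer (T0 S E : Set G)) :
    y ∈ T0 S E ∨ x⁻¹ * y ∈ T0 S E := by
  have h1 : ∀ w ∈ cj y (om E), w ∈ om E ∨ w ∈ om (cj x E) := by
    rintro _ ⟨v, hv, rfl⟩
    refine h.inv_cases hAI (conj_mem_of_norm hyN (h.E_le (om_le _ hv))) ?_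
    rw [← map_mul, (h.hE.mem_om'.1 hv).2, map_one]
  rcases le_or_le h1 with h2 | h2
  · left
    refine ⟨hy, h.hE.norm_of_normV hAI hy (norm_of_conj_le (fun v hv => h2 (conj_mem_cj hv)))⟩
  · right
    have hxy : x⁻¹ * y ∈ (S : Subgroup G) := mul_mem (inv_mem h.xS) hy
    refine ⟨hxy, h.hE.norm_of_normV hAI hxy (norm_of_conj_le (fun v hv => ?_))⟩
    have h3 := h2 (conj_mem_cj hv)
    rw [om_cj, mem_cj] at h3
    have e : x⁻¹ * y * v * (x⁻¹ * y)⁻¹ = x⁻¹ * (y * v * y⁻¹) * x := by group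
    rw [e]
    exact h3

end NN

theorem relIndex_le_two {H K : Subgroup G} (h : ∀ a ∈ K, ∀ b ∈ K, a ∉ H → b ∉ H → a⁻¹ * b ∈ H) :
    H.relIndex K ≤ 2 := by
  by_cases hKH : K ≤ H
  · rw [relIndex_eq_one.2 hKH]; omega
  obtain ⟨a, haK, haH⟩ := SetLike.not_le_iff_exists.1 hKH
  have hsurj : Function.Surjective (fun b : Bool => if b then (QuotientGroup.mk ⟨a, haK⟩ : K ⧸ H.subgroupOf K)
      else QuotientGroup.mk 1) := by
    intro q
    obtain ⟨b, rfl⟩ := QuotientGroup.mk_surjective q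
    by_cases hb : (b : G) ∈ H
    · refine ⟨false, ?_⟩
      simp only [Bool.false_eq_true, if_false]
      rw [QuotientGroup.eq, mem_subgroupOf]
      simpa using hb
    · refine ⟨true, ?_⟩
      simp only [if_true]
      rw [QuotientGroup.eq, mem_subgroupOf]
      exact h a haK b b.2 haH hb
  have h1 := Nat.card_le_card_of_surjective _ hsurj
  rw [Nat.card_eq_fintype_card (α := Bool), Fintype.card_bool] at h1
  exact h1

theorem exists_three {H K : Subgroup G} (h : 2 < H.relIndex K) : ∃ a ∈ K, ∃ b ∈ K, a ∉ H ∧ b ∉ H ∧ a⁻¹ * b ∉ H := by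
  by_contra hcon
  push Not at hcon
  have := relIndex_le_two (H := H) (K := K) (fun a ha b hb haH hbH => hcon a ha b hb haH hbH)
  omega

theorem mem_of_relIndex_le_two {H K : Subgroup G} (h : H.relIndex K ≤ 2) {a b : G} (ha : a ∈ K) (hb : b ∈ K)
    (haH : a ∉ H) (hbH : b ∉ H) : a⁻¹ * b ∈ H := by
  by_contra hab
  have hinj : Function.Injective (fun i : Fin 3 => (QuotientGroup.mk
      (![(1 : K), ⟨a, ha⟩, ⟨b, hb⟩] i) : K ⧸ H.subgroupOf K)) := by
    intro i j hij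
    have h1 : ∀ {p q : K}, (QuotientGroup.mk p : K ⧸ H.subgroupOf K) = QuotientGroup.mk q → (p : G)⁻¹ * q ∈ H := by
      intro p q hpq
      exact mem_subgroupOf.1 (QuotientGroup.eq.1 hpq)
    fin_cases i <;> fin_cases j <;> first
      | rfl
      | (exfalso; have h2 := h1 hij; have h3 := inv_mem h2; simp at h2 h3; tauto)
  have := Nat.card_le_card_of_injective _ hinj
  rw [Nat.card_eq_fintype_card (α := Fin 3), Fintype.card_fin] at this
  change 3 ≤ H.relIndex K at this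
  omega

end Cfsg.Agent.H305.Ess
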