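import Mathlib
import Cfsg.Agent.H305.EssQ

/-!
# Non-normal essential subgroups with `|N_S(E) : E| = 2`: the structure of `E`

`E = W × A`, `W = {1, t, w, tw}` invariant under `N_G(E)`, `A` the largest `N_G(E)`-invariant subgroup
of `E` centralized by `N_S(E)`.
-/

set_option autoImplicit false

namespace Cfsg.Agent.H305.Ess

open Subgroup Cfsg.Agent.Lib.GoldschmidtFusion Cfsg.Agent.H305.FF
open scoped Pointwise commutatorElement

variable {G : Type*} [Group G]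

/-- the set `{1, t, w, tw}` -/
def InW (t w y : G) : Prop := y = 1 ∨ y = t ∨ y = w ∨ y = t * w

/-- the structure of `E` -/
structure Q2 (S : Sylow 2 G) (E : Subgroup G) (t w : G) (A : Subgroup G) : Prop where
  hE : IsE S E
  two : ∀ a ∈ T0 S E, ∀ b ∈ T0 S E, a ∉ E → b ∉ E → a⁻¹ * b ∈ E
  tV : t ∈ om E
  wV : w ∈ om E
  t1 : t ≠ 1
  tcen : Cen (T0 S E) t
  wcen : ¬ Cen (T0 S E) w
  comm : ∀ a ∈ T0 S E, a ∉ E → ∀ v ∈ om E, ¬ Cen (T0 S E) v → a * v * a⁻¹ * v = t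
  Winv : ∀ m ∈ normalizer (E : Set G), ∀ y, InW t w y → InW t w (m * y * m⁻¹)
  mem_A : ∀ a, a ∈ A ↔ a ∈ E ∧ ∀ g ∈ normalizer (E : Set G), Cen (T0 S E) (g * a * g⁻¹)
  decomp : ∀ e ∈ E, ∃ y, InW t w y ∧ y⁻¹ * e ∈ A
  tA : t ∉ A
  exists_h : ∃ g ∈ normalizer (E : Set G), w = g * t * g⁻¹

section

variable [Finite G] (hAI : AI G) {S : Sylow 2 G}
include hAI

namespace IsE

variable {E : Subgroup G} (hE : IsE S E)
include hE

theorem stab_inv {m : G} (hm : m ∈ NV E) (h : rho E ⟨m, hm⟩ • hE.P0 hAI = hE.P0 hAI) :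
    rho E ⟨m⁻¹, inv_mem hm⟩ • hE.P0 hAI = hE.P0 hAI := by
  have e : rho E ⟨m⁻¹, inv_mem hm⟩ = (rho E ⟨m, hm⟩)⁻¹ := by rw [← map_inv]; rfl
  rw [e, inv_smul_eq_iff, h]

/-- elements of `E` centralized by `N_S(E)` are moved to such elements by the stabilizer -/
theorem stab_cen {m : G} (hm : m ∈ normalizer (E : Set G)) (h : rho E ⟨m, norm_om hm⟩ • hE.P0 hAI = hE.P0 hAI)
    {z : G} (hz : z ∈ E) (hzc : Cen (T0 S E) z) : Cen (T0 S E) (m * z * m⁻¹) := by
  intro s hs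
  obtain ⟨s', hs'S, hs'N, hk⟩ := hE.stab hAI (inv_mem (norm_om hm)) (hE.stab_inv hAI _ h) s hs.1 hs.2
  rw [inv_inv] at hk
  -- `m⁻¹ s m = s' k`, `k ∈ C_G(E)`
  have hkN : s'⁻¹ * (m⁻¹ * s * m) ∈ normalizer (E : Set G) :=
    mul_mem (inv_mem hs'N) (mul_mem (mul_mem (inv_mem hm) hs.2) hm)
  have h1 := hE.cent_of_normV hAI hkN (fun v hv => (mem_centralizer_iff.1 hk v hv).symm) z hz
  have h2 := hzc s' ⟨hs'S, hs'N⟩
  have h3 : (m⁻¹ * s * m) * z = z * (m⁻¹ * s * m) := by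
    calc (m⁻¹ * s * m) * z = s' * ((s'⁻¹ * (m⁻¹ * s * m)) * z) := by group
      _ = (s' * z) * (s'⁻¹ * (m⁻¹ * s * m)) := by rw [h1]; group
      _ = z * (m⁻¹ * s * m) := by rw [h2]; group
  calc s * (m * z * m⁻¹) = m * ((m⁻¹ * s * m) * z) * m⁻¹ := by group
    _ = m * (z * (m⁻¹ * s * m)) * m⁻¹ := by rw [h3]
    _ = m * z * m⁻¹ * s := by group

end IsE

/-- the structure of a non-normal essential subgroup -/
theorem NN.exists_Q2 {E : Subgroup G} {x : G} (h : NN S E x) (hle : E.relIndex (T0 S E) ≤ 2) :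
    ∃ t w A, Q2 S E t w A := by
  have hFE := (h.pair1 hAI).2
  have hconcl : Concl (om E) (h.hE.P0 hAI) := by
    obtain ⟨-, h2⟩ := pair_ff hAI h.hE' h.hE h.ne (fun y hy => (h.E'_le (om_le _ hy)).2)
      (fun y hy => by
        have := h.E_le (om_le _ hy)
        rw [← h.T0_eq] at this
        exact this.2) (by rw [om_cj, card_cj])
    exact h2
  have hvv : ∀ v ∈ om E, v⁻¹ = v := fun v hv => inv_eq_of_mul_eq_one_right (h.hE.mem_om'.1 hv).2
  have hvv' : ∀ v ∈ om E, v * v = 1 := fun v hv => (h.hE.mem_om'.1 hv).2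
  have two : ∀ a ∈ T0 S E, ∀ b ∈ T0 S E, a ∉ E → b ∉ E → a⁻¹ * b ∈ E := fun a ha b hb haE hbE =>
    mem_of_relIndex_le_two hle ha hb haE hbE
  have hidxC := hFE.idx
  change (centralizer (T0 S E : Set G)).relIndex (om E) = E.relIndex (T0 S E) at hidxC
  have hCC : ∀ v, v ∈ centralizer (T0 S E : Set G) ↔ Cen (T0 S E) v := fun v => mem_centralizer_iff
  have vtwo : ∀ v ∈ om E, ∀ w ∈ om E, ¬ Cen (T0 S E) v → ¬ Cen (T0 S E) w → Cen (T0 S E) (v⁻¹ * w) := by
    intro v hv w hw hvc hwc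
    rw [← hCC] at hvc hwc ⊢
    exact mem_of_relIndex_le_two (by rw [hidxC]; exact hle) hv hw hvc hwc
  -- `f`, `v₀`, `t`
  obtain ⟨f, hfS, hfE, hfN⟩ := h.hE.exists_t
  have hfT : f ∈ T0 S E := ⟨hfS, hfN⟩
  obtain ⟨v₀, hv₀, hfv₀⟩ : ∃ v ∈ om E, f * v ≠ v * f := by
    by_contra hcon
    push Not at hcon
    exact hfE (h.hE.centV hAI hfS hcon)
  have hv₀c : ¬ Cen (T0 S E) v₀ := fun hc => hfv₀ (hc f hfT)
  set t := f * v₀ * f⁻¹ * v₀ with ht
  have htV : t ∈ om E := mul_mem (conj_mem_of_norm (norm_om hfN) hv₀) hv₀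
  have ht1 : t ≠ 1 := by
    intro h1
    apply hfv₀
    rw [ht, mul_eq_one_iff_eq_inv, hvv v₀ hv₀, mul_inv_eq_iff_eq_mul] at h1
    exact h1
  have htc : Cen (T0 S E) t := fun s hs => hFE.quad f hfS hfN v₀ hv₀ s hs.1 hs.2
  have hcomm : ∀ a ∈ T0 S E, a ∉ E → ∀ v ∈ om E, ¬ Cen (T0 S E) v → a * v * a⁻¹ * v = t := by
    intro a ha haE v hv hvc
    set e := f⁻¹ * a with he
    have heE : e ∈ E := two f hfT a ha hfE haE
    have hae : a = f * e := by rw [he]; group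
    set z := v₀⁻¹ * v with hz
    have hzc : Cen (T0 S E) z := vtwo v₀ hv₀ v hv hv₀c hvc
    have hzV : z ∈ om E := mul_mem (inv_mem hv₀) hv
    have hvz : v = v₀ * z := by rw [hz]; group
    have hev : e * v = v * e := h.hE.comm e heE v (om_le _ hv)
    have hfz := hzc f hfT
    have hv₀z := h.hE.comm v₀ (om_le _ hv₀) z (om_le _ hzV)
    calc a * v * a⁻¹ * v = f * (e * v) * e⁻¹ * f⁻¹ * v := by rw [hae]; group
      _ = f * v * f⁻¹ * v := by rw [hev]; group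
      _ = f * (v₀ * z) * f⁻¹ * (v₀ * z) := by rw [← hvz]
      _ = f * (z * v₀) * f⁻¹ * (v₀ * z) := by rw [hv₀z]
      _ = (f * z) * v₀ * f⁻¹ * v₀ * z := by group
      _ = z * (f * v₀ * f⁻¹ * v₀) * z := by rw [hfz]; group
      _ = z * t * z := by rw [← ht]
      _ = t * (z * z) := by rw [h.hE.comm z (om_le _ hzV) t (om_le _ htV), mul_assoc]
      _ = t := by rw [hvv' z hzV, mul_one]
  -- `w`
  obtain ⟨g, hgN, hgc⟩ : ∃ g ∈ normalizer (E : Set G), ¬ Cen (T0 S E) (g * t * g⁻¹) := by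
    by_contra hcon
    push Not at hcon
    exact hfv₀ (hFE.opp f hfS hfN hfE v₀ hv₀ (fun g hg s hs hsN => hcon g hg s ⟨hs, hsN⟩))
  set w := g * t * g⁻¹ with hw
  have hwV : w ∈ om E := conj_mem_of_norm (norm_om hgN) htV
  have htw : t * w = w * t := h.hE.comm t (om_le _ htV) w (om_le _ hwV)
  -- the stabilizer of the Sylow subgroup fixes `t`
  have hst : ∀ m (hm : m ∈ normalizer (E : Set G)), rho E ⟨m, norm_om hm⟩ • h.hE.P0 hAI = h.hE.P0 hAI →
      m * t * m⁻¹ = t := by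
    intro m hm hs
    obtain ⟨f', hf'S, hf'N, hk⟩ := h.hE.stab hAI (norm_om hm) hs f hfS hfN
    have hv'V : m * v₀ * m⁻¹ ∈ om E := conj_mem_of_norm (norm_om hm) hv₀
    have hv'c : ¬ Cen (T0 S E) (m * v₀ * m⁻¹) := by
      intro hc
      have h1 := h.hE.stab_cen hAI (inv_mem hm) (h.hE.stab_inv hAI _ hs) (om_le _ hv'V) hc
      have e : m⁻¹ * (m * v₀ * m⁻¹) * m⁻¹⁻¹ = v₀ := by group
      rw [e] at h1
      exact hv₀c h1
    have hf'E : f' ∉ E := by
      intro hf'E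
      apply hfE
      refine h.hE.centV hAI hfS (fun v hv => ?_)
      have hv' : m * v * m⁻¹ ∈ om E := conj_mem_of_norm (norm_om hm) hv
      have h1 := (mem_centralizer_iff.1 hk _ hv')
      have h2 := h.hE.comm f' hf'E _ (om_le _ hv')
      have h3 : (m * f * m⁻¹) * (m * v * m⁻¹) = (m * v * m⁻¹) * (m * f * m⁻¹) := by
        calc (m * f * m⁻¹) * (m * v * m⁻¹) = f' * ((f'⁻¹ * (m * f * m⁻¹)) * (m * v * m⁻¹)) := by group
          _ = (f' * (m * v * m⁻¹)) * (f'⁻¹ * (m * f * m⁻¹)) := by rw [← h1]; group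
          _ = (m * v * m⁻¹) * (m * f * m⁻¹) := by rw [h2]; group
      have h4 : m * (f * v) * m⁻¹ = m * (v * f) * m⁻¹ := by
        calc m * (f * v) * m⁻¹ = (m * f * m⁻¹) * (m * v * m⁻¹) := by group
          _ = (m * v * m⁻¹) * (m * f * m⁻¹) := h3
          _ = m * (v * f) * m⁻¹ := by group
      exact mul_left_cancel (mul_right_cancel h4)
    have h1 := hcomm f' ⟨hf'S, hf'N⟩ hf'E _ hv'V hv'c
    have h2 := mem_centralizer_iff.1 hk _ hv'V
    refine Eq.trans ?_ h1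
    rw [ht]
    set v' := m * v₀ * m⁻¹ with hv'
    set k := f'⁻¹ * (m * f * m⁻¹) with hkdef
    have hmf : m * f * m⁻¹ = f' * k := by rw [hkdef]; group
    calc m * (f * v₀ * f⁻¹ * v₀) * m⁻¹ = (m * f * m⁻¹) * v' * (m * f * m⁻¹)⁻¹ * v' := by rw [hv']; group
      _ = f' * (k * v') * k⁻¹ * f'⁻¹ * v' := by rw [hmf]; group
      _ = f' * (v' * k) * k⁻¹ * f'⁻¹ * v' := by rw [h2]
      _ = f' * v' * f'⁻¹ * v' := by group
  have hgP : rho E ⟨g, norm_om hgN⟩ • h.hE.P0 hAI ≠ h.hE.P0 hAI := by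
    intro h1
    exact hgc (h.hE.stab_cen hAI hgN h1 (om_le _ htV) htc)
  -- conjugates of `w` under `N_S(E)`
  have hws : ∀ s ∈ T0 S E, s * w * s⁻¹ = w ∨ s * w * s⁻¹ = t * w := by
    intro s hs
    by_cases hsE : s ∈ E
    · left
      rw [h.hE.comm s hsE w (om_le _ hwV)]; group
    · right
      have h1 := hcomm s hs hsE w hwV hgc
      rw [← h1]
      calc s * w * s⁻¹ = s * w * s⁻¹ * (w * w) := by rw [hvv' w hwV, mul_one]
        _ = _ := by group
  -- the conjugates of `t`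
  have htm : ∀ m ∈ normalizer (E : Set G), m * t * m⁻¹ = t ∨ m * t * m⁻¹ = w ∨ m * t * m⁻¹ = t * w := by
    intro m hm
    rcases h.hE.sylow_cases hAI hconcl (norm_om hgN) hgP (norm_om hm) with h1 | ⟨s, hsS, hsN, h1⟩
    · exact Or.inl (hst m hm h1)
    · have hm' : (s * g)⁻¹ * m ∈ normalizer (E : Set G) := mul_mem (inv_mem (mul_mem hsN hgN)) hm
      have h2 := hst _ hm' h1
      have h3 : m * t * m⁻¹ = s * w * s⁻¹ := by
        calc m * t * m⁻¹ = (s * g) * (((s * g)⁻¹ * m) * t * ((s * g)⁻¹ * m)⁻¹) * (s * g)⁻¹ := by group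
          _ = (s * g) * t * (s * g)⁻¹ := by rw [h2]
          _ = s * w * s⁻¹ := by rw [hw]; group
      rw [h3]
      exact Or.inr (hws s ⟨hsS, hsN⟩)
  have hwm : ∀ m ∈ normalizer (E : Set G), m * w * m⁻¹ = t ∨ m * w * m⁻¹ = w ∨ m * w * m⁻¹ = t * w := by
    intro m hm
    have h1 := htm (m * g) (mul_mem hm hgN)
    have e : m * g * t * (m * g)⁻¹ = m * w * m⁻¹ := by rw [hw]; group
    rwa [e] at h1
  have htt := hvv' t htV
  have hww := hvv' w hwV
  have hWinv : ∀ m ∈ normalizer (E : Set G), ∀ y, InW t w y → InW t w (m * y * m⁻¹) := by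
    rintro m hm y (rfl | rfl | rfl | rfl)
    · left; group
    · exact Or.inr (htm m hm)
    · exact Or.inr (hwm m hm)
    · have e : m * (t * w) * m⁻¹ = (m * t * m⁻¹) * (m * w * m⁻¹) := by group
      rw [e]
      rcases htm m hm with h1 | h1 | h1 <;> rcases hwm m hm with h2 | h2 | h2 <;> rw [h1, h2]
      · left; exact htt
      · right; right; right; rfl
      · right; right; left; rw [← mul_assoc, htt, one_mul]
      · right; right; right; exact htw.symm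
      · left; exact hww
      · right; left; rw [htw, ← mul_assoc, hww, one_mul]
      · right; right; left; rw [mul_assoc, ← htw, ← mul_assoc, htt, one_mul]
      · right; left; rw [mul_assoc, hww, mul_one]
      · left
        calc t * w * (t * w) = t * (w * t) * w := by group
          _ = t * (t * w) * w := by rw [htw]
          _ = (t * t) * (w * w) := by group
          _ = 1 := by rw [htt, hww, one_mul]
  -- `A`
  let A : Subgroup G :=
    { carrier := {a | a ∈ E ∧ ∀ g ∈ normalizer (E : Set G), Cen (T0 S E) (g * a * g⁻¹)}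
      one_mem' := ⟨one_mem E, fun g _ => by
        have e : g * 1 * g⁻¹ = 1 := by group
        rw [e]; exact Cen.one _⟩
      mul_mem' := by
        rintro a b ⟨ha, ha'⟩ ⟨hb, hb'⟩
        refine ⟨mul_mem ha hb, fun g hg => ?_⟩
        have e : g * (a * b) * g⁻¹ = (g * a * g⁻¹) * (g * b * g⁻¹) := by group
        rw [e]; exact (ha' g hg).mul (hb' g hg)
      inv_mem' := by
        rintro a ⟨ha, ha'⟩
        refine ⟨inv_mem ha, fun g hg => ?_⟩
        have e : g * a⁻¹ * g⁻¹ = (g * a * g⁻¹)⁻¹ := by group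
        rw [e]; exact (ha' g hg).inv }
  -- `E = Ω₁(E) Z`
  have hEZ : ∀ e ∈ E, ∀ u ∈ om E, ¬ Cen (T0 S E) u → Cen (T0 S E) e ∨ Cen (T0 S E) (u * e) := by
    intro e he u hu huc
    obtain ⟨v, hv, hz, hzc⟩ := h.decomp hAI he
    by_cases hvc : Cen (T0 S E) v
    · left
      have := hvc.mul hzc
      rwa [mul_inv_cancel_left] at this
    · right
      have h1 := (vtwo u hu v hv huc hvc).mul hzc
      have e1 : u⁻¹ * v * (v⁻¹ * e) = u⁻¹ * e := by group
      rw [e1, hvv u hu] at h1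
      exact h1
  -- `g⁻¹ t g` is not central
  have hgt : ¬ Cen (T0 S E) (g⁻¹ * t * g) := by
    intro hc
    have h1 := htm g⁻¹ (inv_mem hgN)
    rw [inv_inv] at h1
    rcases h1 with h2 | h2 | h2
    · apply hgc
      have e : w = t := by
        rw [hw]
        calc g * t * g⁻¹ = g * (g⁻¹ * t * g) * g⁻¹ := by rw [h2]
          _ = t := by group
      rw [e]; exact htc
    · exact hgc (by rw [← h2]; exact hc)
    · apply hgc
      rw [h2] at hc
      have := htc.inv.mul hc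
      rwa [inv_mul_cancel_left] at this
  have hgtV : g⁻¹ * t * g ∈ om E := conj_mem_of_norm' (norm_om hgN) htV
  have hA : ∀ z ∈ E, Cen (T0 S E) z → Cen (T0 S E) (g⁻¹ * z * g) → z ∈ A := by
    intro z hz hzc hgz
    refine ⟨hz, fun m hm => ?_⟩
    rcases h.hE.sylow_cases hAI hconcl (norm_om hgN) hgP (norm_om (inv_mem hm)) with h1 | ⟨s, hsS, hsN, h1⟩
    · have h2 := h.hE.stab_inv hAI _ h1
      exact h.hE.stab_cen hAI hm (by
        have e : (⟨m, norm_om hm⟩ : NV E) = ⟨m⁻¹⁻¹, inv_mem (norm_om (inv_mem hm))⟩ := Subtype.ext (inv_inv m).symm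
        rw [e]; exact h2) hz hzc
    · have hm' : (s * g)⁻¹ * m⁻¹ ∈ normalizer (E : Set G) := mul_mem (inv_mem (mul_mem hsN hgN)) (inv_mem hm)
      have h2 := h.hE.stab_inv hAI (norm_om hm') h1
      have h3 := h.hE.stab_cen hAI (inv_mem hm') h2 (z := g⁻¹ * z * g) (conj_mem_of_norm' hgN hz) hgz
      have e : ((s * g)⁻¹ * m⁻¹)⁻¹ * (g⁻¹ * z * g) * ((s * g)⁻¹ * m⁻¹)⁻¹⁻¹ = m * z * m⁻¹ := by
        have h4 := hzc s ⟨hsS, hsN⟩
        calc ((s * g)⁻¹ * m⁻¹)⁻¹ * (g⁻¹ * z * g) * ((s * g)⁻¹ * m⁻¹)⁻¹⁻¹ = m * (s * z) * s⁻¹ * m⁻¹ := by group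
          _ = m * z * m⁻¹ := by rw [h4]; group
      rwa [e] at h3
  have hdec : ∀ e ∈ E, ∃ y, InW t w y ∧ y⁻¹ * e ∈ A := by
    -- step 2: central elements
    have step : ∀ z ∈ E, Cen (T0 S E) z → z ∈ A ∨ t * z ∈ A := by
      intro z hz hzc
      rcases hEZ _ (conj_mem_of_norm' hgN hz) _ hgtV hgt with h1 | h1
      · exact Or.inl (hA z hz hzc h1)
      · right
        refine hA _ (mul_mem (om_le _ htV) hz) (htc.mul hzc) ?_
        have e : g⁻¹ * (t * z) * g = g⁻¹ * t * g * (g⁻¹ * z * g) := by group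
        rw [e]; exact h1
    intro e he
    rcases hEZ e he w hwV hgc with h1 | h1
    · rcases step e he h1 with h2 | h2
      · exact ⟨1, Or.inl rfl, by rw [inv_one, one_mul]; exact h2⟩
      · exact ⟨t, Or.inr (Or.inl rfl), by rw [hvv t htV]; exact h2⟩
    · rcases step (w * e) (mul_mem (om_le _ hwV) he) h1 with h2 | h2
      · exact ⟨w, Or.inr (Or.inr (Or.inl rfl)), by rw [hvv w hwV]; exact h2⟩
      · refine ⟨t * w, Or.inr (Or.inr (Or.inr rfl)), ?_⟩
        rw [mul_inv_rev, hvv t htV, hvv w hwV, ← htw, mul_assoc]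
        exact h2
  exact ⟨t, w, A, h.hE, two, htV, hwV, ht1, htc, hgc, hcomm, hWinv, fun _ => Iff.rfl, hdec,
    fun h1 => hgc (h1.2 g hgN), g, hgN, hw⟩

end

end Cfsg.Agent.H305.Ess
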