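import Cfsg.Agent.H305.RankOneInter
import Cfsg.Agent.Walter.PSLFacts
import Cfsg.Agent.TwoFusion.SLTwoFacts

/-!
# Groups with trivially intersecting Sylow 2-subgroups, and the Janko-Ree type

`stronglyEmbedded_of_TI`: in a group whose Sylow 2-subgroups intersect trivially, the normalizer of a
non-normal, nontrivial Sylow 2-subgroup is strongly embedded.
`false_of_cent`: a group with abelian Sylow 2-subgroups of order 8, an involution centralizer
`Z₂ × PSL(2, q)`, `q ≡ 3, 5 mod 8`, `q ≥ 11` has two distinct Sylow 2-subgroups containing a four-group.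
-/

set_option autoImplicit false

namespace Cfsg.Agent.H305

open Pointwise

theorem exists_z2 : ∃ a : Multiplicative (ZMod 2), a ≠ 1 ∧ a * a = 1 :=
  ⟨Multiplicative.ofAdd 1, by decide, by decide⟩

theorem stronglyEmbedded_of_TI {K : Type*} [Group K] [Finite K] (S : Sylow 2 K)
    (hne : (S : Subgroup K) ≠ ⊥) (hnn : ¬ (S : Subgroup K).Normal)
    (hTI : ∀ T : Sylow 2 K, S ≠ T → (S : Subgroup K) ⊓ (T : Subgroup K) = ⊥) :
    Cfsg.IsStronglyEmbedded (Subgroup.normalizer ((S : Subgroup K) : Set K)) := by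
  have hfact : Fact (Nat.Prime 2) := ⟨Nat.prime_two⟩
  have h2S : 2 ∣ Nat.card ↥(S : Subgroup K) := by
    obtain ⟨n, hn⟩ := S.isPGroup'.exists_card_eq
    rw [hn]
    refine dvd_pow_self 2 ?_
    rintro rfl
    rw [pow_zero] at hn
    exact hne (Subgroup.card_eq_one.1 hn)
  refine ⟨?_, ?_, ?_⟩
  · intro htop
    exact hnn (Subgroup.normalizer_eq_top_iff.1 htop)
  · rw [even_iff_two_dvd]
    exact h2S.trans (Subgroup.card_dvd_of_le Subgroup.le_normalizer)
  · intro g hg
    rw [← Nat.not_even_iff_odd, even_iff_two_dvd]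
    intro h2
    obtain ⟨x, hx⟩ := exists_prime_orderOf_dvd_card' 2 h2
    have hx2 : (x : K) ^ 2 ^ 1 = 1 := by
      have h5 := orderOf_dvd_iff_pow_eq_one.1 (show orderOf x ∣ 2 by rw [hx])
      have h6 : (x : K) ^ 2 = 1 := congrArg Subtype.val h5
      rw [pow_one]; exact h6
    have hx1 : (x : K) ≠ 1 := by
      intro h
      have : x = 1 := Subtype.ext h
      rw [this, orderOf_one] at hx
      norm_num at hx
    have hxS : (x : K) ∈ (S : Subgroup K) :=
      Cfsg.Agent.Walter.PSLFacts.mem_of_pow S x.2.1 hx2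
    obtain ⟨y, hy, hyx⟩ := x.2.2
    have hyx' : g * y * g⁻¹ = x := hyx
    have hy2 : y ^ 2 ^ 1 = 1 := by
      have h1 : y = g⁻¹ * x * g := by rw [← hyx']; group
      have h3 : (x : K) * x = 1 := by simpa [pow_two] using hx2
      rw [h1]
      simp only [pow_one, pow_two]
      calc g⁻¹ * (x : K) * g * (g⁻¹ * x * g) = g⁻¹ * ((x : K) * x) * g := by group
        _ = 1 := by rw [h3]; group
    have hyS : y ∈ (S : Subgroup K) := Cfsg.Agent.Walter.PSLFacts.mem_of_pow S hy hy2
    have hxT : (x : K) ∈ ((g • S : Sylow 2 K) : Subgroup K) := by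
      rw [Sylow.coe_subgroup_smul]
      exact ⟨y, hyS, hyx⟩
    have hST : S ≠ g • S := by
      intro h
      exact hg (Sylow.smul_eq_iff_mem_normalizer.1 h.symm)
    have := hTI _ hST
    have h4 : (x : K) ∈ (S : Subgroup K) ⊓ ((g • S : Sylow 2 K) : Subgroup K) := ⟨hxS, hxT⟩
    rw [this, Subgroup.mem_bot] at h4
    exact hx1 h4

section

variable {G : Type*} [Group G] [Finite G]

/-- The Janko-Ree configuration with `q ≥ 11` contradicts the rank one condition. -/
theorem false_of_cent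
    (h : ∀ S T : Sylow 2 G, S ≠ T →
      ((S : Subgroup G) ⊓ (T : Subgroup G) = ⊥ ∨
        ∃ z ∈ (S : Subgroup G) ⊓ (T : Subgroup G), orderOf z = 2 ∧
          ∃ U : Sylow 2 G, z ∈ (Subgroup.center ↥(U : Subgroup G)).map (U : Subgroup G).subtype) →
      Cfsg.PRankLE 2 1 ↥((S : Subgroup G) ⊓ (T : Subgroup G)))
    (hab : ∀ P : Sylow 2 G, ∀ a ∈ (P : Subgroup G), ∀ b ∈ (P : Subgroup G), a * b = b * a)
    (h8 : ∀ P : Sylow 2 G, Nat.card ↥(P : Subgroup G) = 8)
    {F : Type} [Field F] [Fintype F]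
    (hq8 : Fintype.card F % 8 = 3 ∨ Fintype.card F % 8 = 5) (h11 : 11 ≤ Fintype.card F)
    (hB : Cfsg.Agent.Walter.AutFacts.Bender (Matrix.ProjectiveSpecialLinearGroup (Fin 2) F))
    (t : G)
    (e : Subgroup.centralizer ({t} : Set G) ≃*
      Multiplicative (ZMod 2) × Matrix.ProjectiveSpecialLinearGroup (Fin 2) F) : False := by
  have hfact : Fact (Nat.Prime 2) := ⟨Nat.prime_two⟩
  set K := Matrix.ProjectiveSpecialLinearGroup (Fin 2) F with hK
  have hsimp : IsSimpleGroup K := Cfsg.Agent.TwoFusion.SLTwoFacts.isSimpleGroup_psl (by omega)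
  have hKfin : Finite K := by
    have hfin : Finite (Multiplicative (ZMod 2) × K) := Finite.of_equiv _ e.toEquiv
    exact Finite.of_injective (fun k : K => ((1, k) : Multiplicative (ZMod 2) × K))
      (fun a b hab => (Prod.ext_iff.1 hab).2)
  -- the embedding of the direct product
  let ι : Multiplicative (ZMod 2) × K →* G := (Subgroup.subtype _).comp e.symm.toMonoidHom
  have hι : Function.Injective ι :=
    (Subgroup.subtype_injective _).comp e.symm.injective
  -- the Sylow subgroup attached to a Sylow subgroup of `K`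
  have hcardK : ∀ Q : Sylow 2 K, Nat.card ↥(Q : Subgroup K) = 4 := fun Q =>
    (Cfsg.Agent.Walter.PSLFacts.odd_facts hq8 (MulEquiv.refl K) Q).2.1
  have hP : ∀ Q : Sylow 2 K, ∃ P : Sylow 2 G,
      (P : Subgroup G) = ((⊤ : Subgroup (Multiplicative (ZMod 2))).prod (Q : Subgroup K)).map ι := by
    intro Q
    have hcard : Nat.card ↥(((⊤ : Subgroup (Multiplicative (ZMod 2))).prod (Q : Subgroup K)).map ι) = 8 := by
      rw [Subgroup.card_map_of_injective hι]
      rw [Nat.card_congr ((⊤ : Subgroup (Multiplicative (ZMod 2))).prodEquiv (Q : Subgroup K)).toEquiv,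
        Nat.card_prod, hcardK Q]
      simp
    have hp : IsPGroup 2 ↥(((⊤ : Subgroup (Multiplicative (ZMod 2))).prod (Q : Subgroup K)).map ι) :=
      IsPGroup.of_card (n := 3) (by rw [hcard]; norm_num)
    obtain ⟨P, hP⟩ := hp.exists_le_sylow
    refine ⟨P, ?_⟩
    exact (Subgroup.eq_of_le_of_card_ge hP (by rw [h8 P, hcard])).symm
  let S : Sylow 2 K := default
  have hSne : (S : Subgroup K) ≠ ⊥ := by
    intro hbot
    have := hcardK S
    rw [hbot, Subgroup.card_bot] at this
    norm_num at this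
  -- `K` has trivially intersecting Sylow subgroups
  have hTI : ∀ T : Sylow 2 K, S ≠ T → (S : Subgroup K) ⊓ (T : Subgroup K) = ⊥ := by
    intro T hST
    rw [eq_bot_iff]
    intro k hk
    rw [Subgroup.mem_bot]
    by_contra hk1
    apply hST
    obtain ⟨P, hP1⟩ := hP S
    obtain ⟨R, hR1⟩ := hP T
    have hkk : k * k = 1 :=
      (Cfsg.Agent.Walter.PSLFacts.odd_facts hq8 (MulEquiv.refl K) S).1 k hk.1
    obtain ⟨a, ha1, haa⟩ := exists_z2
    have hPR : P = R := by
      refine sylow_unique h (z := ι (a, 1)) (y := ι (1, k)) ?_ ?_ ?_ ?_ ?_ ?_ ?_ P R ?_ ?_ ?_ ?_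
      · rw [← map_mul, Prod.mk_mul_mk, haa, one_mul]; exact map_one ι
      · intro h1
        rw [← map_one ι] at h1
        exact ha1 (Prod.ext_iff.1 (hι h1)).1
      · rw [← map_mul, Prod.mk_mul_mk, hkk, one_mul]; exact map_one ι
      · intro h1
        rw [← map_one ι] at h1
        exact hk1 (Prod.ext_iff.1 (hι h1)).2
      · intro h1
        exact ha1 (Prod.ext_iff.1 (hι h1)).1
      · rw [← map_mul, ← map_mul, Prod.mk_mul_mk, Prod.mk_mul_mk]; simp
      · refine ⟨P, mem_centerMap.2 ⟨?_, ?_⟩⟩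
        · rw [hP1]; exact ⟨(a, 1), ⟨Subgroup.mem_top _, Subgroup.one_mem _⟩, rfl⟩
        · intro y hy
          refine hab P _ hy _ ?_
          rw [hP1]; exact ⟨(a, 1), ⟨Subgroup.mem_top _, Subgroup.one_mem _⟩, rfl⟩
      · rw [hP1]; exact ⟨(a, 1), ⟨Subgroup.mem_top _, Subgroup.one_mem _⟩, rfl⟩
      · rw [hP1]; exact ⟨(1, k), ⟨Subgroup.mem_top _, hk.1⟩, rfl⟩
      · rw [hR1]; exact ⟨(a, 1), ⟨Subgroup.mem_top _, Subgroup.one_mem _⟩, rfl⟩
      · rw [hR1]; exact ⟨(1, k), ⟨Subgroup.mem_top _, hk.2⟩, rfl⟩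
    apply Sylow.ext
    ext x
    have key : ∀ (U : Sylow 2 K) (V : Sylow 2 G)
        (_ : (V : Subgroup G) = ((⊤ : Subgroup (Multiplicative (ZMod 2))).prod (U : Subgroup K)).map ι),
        x ∈ (U : Subgroup K) ↔ ι (1, x) ∈ (V : Subgroup G) := by
      intro U V hV
      rw [hV]
      constructor
      · intro hx; exact ⟨(1, x), ⟨Subgroup.mem_top _, hx⟩, rfl⟩
      · rintro ⟨y, hy, hyx⟩
        have := hι hyx
        rw [this] at hy
        exact hy.2
    rw [key S P hP1, key T R hR1, hPR]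
  have hnn : ¬ (S : Subgroup K).Normal := by
    intro hn
    rcases hsimp.eq_bot_or_eq_top_of_normal _ hn with h1 | h1
    · exact hSne h1
    · have h2 := hcardK S
      rw [h1, Subgroup.card_top] at h2
      have hodd : Odd (Fintype.card F) := by rw [Nat.odd_iff]; omega
      have h4 := Cfsg.Agent.SmallSimple.PSLTwoPart.card_psl_two_odd hodd
      rw [h2] at h4
      have h9 : 11 ^ 2 ≤ Fintype.card F ^ 2 := Nat.pow_le_pow_left h11 2
      have h10 : 11 * 120 ≤ Fintype.card F * (Fintype.card F ^ 2 - 1) :=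
        Nat.mul_le_mul h11 (by omega)
      omega
  exact Cfsg.Agent.Walter.PSLFacts.odd_not_stronglyEmbedded hq8 h11 (MulEquiv.refl K) hB _
    (stronglyEmbedded_of_TI S hSne hnn hTI)

end

end Cfsg.Agent.H305
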