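import Cfsg.Agent.H516.OddFrame
import Cfsg.Agent.H547.SelfCent.Tits
import Cfsg.Agent.H393.Iso.TitsJ4
import Cfsg.Agent.NotCT.Orders

/-!
# S4094-S4096: the odd row of the Tits group (helper305)
-/

set_option autoImplicit false

namespace Cfsg.Agent.H305.OddTits

open Subgroup Cfsg Cfsg.Agent.H516

universe u

/-- **The Tits group.** -/
theorem row {L : Type u} [Group L] [Finite L] (h : Lie.IsoTits L) {p : ℕ} {a : MulAut L} {b : L}
    (S : Cfsg.Agent.H516.Sit p a b) : False := by
  have hN := NotCT.Orders.tits h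
  have hs : IsSimpleGroup L := S.good.simple
  have h13 : ∀ y : L, orderOf y = 13 → Nat.card (centralizer ({y} : Set L)) = 13 := fun y hy =>
    H547.SelfCent.tits h inferInstance (H393.Iso.na_tits h) hy
  have h1 : Nat.card (fixedSubgroup a) ∣ 2 ^ 11 * 8775 := by
    have := Subgroup.card_subgroup_dvd_card (fixedSubgroup a)
    rwa [hN] at this
  have h2 : Nat.card (fixedSubgroup a) ∣ 8775 :=
    (Nat.Coprime.pow_right 11 (Nat.coprime_two_right.2 S.odd)).dvd_of_dvd_mul_left h1
  have h3 : 2 ^ 11 ≤ Nat.card (fixedSubgroup a) := S.two_pow_le (by rw [hN]; norm_num)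
  have hb13 : orderOf b ≠ 13 := by
    intro hb
    have h4 := Nat.le_of_dvd (by norm_num) ((h13 b hb) ▸ Subgroup.card_dvd_of_le S.le)
    omega
  have h5 : ¬ 13 ∣ Nat.card (fixedSubgroup a) := by
    intro hd
    have : Fact (Nat.Prime 13) := ⟨by norm_num⟩
    obtain ⟨y, hy⟩ := exists_prime_orderOf_dvd_card' (G := fixedSubgroup a) 13 hd
    have hy' : orderOf (y : L) = 13 := by rw [Subgroup.orderOf_coe]; exact hy
    have hyb : b ∈ centralizer ({(y : L)} : Set L) := by
      rw [mem_centralizer_singleton_iff]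
      exact (mem_centralizer_singleton_iff.1 (S.le y.2)).symm
    have h6 : orderOf b ∣ 13 := by
      rw [← h13 y hy', ← Subgroup.orderOf_mk b hyb]
      exact orderOf_dvd_natCard _
    rcases (Nat.dvd_prime (by norm_num)).1 h6 with h7 | h7
    · have := S.bprime
      rw [h7] at this
      exact Nat.not_prime_one this
    · exact hb13 h7
  have h6 : Nat.card (fixedSubgroup a) ∣ 675 :=
    (Nat.Coprime.dvd_of_dvd_mul_left ((Nat.Prime.coprime_iff_not_dvd (by norm_num)).2 h5).symm
      (by rw [show 13 * 675 = 8775 by norm_num]; exact h2))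
  have := Nat.le_of_dvd (by norm_num) h6
  omega

end Cfsg.Agent.H305.OddTits
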