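import Cfsg.Prelude.Def_TwoFusion
import Cfsg.Prelude.Def_Involutions
import Cfsg.Prelude.Def_CaseTheorems
import Cfsg.Agent.H305.CentralInter
import Mathlib.GroupTheory.SpecificGroups.Cyclic

/-!
# Central Sylow 2-intersections of rank one

If every central intersection of two distinct Sylow 2-subgroups (trivial, or containing a 2-central
involution) has 2-rank at most one, then `Ω₁(Z(S))` is strongly closed in the Sylow 2-subgroup `S`.
-/

set_option autoImplicit false

namespace Cfsg.Agent.H305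

open Pointwise

/-- two distinct commuting involutions exclude rank one -/
theorem not_pRankLE_one {P : Type*} [Group P] [Finite P] {z y : P} (hz : z * z = 1) (hy : y * y = 1)
    (hz1 : z ≠ 1) (hy1 : y ≠ 1) (hne : z ≠ y) (hc : z * y = y * z) : ¬ Cfsg.PRankLE 2 1 P := by
  intro h
  have hcomm : ∀ x ∈ ({z, y} : Set P), ∀ w ∈ ({z, y} : Set P), x * w = w * x := by
    intro x hx w hw
    simp only [Set.mem_insert_iff, Set.mem_singleton_iff] at hx hw
    rcases hx with rfl | rfl <;> rcases hw with rfl | rfl <;> simp [hc]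
  have hA : IsMulCommutative (Subgroup.closure ({z, y} : Set P)) :=
    Subgroup.isMulCommutative_closure hcomm
  have hsq : ∀ a ∈ Subgroup.closure ({z, y} : Set P), a ^ 2 = 1 := by
    intro a ha
    induction ha using Subgroup.closure_induction with
    | mem x hx =>
      simp only [Set.mem_insert_iff, Set.mem_singleton_iff] at hx
      rcases hx with rfl | rfl
      · rw [pow_two, hz]
      · rw [pow_two, hy]
    | one => simp
    | mul a b ha hb iha ihb =>
      have hab : Commute a b := congrArg Subtype.val (hA.is_comm.comm ⟨a, ha⟩ ⟨b, hb⟩)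
      rw [hab.mul_pow, iha, ihb, one_mul]
    | inv a ha iha => rw [inv_pow, iha, inv_one]
  have hcard := h _ hA hsq
  have hz' : z ∈ Subgroup.closure ({z, y} : Set P) := Subgroup.subset_closure (by simp)
  have hy' : y ∈ Subgroup.closure ({z, y} : Set P) := Subgroup.subset_closure (by simp)
  have hsub : ({1, z, y} : Set P) ⊆ (Subgroup.closure ({z, y} : Set P) : Set P) := by
    intro x hx
    simp only [Set.mem_insert_iff, Set.mem_singleton_iff] at hx
    rcases hx with rfl | rfl | rfl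
    · exact Subgroup.one_mem _
    · exact hz'
    · exact hy'
  have h3 : ({1, z, y} : Set P).ncard = 3 := Set.ncard_eq_three.2 ⟨1, z, y, hz1.symm, hy1.symm, hne, rfl⟩
  have h4 := Set.ncard_le_ncard hsub (Set.toFinite _)
  rw [h3] at h4
  have h5 : ((Subgroup.closure ({z, y} : Set P) : Set P)).ncard =
      Nat.card ↥(Subgroup.closure ({z, y} : Set P)) := rfl
  rw [h5] at h4
  norm_num at hcard
  omega

variable {G : Type*} [Group G]

/-- `Ω₁(Z(S))`. -/
def invCenter (S : Subgroup G) : Subgroup G where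
  carrier := {z | z ∈ S ∧ (∀ y ∈ S, y * z = z * y) ∧ z * z = 1}
  one_mem' := ⟨S.one_mem, fun y _ => by simp, by simp⟩
  mul_mem' := by
    rintro a b ⟨ha, hac, ha2⟩ ⟨hb, hbc, hb2⟩
    refine ⟨S.mul_mem ha hb, fun y hy => ?_, ?_⟩
    · rw [← mul_assoc, hac y hy, mul_assoc, hbc y hy, mul_assoc]
    · calc a * b * (a * b) = a * (b * a) * b := by group
        _ = a * (a * b) * b := by rw [hac b hb]
        _ = (a * a) * (b * b) := by group
        _ = 1 := by rw [ha2, hb2, one_mul]
  inv_mem' := by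
    rintro a ⟨ha, hac, ha2⟩
    have : a⁻¹ = a := inv_eq_of_mul_eq_one_left ha2
    rw [this]
    exact ⟨ha, hac, ha2⟩

theorem mem_invCenter {S : Subgroup G} {z : G} :
    z ∈ invCenter S ↔ z ∈ S ∧ (∀ y ∈ S, y * z = z * y) ∧ z * z = 1 := Iff.rfl

theorem invCenter_le (S : Subgroup G) : invCenter S ≤ S := fun _ h => h.1

variable [Finite G]

theorem invCenter_ne_bot (S : Sylow 2 G) (h2 : 2 ∣ Nat.card G) : invCenter (S : Subgroup G) ≠ ⊥ := by
  have hfact : Fact (Nat.Prime 2) := ⟨Nat.prime_two⟩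
  have hS : (S : Subgroup G) ≠ ⊥ := S.ne_bot_of_dvd_card h2
  have hnt : Nontrivial ↥(S : Subgroup G) := (Subgroup.nontrivial_iff_ne_bot _).2 hS
  have hc : Nontrivial (Subgroup.center ↥(S : Subgroup G)) := S.isPGroup'.center_nontrivial
  have hcp : IsPGroup 2 (Subgroup.center ↥(S : Subgroup G)) :=
    S.isPGroup'.to_subgroup _
  obtain ⟨n, hn⟩ := hcp.exists_card_eq
  have hn0 : n ≠ 0 := by
    rintro rfl
    rw [pow_zero] at hn
    have := Nat.card_eq_one_iff_unique.1 hn
    exact (not_subsingleton_iff_nontrivial.2 hc) this.1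
  have hdvd : 2 ∣ Nat.card (Subgroup.center ↥(S : Subgroup G)) := by
    rw [hn]; exact dvd_pow_self 2 hn0
  obtain ⟨z, hz⟩ := exists_prime_orderOf_dvd_card' 2 hdvd
  have hzz : ((z : ↥(S : Subgroup G)) : G) * ((z : ↥(S : Subgroup G)) : G) = 1 := by
    have h1 : z ^ 2 = 1 := orderOf_dvd_iff_pow_eq_one.1 (by rw [hz])
    rw [pow_two] at h1
    have := congrArg (fun x : Subgroup.center ↥(S : Subgroup G) => ((x : ↥(S : Subgroup G)) : G)) h1
    simpa using this
  have hz1 : ((z : ↥(S : Subgroup G)) : G) ≠ 1 := by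
    intro h
    have : z = 1 := by
      apply Subtype.ext; apply Subtype.ext; simpa using h
    rw [this, orderOf_one] at hz
    norm_num at hz
  intro hbot
  have hmem : ((z : ↥(S : Subgroup G)) : G) ∈ invCenter (S : Subgroup G) := by
    refine ⟨z.1.2, ?_, hzz⟩
    intro y hy
    have := Subgroup.mem_center_iff.1 z.2 ⟨y, hy⟩
    exact congrArg Subtype.val this
  rw [hbot, Subgroup.mem_bot] at hmem
  exact hz1 hmem

omit [Finite G] in
theorem invCenter_comm (S : Subgroup G) : IsMulCommutative ↥(invCenter S) := by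
  refine ⟨⟨?_⟩⟩
  rintro ⟨a, ha⟩ ⟨b, hb⟩
  exact Subtype.ext (hb.2.1 a ha.1)

/-- A 2-central involution `z` and an involution `y ≠ z` commuting with it lie in at most one Sylow
2-subgroup. -/
theorem sylow_unique
    (h : ∀ S T : Sylow 2 G, S ≠ T →
      ((S : Subgroup G) ⊓ (T : Subgroup G) = ⊥ ∨
        ∃ z ∈ (S : Subgroup G) ⊓ (T : Subgroup G), orderOf z = 2 ∧
          ∃ U : Sylow 2 G, z ∈ (Subgroup.center ↥(U : Subgroup G)).map (U : Subgroup G).subtype) →
      Cfsg.PRankLE 2 1 ↥((S : Subgroup G) ⊓ (T : Subgroup G)))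
    {z y : G} (hz : z * z = 1) (hz1 : z ≠ 1) (hy : y * y = 1) (hy1 : y ≠ 1) (hne : z ≠ y)
    (hc : z * y = y * z)
    (hcent : ∃ U : Sylow 2 G, z ∈ (Subgroup.center ↥(U : Subgroup G)).map (U : Subgroup G).subtype)
    (S T : Sylow 2 G) (hzS : z ∈ (S : Subgroup G)) (hyS : y ∈ (S : Subgroup G))
    (hzT : z ∈ (T : Subgroup G)) (hyT : y ∈ (T : Subgroup G)) : S = T := by
  by_contra hST
  have hr := h S T hST (Or.inr ⟨z, ⟨hzS, hzT⟩, orderOf_eq_prime (by rw [pow_two, hz]) hz1, hcent⟩)
  refine not_pRankLE_one (z := (⟨z, ⟨hzS, hzT⟩⟩ : ↥((S : Subgroup G) ⊓ (T : Subgroup G))))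
    (y := ⟨y, ⟨hyS, hyT⟩⟩) (Subtype.ext hz) (Subtype.ext hy) ?_ ?_ ?_ (Subtype.ext hc) hr
  · intro h1; exact hz1 (congrArg Subtype.val h1)
  · intro h1; exact hy1 (congrArg Subtype.val h1)
  · intro h1; exact hne (congrArg Subtype.val h1)

/-- `Ω₁(Z(S))` is strongly closed in `S`. -/
theorem invCenter_stronglyClosed
    (h : ∀ S T : Sylow 2 G, S ≠ T →
      ((S : Subgroup G) ⊓ (T : Subgroup G) = ⊥ ∨
        ∃ z ∈ (S : Subgroup G) ⊓ (T : Subgroup G), orderOf z = 2 ∧
          ∃ U : Sylow 2 G, z ∈ (Subgroup.center ↥(U : Subgroup G)).map (U : Subgroup G).subtype) →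
      Cfsg.PRankLE 2 1 ↥((S : Subgroup G) ⊓ (T : Subgroup G)))
    (S : Sylow 2 G) : Cfsg.IsStronglyClosed (invCenter (S : Subgroup G)) (S : Subgroup G) := by
  have hfact : Fact (Nat.Prime 2) := ⟨Nat.prime_two⟩
  refine ⟨invCenter_le _, ?_⟩
  intro a ha g hb
  set b := g * a * g⁻¹ with hbdef
  have hbb : b * b = 1 := by
    calc b * b = g * (a * a) * g⁻¹ := by rw [hbdef]; group
      _ = 1 := by rw [ha.2.2]; group
  by_cases ha1 : a = 1
  · have : b = 1 := by rw [hbdef, ha1]; group
    rw [this]; exact Subgroup.one_mem _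
  have hb1 : b ≠ 1 := by
    intro h1
    apply ha1
    have : a = g⁻¹ * b * g := by rw [hbdef]; group
    rw [this, h1]; group
  by_cases hab : a = b
  · rw [← hab]; exact ha
  have hcab : a * b = b * a := (ha.2.1 b hb).symm
  -- the centre of `g • S`
  have hbT : b ∈ ((g • S : Sylow 2 G) : Subgroup G) := by
    rw [Sylow.coe_subgroup_smul]
    exact ⟨a, ha.1, by simp [hbdef, MulAut.conj_apply]⟩
  have hbTc : ∀ y ∈ ((g • S : Sylow 2 G) : Subgroup G), y * b = b * y := by
    intro y hy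
    rw [Sylow.coe_subgroup_smul] at hy
    obtain ⟨x, hx, rfl⟩ := hy
    have := ha.2.1 x hx
    simp only [MulDistribMulAction.toMonoidEnd_apply, MulDistribMulAction.toMonoidHom_apply,
      MulAut.smul_def, MulAut.conj_apply]
    calc g * x * g⁻¹ * b = g * (x * a) * g⁻¹ := by rw [hbdef]; group
      _ = g * (a * x) * g⁻¹ := by rw [this]
      _ = b * (g * x * g⁻¹) := by rw [hbdef]; group
  set C : Subgroup G := Subgroup.centralizer ({b} : Set G) with hC
  have hTC : ((g • S : Sylow 2 G) : Subgroup G) ≤ C := fun y hy =>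
    Subgroup.mem_centralizer_singleton_iff.2 (hbTc y hy)
  have hzp : IsPGroup 2 ↥(Subgroup.zpowers a) := S.isPGroup'.to_le (by
    rw [Subgroup.zpowers_le]; exact ha.1)
  have hzC : Subgroup.zpowers a ≤ C := by
    rw [Subgroup.zpowers_le]
    exact Subgroup.mem_centralizer_singleton_iff.2 hcab
  obtain ⟨c, hc, hle⟩ := exists_conj_ge C (g • S) hTC _ hzp hzC
  have haU : a ∈ ((c • g • S : Sylow 2 G) : Subgroup G) := hle (Subgroup.mem_zpowers a)
  have hcb : c * b * c⁻¹ = b := by
    have := Subgroup.mem_centralizer_singleton_iff.1 hc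
    rw [this]; group
  have hbU : b ∈ ((c • g • S : Sylow 2 G) : Subgroup G) := by
    rw [Sylow.coe_subgroup_smul]
    refine ⟨b, hbT, ?_⟩
    simp only [MulDistribMulAction.toMonoidEnd_apply, MulDistribMulAction.toMonoidHom_apply,
      MulAut.smul_def, MulAut.conj_apply]
    exact hcb
  have hbUc : ∀ y ∈ ((c • g • S : Sylow 2 G) : Subgroup G), y * b = b * y := by
    intro y hy
    have : y ∈ C := Sylow.smul_le (P := g • S) hTC ⟨c, hc⟩ hy
    exact Subgroup.mem_centralizer_singleton_iff.1 this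
  have hcent : ∃ U : Sylow 2 G, a ∈ (Subgroup.center ↥(U : Subgroup G)).map (U : Subgroup G).subtype :=
    ⟨S, mem_centerMap.2 ⟨ha.1, ha.2.1⟩⟩
  have hSU := sylow_unique h ha.2.2 ha1 hbb hb1 hab hcab hcent S (c • g • S) ha.1 hb haU hbU
  refine ⟨hb, ?_, hbb⟩
  intro y hy
  exact hbUc y (hSU ▸ hy)

end Cfsg.Agent.H305
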