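import Cfsg.Agent.H305.JRExcl
import Cfsg.Agent.Walter.Main
import Cfsg.Prelude.Def_Sz
import Cfsg.Prelude.Def_Sporadic
import Mathlib.FieldTheory.Finite.GaloisField

/-!
# Simple groups whose central Sylow 2-intersections have rank at most one

Assembly relative to Goldschmidt's strongly closed abelian theorem, Bender's theorem and the theorem on
simple groups with abelian Sylow 2-subgroups.
-/

set_option autoImplicit false

namespace Cfsg.Agent.H305

open Cfsg Cfsg.Agent.Walter.Types Cfsg.Agent.Walter.Main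

universe u

theorem exists_field_four : ∃ (F : Type) (_ : Field F) (_ : Fintype F), Fintype.card F = 4 := by
  haveI : Fact (Nat.Prime 2) := ⟨Nat.prime_two⟩
  refine ⟨GaloisField 2 2, inferInstance, Fintype.ofFinite _, ?_⟩
  rw [Fintype.card_eq_nat_card, GaloisField.card 2 2 (by norm_num)]
  norm_num

/-- `PSL(2, 5) ≅ PSL(2, 4)`. -/
theorem psl_five {F : Type} [Field F] [Fintype F] (hF : Fintype.card F = 5) :
    ∃ (E : Type) (_ : Field E) (_ : Fintype E), Fintype.card E = 2 ^ 2 ∧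
      Nonempty (Matrix.ProjectiveSpecialLinearGroup (Fin 2) F ≃*
        Matrix.ProjectiveSpecialLinearGroup (Fin 2) E) := by
  obtain ⟨E, i1, i2, hE⟩ := exists_field_four
  refine ⟨E, i1, i2, by rw [hE]; norm_num, ?_⟩
  have c1 : Nat.card (Matrix.ProjectiveSpecialLinearGroup (Fin 2) E) = 60 := by
    rw [ClassicalGeometry.PSL2Basic.card_PSL2_even E (by rw [hE]; decide), hE]
    norm_num
  have c2 : Nat.card (Matrix.ProjectiveSpecialLinearGroup (Fin 2) F) = 60 := by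
    have h := ClassicalGeometry.PSL2Basic.card_PSL2_odd F (by rw [hF]; decide)
    rw [hF] at h
    omega
  obtain ⟨f⟩ := Cfsg.Agent.Walter.TypeSylow.equiv_alternating (F' := E) (by rw [hE]; norm_num) c1
  obtain ⟨g⟩ := Cfsg.Agent.Walter.TypeSylow.equiv_alternating (F' := F) (by rw [hF]; norm_num) c2
  exact ⟨g.trans f.symm⟩

/-- `PSL(2, q)`, `q` odd and at least `11`, is not commutative. -/
theorem psl_noncomm {F : Type} [Field F] [Fintype F] (hodd : Odd (Fintype.card F))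
    (h11 : 11 ≤ Fintype.card F) :
    ∃ a b : Matrix.ProjectiveSpecialLinearGroup (Fin 2) F, a * b ≠ b * a := by
  by_contra hcon
  push Not at hcon
  have hs : IsSimpleGroup (Matrix.ProjectiveSpecialLinearGroup (Fin 2) F) :=
    Cfsg.Agent.TwoFusion.SLTwoFacts.isSimpleGroup_psl (by omega)
  have h4 := Cfsg.Agent.SmallSimple.PSLTwoPart.card_psl_two_odd hodd
  have h9 : 11 ^ 2 ≤ Fintype.card F ^ 2 := Nat.pow_le_pow_left h11 2
  have h10 : 11 * 120 ≤ Fintype.card F * (Fintype.card F ^ 2 - 1) :=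
    Nat.mul_le_mul h11 (by omega)
  have hpos : 660 ≤ Nat.card (Matrix.ProjectiveSpecialLinearGroup (Fin 2) F) := by omega
  haveI : Finite (Matrix.ProjectiveSpecialLinearGroup (Fin 2) F) :=
    Nat.finite_of_card_ne_zero (by omega)
  letI : CommGroup (Matrix.ProjectiveSpecialLinearGroup (Fin 2) F) :=
    { (inferInstance : Group (Matrix.ProjectiveSpecialLinearGroup (Fin 2) F)) with
      mul_comm := hcon }
  have hp : (Nat.card (Matrix.ProjectiveSpecialLinearGroup (Fin 2) F)).Prime :=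
    IsSimpleGroup.prime_card
  have hd : 3 ∣ Fintype.card F * (Fintype.card F ^ 2 - 1) := by
    have h0 : Fintype.card F * (Fintype.card F ^ 2 - 1) = 
        (Fintype.card F - 1) * Fintype.card F * (Fintype.card F + 1) := by
      obtain ⟨k, hk⟩ : ∃ k, Fintype.card F = k + 1 := ⟨Fintype.card F - 1, by omega⟩
      rw [hk]
      have : (k + 1) ^ 2 - 1 = k * (k + 2) := by
        rw [Nat.sub_eq_iff_eq_add (Nat.one_le_pow _ _ (by omega))]; ring
      rw [this]
      simp only [Nat.add_sub_cancel]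
      ring
    rw [h0]
    generalize Fintype.card F = n at *
    have : n % 3 = 0 ∨ n % 3 = 1 ∨ n % 3 = 2 := by omega
    rcases this with h | h | h
    · exact Dvd.dvd.mul_right (Dvd.dvd.mul_left (Nat.dvd_of_mod_eq_zero h) _) _
    · exact Dvd.dvd.mul_right (Dvd.dvd.mul_right (Nat.dvd_of_mod_eq_zero (by omega)) _) _
    · exact Dvd.dvd.mul_left (Nat.dvd_of_mod_eq_zero (by omega)) _
  have h3 : 3 ∣ Nat.card (Matrix.ProjectiveSpecialLinearGroup (Fin 2) F) := by omega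
  rcases (Nat.dvd_prime hp).1 h3 with h | h <;> omega

/-- The main theorem, relative to its parents. -/
theorem rankOne_main {G : Type u} [Group G] [Finite G] [IsSimpleGroup G]
    (h2 : 2 ∣ Nat.card G)
    (hGold : ∀ (S : Sylow 2 G) (A : Subgroup G), A ≠ ⊥ → IsMulCommutative A →
      Cfsg.IsStronglyClosed A (S : Subgroup G) →
      IsMulCommutative (S : Subgroup G) ∨ ∃ H : Subgroup G, Cfsg.IsStronglyEmbedded H)
    (hSE : (∃ M : Subgroup G, IsStronglyEmbedded M) →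
      (∃ (F : Type) (_ : Field F) (_ : Fintype F), (∃ n : ℕ, 2 ≤ n ∧ Fintype.card F = 2 ^ n) ∧
          Nonempty (G ≃* Matrix.ProjectiveSpecialLinearGroup (Fin 2) F)) ∨
        Cfsg.Lie.IsoSuzuki G ∨
        (∃ (F : Type) (_ : Field F) (_ : Fintype F) (n : ℕ), 2 ≤ n ∧
          Fintype.card F = (2 ^ n) ^ 2 ∧ Nonempty (G ≃* Cfsg.PSU 3 F (2 ^ n))))
    (hW : ∀ S : Sylow 2 G, (∀ a ∈ (S : Subgroup G), ∀ b ∈ (S : Subgroup G), a * b = b * a) →
      WType G)
    (hC : CentThm.{u})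
    (hB : ∀ (F : Type) [Field F] [Fintype F],
      (Fintype.card F % 8 = 3 ∨ Fintype.card F % 8 = 5) → 11 ≤ Fintype.card F →
      Cfsg.Agent.Walter.AutFacts.Bender (Matrix.ProjectiveSpecialLinearGroup (Fin 2) F))
    (h : ∀ S T : Sylow 2 G, S ≠ T →
      ((S : Subgroup G) ⊓ (T : Subgroup G) = ⊥ ∨
        ∃ z ∈ (S : Subgroup G) ⊓ (T : Subgroup G), orderOf z = 2 ∧
          ∃ U : Sylow 2 G, z ∈ (Subgroup.center ↥(U : Subgroup G)).map (U : Subgroup G).subtype) →
      Cfsg.PRankLE 2 1 ↥((S : Subgroup G) ⊓ (T : Subgroup G))) :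
    (∃ (n : ℕ) (F : Type) (_ : Field F) (_ : Fintype F), 2 ≤ n ∧ Fintype.card F = 2 ^ n ∧
        Nonempty (G ≃* Matrix.ProjectiveSpecialLinearGroup (Fin 2) F)) ∨
    (∃ (m : ℕ) (F : Type) (_ : Field F) (_ : Fintype F), 1 ≤ m ∧ Fintype.card F = 2 ^ (2 * m + 1) ∧
        Nonempty (G ≃* ↥(Cfsg.Lie.Sz F (2 ^ (m + 1))))) ∨
    (∃ (n : ℕ) (F : Type) (_ : Field F) (_ : Fintype F), 2 ≤ n ∧ Fintype.card F = 4 ^ n ∧
        Nonempty (G ≃* Cfsg.PSU 3 F (2 ^ n))) ∨
    (∃ (F : Type) (_ : Field F) (_ : Fintype F), (Fintype.card F % 8 = 3 ∨ Fintype.card F % 8 = 5) ∧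
        5 < Fintype.card F ∧ Nonempty (G ≃* Matrix.ProjectiveSpecialLinearGroup (Fin 2) F)) ∨
    Cfsg.IsJ1 G := by
  let S : Sylow 2 G := default
  rcases hGold S (invCenter (S : Subgroup G)) (invCenter_ne_bot S h2) (invCenter_comm _)
    (invCenter_stronglyClosed h S) with hab | hse
  · have hS := comm_of_isMulCommutative hab
    rcases hW S hS with ⟨F, i1, i2, n, hn, hF, he⟩ | ⟨F, i1, i2, hF, h5, ⟨e⟩⟩ | hJ
    · exact Or.inl ⟨n, F, i1, i2, hn, hF, he⟩
    · by_cases hF5 : Fintype.card F = 5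
      · obtain ⟨E, j1, j2, hE, ⟨f⟩⟩ := psl_five hF5
        exact Or.inl ⟨2, E, j1, j2, le_rfl, hE, ⟨e.trans f⟩⟩
      · exact Or.inr (Or.inr (Or.inr (Or.inl ⟨F, i1, i2, hF, by omega, ⟨e⟩⟩)))
    · have h8 : ∀ P : Sylow 2 G, Nat.card ↥(P : Subgroup G) = 8 := fun P =>
        (Cfsg.Agent.Walter.TypeSylow.card_sylow_JR hJ P).1
      have hall : ∀ P : Sylow 2 G, ∀ a ∈ (P : Subgroup G), ∀ b ∈ (P : Subgroup G), a * b = b * a := by
        intro P a ha b hb
        have := all_comm hS P ⟨a, ha⟩ ⟨b, hb⟩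
        exact congrArg Subtype.val this
      obtain ⟨-, F, i1, i2, h35, hq, hc⟩ := hJ
      obtain ⟨t, ht⟩ : ∃ t : G, orderOf t = 2 := by
        haveI : Fact (Nat.Prime 2) := ⟨Nat.prime_two⟩
        exact exists_prime_orderOf_dvd_card' 2 h2
      rcases hC G (all_comm hS) F (by omega) t ht (hc t ht) with ⟨m, hm, hcF, hcard⟩ | ⟨-, hJ1⟩
      · exfalso
        obtain ⟨e⟩ := hc t ht
        have h11 : 11 ≤ Fintype.card F := by
          rw [hcF]
          calc 11 ≤ 3 ^ (2 * 1 + 1) := by norm_num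
            _ ≤ 3 ^ (2 * m + 1) := Nat.pow_le_pow_right (by norm_num) (by omega)
        exact false_of_cent h hall h8 h35 h11 (hB F h35 h11) t e
      · exact Or.inr (Or.inr (Or.inr (Or.inr hJ1)))
  · rcases hSE hse with ⟨F, i1, i2, ⟨n, hn, hF⟩, he⟩ | ⟨F, i1, i2, m, hm, hF, he⟩ |
      ⟨F, i1, i2, n, hn, hF, he⟩
    · exact Or.inl ⟨n, F, i1, i2, hn, hF, he⟩
    · exact Or.inr (Or.inl ⟨m, F, i1, i2, hm, hF, he⟩)
    · refine Or.inr (Or.inr (Or.inl ⟨n, F, i1, i2, hn, ?_, he⟩))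
      rw [hF, ← pow_mul, mul_comm n 2, pow_mul]; norm_num

end Cfsg.Agent.H305
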