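import Cfsg.Agent.H940.EngData
import Cfsg.Agent.H940.EngLoc
import Cfsg.Agent.KFacts.J2.Facts
import Cfsg.Agent.J2Type.FiveFus
import Cfsg.Agent.J2Type.ThreeF
import Cfsg.Agent.S1624
import Cfsg.Agent.S1620
import Cfsg.Agent.H305.SepJ1

/-!
# Row `J2` of S5906/S5907 (helper305)

The normalizers of the Sylow subgroups for 5, 7, the normalizer of the centre of a Sylow 3-subgroup, `U₃(3)`, the
centralizer of a 2-central involution.
-/

set_option autoImplicit false
set_option linter.style.haveILetI false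

namespace Cfsg.Agent.H305.SepJ2

open Subgroup Cfsg.Agent.OrdDiv Cfsg.Agent.H940 Cfsg.Agent.H940.Eng Cfsg.Agent.H940.Eng.D
open Cfsg.Agent.H940.MaxCls

/-! ### overgroups of the normalizer of a self-centralizing subgroup of order 25 -/

/-- an element of order 3 centralizes the subgroups of order 5 which it normalizes -/
theorem cent5 {G : Type*} [Group G] {M : Subgroup G} (hM : Nat.card M = 5) {y : G} (hy : y ^ 3 = 1)
    (hyM : ∀ x ∈ M, y * x * y⁻¹ ∈ M) : ∀ x ∈ M, y * x = x * y := by
  obtain ⟨g, hg, rfl⟩ := SepJ1.eq_zpowers Nat.prime_five hM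
  have hy' : y * y * y = 1 := by rw [← hy]; simp only [pow_succ, pow_zero, one_mul]
  have hgf : IsOfFinOrder g := orderOf_pos_iff.1 (by rw [hg]; norm_num)
  obtain ⟨k, hk⟩ : ∃ k : ℕ, y * g * y⁻¹ = g ^ k := by
    obtain ⟨k, hk⟩ := hgf.mem_powers_iff_mem_zpowers.2 (hyM g (mem_zpowers g))
    exact ⟨k, hk.symm⟩
  have h1 : ∀ m : ℕ, y * g ^ m * y⁻¹ = g ^ (k * m) := by
    intro m
    rw [← conj_pow, hk, ← pow_mul]
  have h2 : g ^ (k * (k * k)) = g := by
    calc g ^ (k * (k * k)) = y * (y * (y * g * y⁻¹) * y⁻¹) * y⁻¹ := by rw [hk, h1, h1]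
      _ = (y * y * y) * g * (y * y * y)⁻¹ := by simp only [mul_inv_rev, mul_assoc]
      _ = g := by rw [hy']; group
  have h3 : k * (k * k) % 5 = 1 % 5 := by
    have h5 : g ^ (k * (k * k)) = g ^ 1 := by rw [h2, pow_one]
    rw [pow_inj_mod, hg] at h5
    exact h5
  have h4 : k % 5 = 1 := by
    have h5 : (k % 5) * ((k % 5) * (k % 5)) % 5 = 1 := by
      rw [show 1 = 1 % 5 by norm_num, ← h3]
      simp [Nat.mul_mod]
    have h6 : k % 5 < 5 := Nat.mod_lt _ (by norm_num)
    interval_cases hk5 : k % 5 <;> simp_all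
  have h5 : y * g * y⁻¹ = g := by
    rw [hk, ← pow_mod_orderOf, hg, h4, pow_one]
  have h6 : Commute y g := by
    have : y * g = g * y := by rw [← mul_inv_eq_iff_eq_mul]; exact h5
    exact this
  intro x hx
  obtain ⟨m, rfl⟩ := mem_zpowers_iff.1 hx
  exact (h6.zpow_right m).eq

/-- an element of order 3 which normalizes a self-centralizing subgroup `P` of order 25 normalizes no
subgroup of order 5 of `P` -/
theorem irred {G : Type*} [Group G] {P L : Subgroup G} (hP : Nat.card P = 25)
    (hCP : centralizer (P : Set G) = P) {y : G} (hy : orderOf y = 3) (hyP : ∀ x ∈ P, y * x * y⁻¹ ∈ P)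
    (hLP : L ≤ P) (hL : Nat.card L = 5) (hyL : ∀ x ∈ L, y * x * y⁻¹ ∈ L) : False := by
  haveI := Fact.mk Nat.prime_five
  haveI : Finite P := Nat.finite_of_card_ne_zero (by rw [hP]; norm_num)
  have hy3 : y ^ 3 = 1 := by rw [← hy, pow_orderOf_eq_one]
  have hy' : y * y * y = 1 := by rw [← hy3]; simp only [pow_succ, pow_zero, one_mul]
  have hab : ∀ a ∈ P, ∀ b ∈ P, a * b = b * a := by
    intro a ha b hb
    rw [← hCP] at hb
    exact mem_centralizer_iff.1 hb a ha
  let F : P →* G :=
    { toFun := fun u => y * u * y⁻¹ * (u : G)⁻¹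
      map_one' := by simp
      map_mul' := by
        intro u v
        have h1 : (u : G)⁻¹ * (y * v * y⁻¹) = (y * v * y⁻¹) * (u : G)⁻¹ :=
          hab _ (P.inv_mem u.2) _ (hyP v v.2)
        have h2 : (u : G)⁻¹ * (v : G)⁻¹ = (v : G)⁻¹ * (u : G)⁻¹ := hab _ (P.inv_mem u.2) _ (P.inv_mem v.2)
        show y * ((u * v : P) : G) * y⁻¹ * ((u * v : P) : G)⁻¹ = (y * u * y⁻¹ * (u : G)⁻¹) * (y * v * y⁻¹ * (v : G)⁻¹)
        calc y * ((u * v : P) : G) * y⁻¹ * ((u * v : P) : G)⁻¹
            = (y * u * y⁻¹) * ((y * v * y⁻¹) * ((v : G)⁻¹ * (u : G)⁻¹)) := by push_cast; group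
          _ = (y * u * y⁻¹) * ((y * v * y⁻¹) * ((u : G)⁻¹ * (v : G)⁻¹)) := by rw [h2]
          _ = (y * u * y⁻¹) * (((y * v * y⁻¹) * (u : G)⁻¹) * (v : G)⁻¹) := by group
          _ = (y * u * y⁻¹) * (((u : G)⁻¹ * (y * v * y⁻¹)) * (v : G)⁻¹) := by rw [h1]
          _ = _ := by group }
  have hF : ∀ u : P, F u = y * u * y⁻¹ * (u : G)⁻¹ := fun u => rfl
  have hker : L.subgroupOf P ≤ F.ker := by
    intro u hu
    rw [mem_subgroupOf] at hu
    rw [MonoidHom.mem_ker, hF, mul_inv_eq_one, mul_inv_eq_iff_eq_mul]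
    exact cent5 hL hy3 hyL u hu
  have h5 : 5 ∣ Nat.card F.ker := by
    rw [← hL, ← Nat.card_congr (subgroupOfEquivOfLe hLP).toEquiv]
    exact card_dvd_of_le hker
  have h25 : Nat.card F.ker * Nat.card F.range = 25 := by
    rw [← hP, card_eq_card_quotient_mul_card_subgroup F.ker, Nat.card_congr (QuotientGroup.quotientKerEquivRange F).toEquiv]
    ring
  have hne : Nat.card F.range ≠ 1 := by
    intro h1
    have h2 : ∀ u ∈ P, y * u = u * y := by
      intro u hu
      have h3 : F ⟨u, hu⟩ ∈ F.range := ⟨_, rfl⟩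
      have h4 : F.range = ⊥ := card_eq_one.1 h1
      rw [h4, mem_bot, hF, mul_inv_eq_one, mul_inv_eq_iff_eq_mul] at h3
      exact h3
    have h3 : y ∈ P := by
      rw [← hCP, mem_centralizer_iff]
      intro u hu
      exact (h2 u hu).symm
    have h4 : orderOf (⟨y, h3⟩ : P) ∣ 25 := by rw [← hP]; exact orderOf_dvd_natCard _
    rw [orderOf_mk, hy] at h4
    norm_num at h4
  have hr5 : Nat.card F.range = 5 := by
    obtain ⟨c, hc⟩ := h5
    rw [hc] at h25
    have h6 : c * Nat.card F.range = 5 := by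
      have : 5 * (c * Nat.card F.range) = 5 * 5 := by rw [← mul_assoc, h25]
      omega
    have h7 : Nat.card F.range ∣ 5 := Dvd.intro_left _ h6
    exact ((Nat.dvd_prime Nat.prime_five).1 h7).resolve_left hne
  have hrP : ∀ x ∈ F.range, x ∈ P := by
    rintro _ ⟨u, rfl⟩
    rw [hF]
    exact P.mul_mem (hyP u u.2) (P.inv_mem u.2)
  have hyr : ∀ x ∈ F.range, y * x * y⁻¹ ∈ F.range := by
    rintro _ ⟨u, rfl⟩
    refine ⟨⟨y * u * y⁻¹, hyP u u.2⟩, ?_⟩
    rw [hF, hF]
    group
  have hc := cent5 hr5 hy3 hyr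
  -- the range is trivial
  have hall : ∀ x ∈ F.range, x = 1 := by
    rintro x ⟨u, hu⟩
    have hx := hc x ⟨u, hu⟩
    rw [hF] at hu
    have h1 : y * u * y⁻¹ = x * u := by rw [← hu]; group
    have hyx : y * x * y⁻¹ = x := by rw [hx]; group
    have h2 : (y * y * y) * u * (y * y * y)⁻¹ = x * x * x * u := by
      calc (y * y * y) * u * (y * y * y)⁻¹ = y * (y * (y * u * y⁻¹) * y⁻¹) * y⁻¹ := by
            simp only [mul_inv_rev, mul_assoc]
        _ = y * (y * (x * u) * y⁻¹) * y⁻¹ := by rw [h1]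
        _ = (y * (y * x * y⁻¹) * y⁻¹) * (y * (y * u * y⁻¹) * y⁻¹) := by group
        _ = x * (y * (x * u) * y⁻¹) := by rw [hyx, hyx, h1]
        _ = x * ((y * x * y⁻¹) * (y * u * y⁻¹)) := by group
        _ = x * x * x * u := by rw [hyx, h1]; simp only [mul_assoc]
    rw [hy', one_mul, inv_one, mul_one] at h2
    have h3 : x * x * x = 1 := by
      have : x * x * x * (u : G) = 1 * u := by rw [← h2, one_mul]
      exact mul_right_cancel this
    have h4 : x ^ 5 = 1 := by
      have h6 : (⟨x, ⟨u, by rw [hF]; exact hu⟩⟩ : F.range) ^ 5 = 1 := by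
        rw [← hr5]; exact pow_card_eq_one'
      exact congrArg Subtype.val h6
    calc x = (x * x * x) * (x * x * x) * (x ^ 5)⁻¹ := by simp only [pow_succ, pow_zero, one_mul]; group
      _ = 1 := by rw [h3, h4]; group
  have hbot : F.range = ⊥ := by
    rw [eq_bot_iff_forall]
    exact hall
  exact hne (by rw [hbot, card_bot])

/-- fixed points of a Sylow subgroup on the cosets of a subgroup containing its normalizer -/
theorem eq_coe_of_fixed {G : Type*} [Group G] [Finite G] {p : ℕ} [Fact p.Prime] (P : Sylow p G) {K : Subgroup G}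
    (hK : normalizer ((P : Subgroup G) : Set G) ≤ K) {g : G} (hg : ∀ x ∈ (P : Subgroup G), g⁻¹ * x * g ∈ K) : g ∈ K := by
  have h1 : (P : Subgroup G) ≤ K := le_normalizer.trans hK
  have h2 : ((g⁻¹ • P : Sylow p G) : Subgroup G) ≤ K := by
    rintro _ ⟨z, hz, rfl⟩
    have := hg z hz
    simpa using this
  obtain ⟨h, hh⟩ := MulAction.exists_smul_eq K ((g⁻¹ • P).subtype h2) (P.subtype h1)
  simp_rw [Sylow.smul_subtype, Subgroup.smul_def, smul_smul] at hh
  have h3 := hK (Sylow.smul_eq_iff_mem_normalizer.mp (Sylow.subtype_injective hh))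
  have h4 : g⁻¹ ∈ K := by
    have := K.mul_mem (K.inv_mem h.2) h3
    simpa using this
  simpa using K.inv_mem h4

/-- a subgroup of index less than 25 which contains the normalizer of a self-centralizing Sylow 5-subgroup of order 25 -/
theorem index_mod_three {G : Type*} [Group G] [Finite G] [Fact (Nat.Prime 5)] (P : Sylow 5 G)
    (hP : Nat.card (P : Subgroup G) = 25)
    (hCP : centralizer ((P : Subgroup G) : Set G) = P) (h3 : 3 ∣ Nat.card (normalizer ((P : Subgroup G) : Set G)))
    {K : Subgroup G} (hK : normalizer ((P : Subgroup G) : Set G) ≤ K) (hidx : K.index < 25) : K.index % 3 = 1 := by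
  haveI := Fact.mk Nat.prime_three
  obtain ⟨y, hy⟩ := exists_prime_orderOf_dvd_card' 3 h3
  have hy' : orderOf (y : G) = 3 := by rw [Subgroup.orderOf_coe, hy]
  have hyP : ∀ x ∈ (P : Subgroup G), (y : G) * x * (y : G)⁻¹ ∈ (P : Subgroup G) := fun x hx =>
    (mem_normalizer_iff.1 y.2 x).1 hx
  have hpg : IsPGroup 3 (zpowers (y : G)) := IsPGroup.of_card (n := 1) (by rw [Nat.card_zpowers, hy', pow_one])
  have h1 := hpg.card_modEq_card_fixedPoints (G ⧸ K)
  have h2 : MulAction.fixedPoints (zpowers (y : G)) (G ⧸ K) = {((1 : G) : G ⧸ K)} := by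
    ext ω
    rw [Set.mem_singleton_iff]
    constructor
    · intro hω
      obtain ⟨g, rfl⟩ := QuotientGroup.mk_surjective ω
      have hyω : (y : G) • (g : G ⧸ K) = (g : G ⧸ K) := hω ⟨y, mem_zpowers _⟩
      have hyω' : (y : G)⁻¹ • (g : G ⧸ K) = (g : G ⧸ K) := by rw [inv_smul_eq_iff, hyω]
      have hst : Nat.card (MulAction.orbit (P : Subgroup G) (g : G ⧸ K)) *
          Nat.card (MulAction.stabilizer (P : Subgroup G) (g : G ⧸ K)) = 25 := by
        rw [← hP, Nat.card_congr (MulAction.orbitEquivQuotientStabilizer (P : Subgroup G) (g : G ⧸ K))]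
        exact (card_eq_card_quotient_mul_card_subgroup _).symm
      have hle : Nat.card (MulAction.orbit (P : Subgroup G) (g : G ⧸ K)) < 25 := by
        refine lt_of_le_of_lt ?_ hidx
        rw [Subgroup.index]
        exact Nat.card_le_card_of_injective Subtype.val Subtype.val_injective
      have hdv : Nat.card (MulAction.stabilizer (P : Subgroup G) (g : G ⧸ K)) ∣ 5 ^ 2 := Dvd.intro_left _ hst
      obtain ⟨j, hj, hj'⟩ := (Nat.dvd_prime_pow Nat.prime_five).1 hdv
      set L : Subgroup G := (MulAction.stabilizer (P : Subgroup G) (g : G ⧸ K)).map (P : Subgroup G).subtype with hL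
      have hLc : Nat.card L = 5 ^ j := by
        rw [hL, card_map_of_injective (Subgroup.subtype_injective _), hj']
      have hLP : L ≤ (P : Subgroup G) := by
        rintro _ ⟨u, -, rfl⟩
        exact u.2
      have hj0 : j ≠ 0 := by
        rintro rfl
        rw [hj', pow_zero, mul_one] at hst
        omega
      have memL : ∀ x : G, x ∈ L ↔ x ∈ (P : Subgroup G) ∧ x • (g : G ⧸ K) = (g : G ⧸ K) := by
        intro x
        constructor
        · rintro ⟨u, hu, rfl⟩
          exact ⟨u.2, hu⟩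
        · rintro ⟨h4, h5⟩
          exact ⟨⟨x, h4⟩, h5, rfl⟩
      have hj12 : j = 1 ∨ j = 2 := by omega
      rcases hj12 with rfl | rfl
      · exfalso
        refine irred hP hCP hy' hyP hLP (by rw [hLc, pow_one]) ?_
        intro x hx
        obtain ⟨h4, h5⟩ := (memL x).1 hx
        refine (memL _).2 ⟨hyP x h4, ?_⟩
        rw [mul_smul, mul_smul, hyω', h5, hyω]
      · have hLeq : L = (P : Subgroup G) := eq_of_le_of_card_ge hLP (by rw [hLc, hP]; norm_num)
        have hgK : g ∈ K := by
          refine eq_coe_of_fixed P hK fun x hx => ?_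
          rw [← hLeq] at hx
          have h5 := ((memL x).1 hx).2
          rw [MulAction.Quotient.smul_coe, QuotientGroup.eq, smul_eq_mul] at h5
          have h6 := K.inv_mem h5
          have h7 : ((x * g)⁻¹ * g)⁻¹ = g⁻¹ * x * g := by group
          rwa [h7] at h6
        rw [QuotientGroup.eq]
        simpa using hgK
    · rintro rfl
      rintro ⟨x, hx⟩
      have hxK : x ∈ K := (zpowers_le.2 (hK y.2)) hx
      show x • ((1 : G) : G ⧸ K) = ((1 : G) : G ⧸ K)
      rw [MulAction.Quotient.smul_coe, QuotientGroup.eq, smul_eq_mul]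
      simpa using hxK
  rw [h2] at h1
  have h4 : Nat.card ({((1 : G) : G ⧸ K)} : Set (G ⧸ K)) = 1 := by
    rw [Nat.card_coe_set_eq, Set.ncard_singleton]
  rw [h4] at h1
  exact h1

/-! ### fixed points of a Sylow subgroup -/

/-- the normalizer of a Sylow subgroup is transitive on its fixed points -/
theorem exists_normalizer_smul {G X : Type*} [Group G] [Finite G] [MulAction G X] {p : ℕ} [Fact p.Prime] (P : Sylow p G)
    {a : X} {g : G} (ha : ∀ x ∈ (P : Subgroup G), x • a = a) (hb : ∀ x ∈ (P : Subgroup G), x • (g • a) = g • a) :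
    ∃ n ∈ normalizer ((P : Subgroup G) : Set G), n • a = g • a := by
  have h1 : (P : Subgroup G) ≤ MulAction.stabilizer G a := ha
  have h2 : ((g⁻¹ • P : Sylow p G) : Subgroup G) ≤ MulAction.stabilizer G a := by
    rintro _ ⟨z, hz, rfl⟩
    have := hb z hz
    change g⁻¹ * z * g⁻¹⁻¹ ∈ MulAction.stabilizer G a
    rw [MulAction.mem_stabilizer_iff, inv_inv, mul_smul, mul_smul, this, inv_smul_smul]
  obtain ⟨h, hh⟩ := MulAction.exists_smul_eq (MulAction.stabilizer G a) ((g⁻¹ • P).subtype h2) (P.subtype h1)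
  simp_rw [Sylow.smul_subtype, Subgroup.smul_def, smul_smul] at hh
  have h3 := Sylow.smul_eq_iff_mem_normalizer.mp (Sylow.subtype_injective hh)
  refine ⟨((h : G) * g⁻¹)⁻¹, inv_mem h3, ?_⟩
  rw [mul_inv_rev, inv_inv, mul_smul]
  congr 1
  rw [inv_smul_eq_iff]
  exact (MulAction.mem_stabilizer_iff.1 h.2).symm

theorem arith40320 : ∀ s ∈ Finset.range 101, s ∣ 40320 → 40320 / s ∣ 6048 → 2 < s % 7 := by decide +kernel

/-- no subgroup of order 40320 contains an element of order 7 -/
theorem not40320 {G : Type*} [Group G] [Finite G] (hG : Nat.card G = 604800) {H : Subgroup G} (hH : H.index = 100)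
    [Fact (Nat.Prime 7)] (P : Sylow 7 G) (hP : Nat.card (P : Subgroup G) = 7)
    (hN : Nat.card (normalizer ((P : Subgroup G) : Set G)) = 42) {K : Subgroup G} (hK : Nat.card K = 40320)
    (hPK : (P : Subgroup G) ≤ K) : False := by
  have hX : Nat.card (G ⧸ H) = 100 := hH
  have hpg : IsPGroup 7 (P : Subgroup G) := P.2
  have h1 := hpg.card_modEq_card_fixedPoints (G ⧸ H)
  rw [hX] at h1
  set Fx := MulAction.fixedPoints (P : Subgroup G) (G ⧸ H) with hFx
  have hFne : Nat.card Fx ≠ 0 := by
    intro h0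
    rw [h0] at h1
    exact absurd h1 (by decide)
  haveI : Nonempty Fx := by
    by_contra hc
    rw [not_nonempty_iff] at hc
    exact hFne Nat.card_of_isEmpty
  obtain ⟨ω, hω⟩ : ∃ ω : G ⧸ H, ω ∈ Fx := ⟨(Classical.arbitrary Fx : Fx).1, (Classical.arbitrary Fx : Fx).2⟩
  have hfix : ∀ {a : G ⧸ H}, a ∈ Fx → ∀ x ∈ (P : Subgroup G), x • a = a := fun ha x hx => ha ⟨x, hx⟩
  -- at most six fixed points
  set N := normalizer ((P : Subgroup G) : Set G) with hNdef
  have hsub : Fx ⊆ MulAction.orbit N ω := by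
    intro a ha
    obtain ⟨g, rfl⟩ := MulAction.exists_smul_eq G ω a
    obtain ⟨n, hn, hn'⟩ := exists_normalizer_smul P (hfix hω) (hfix ha)
    exact ⟨⟨n, hn⟩, hn'⟩
  have horb : Nat.card (MulAction.orbit N ω) * Nat.card (MulAction.stabilizer N ω) = 42 := by
    rw [← hN, Nat.card_congr (MulAction.orbitEquivQuotientStabilizer N ω)]
    exact (card_eq_card_quotient_mul_card_subgroup _).symm
  have h7 : 7 ∣ Nat.card (MulAction.stabilizer N ω) := by
    rw [← hP, ← Nat.card_congr (subgroupOfEquivOfLe (le_normalizer (H := (P : Subgroup G)))).toEquiv]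
    refine card_dvd_of_le ?_
    intro n hn
    exact hfix hω n hn
  have h6 : Nat.card Fx ≤ 6 := by
    have h2 : Nat.card Fx ≤ Nat.card (MulAction.orbit N ω) := by
      rw [Nat.card_coe_set_eq, Nat.card_coe_set_eq]
      exact Set.ncard_le_ncard hsub (Set.toFinite _)
    obtain ⟨c, hc⟩ := h7
    rw [hc] at horb
    have h3 : Nat.card (MulAction.orbit N ω) * c = 6 := by
      have : 7 * (Nat.card (MulAction.orbit N ω) * c) = 7 * 6 := by rw [← mul_assoc, mul_comm 7, mul_assoc, horb]
      omega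
    have h4 : 0 < c := Nat.pos_of_ne_zero (by rintro rfl; omega)
    nlinarith
  have h2 : Nat.card Fx ≤ 2 := by
    have h3 : 100 % 7 = Nat.card Fx % 7 := h1
    omega
  -- the orbit of `ω` under `K`
  have horbK : Nat.card (MulAction.orbit K ω) * Nat.card (MulAction.stabilizer K ω) = 40320 := by
    rw [← hK, Nat.card_congr (MulAction.orbitEquivQuotientStabilizer K ω)]
    exact (card_eq_card_quotient_mul_card_subgroup _).symm
  have hstG : Nat.card (MulAction.stabilizer G ω) = 6048 := by
    have h3 : Nat.card (MulAction.orbit G ω) * Nat.card (MulAction.stabilizer G ω) = 604800 := by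
      rw [← hG, Nat.card_congr (MulAction.orbitEquivQuotientStabilizer G ω)]
      exact (card_eq_card_quotient_mul_card_subgroup _).symm
    have h4 : MulAction.orbit G ω = Set.univ := MulAction.orbit_eq_univ G ω
    rw [h4, Nat.card_coe_set_eq, Set.ncard_univ, hX] at h3
    omega
  have hst : Nat.card (MulAction.stabilizer K ω) ∣ 6048 := by
    rw [← hstG]
    have h3 : (MulAction.stabilizer K ω).map K.subtype ≤ MulAction.stabilizer G ω := by
      rintro _ ⟨u, hu, rfl⟩
      exact hu
    rw [← card_map_of_injective K.subtype_injective]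
    exact card_dvd_of_le h3
  have hle : Nat.card (MulAction.orbit K ω) ≤ 100 := by
    rw [← hX]
    exact Nat.card_le_card_of_injective Subtype.val Subtype.val_injective
  have h0 : 0 < Nat.card (MulAction.orbit K ω) := by
    haveI : Nonempty (MulAction.orbit K ω) := ⟨⟨ω, MulAction.mem_orbit_self _⟩⟩
    exact Nat.card_pos
  have hs := arith40320 (Nat.card (MulAction.orbit K ω)) (Finset.mem_range.2 (by omega)) (Dvd.intro _ horbK) (by
    have : 40320 / Nat.card (MulAction.orbit K ω) = Nat.card (MulAction.stabilizer K ω) := by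
      rw [← horbK]
      exact Nat.mul_div_cancel_left _ h0
    rw [this]
    exact hst)
  -- fixed points of `P` in the orbit
  have hP'c : Nat.card ((P : Subgroup G).subgroupOf K) = 7 := by
    rw [Nat.card_congr (subgroupOfEquivOfLe hPK).toEquiv, hP]
  have hpg' : IsPGroup 7 ((P : Subgroup G).subgroupOf K) := IsPGroup.of_card (n := 1) (by rw [hP'c, pow_one])
  have h3 := hpg'.card_modEq_card_fixedPoints (MulAction.orbit K ω)
  have h4 : Nat.card (MulAction.fixedPoints ((P : Subgroup G).subgroupOf K) (MulAction.orbit K ω)) ≤ Nat.card Fx := by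
    refine Nat.card_le_card_of_injective (fun a => ⟨(a.1 : G ⧸ H), ?_⟩) ?_
    · rintro ⟨x, hx⟩
      have h5 := a.2 ⟨⟨x, hPK hx⟩, mem_subgroupOf.2 hx⟩
      exact congrArg Subtype.val h5
    · intro a b hab
      apply Subtype.ext
      apply Subtype.ext
      exact congrArg (fun t : Fx => (t : G ⧸ H)) hab
  have h5 : Nat.card (MulAction.orbit K ω) % 7 =
    Nat.card (MulAction.fixedPoints ((P : Subgroup G).subgroupOf K) (MulAction.orbit K ω)) % 7 := h3
  have h6 := Nat.mod_le (Nat.card (MulAction.fixedPoints ((P : Subgroup G).subgroupOf K) (MulAction.orbit K ω))) 7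
  omega

/-! ### the point stabilizer -/

theorem orbit_coe_one {G : Type*} [Group G] {H : Subgroup G} {k : G} (hk : k ∈ normalizer (H : Set G)) :
    MulAction.orbit H (k : G ⧸ H) = {(k : G ⧸ H)} := by
  ext a
  rw [Set.mem_singleton_iff]
  constructor
  · rintro ⟨h, rfl⟩
    change ((h : G) * k : G) = (k : G ⧸ H)
    rw [eq_comm, QuotientGroup.eq]
    have h1 := (mem_normalizer_iff''.1 hk h).1 h.2
    have h2 : k⁻¹ * ((h : G) * k) = k⁻¹ * h * k := by group
    rw [h2]
    exact h1
  · rintro rfl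
    exact MulAction.mem_orbit_self _

/-- a rank 3 point stabilizer is self-normalizing -/
theorem normalizer_le {G : Type*} [Group G] [Finite G] {H : Subgroup G} (hH : H.index = 100) {c₁ c₂ : G ⧸ H}
    (h36 : (MulAction.orbit ↥H c₁).ncard = 36) (h63 : (MulAction.orbit ↥H c₂).ncard = 63) :
    normalizer (H : Set G) ≤ H := by
  intro k hk
  by_contra hkH
  have o1 : MulAction.orbit H ((1 : G) : G ⧸ H) = {((1 : G) : G ⧸ H)} := orbit_coe_one (one_mem _)
  have o2 := orbit_coe_one hk
  have hne : ((1 : G) : G ⧸ H) ≠ (k : G ⧸ H) := by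
    rw [Ne, QuotientGroup.eq]
    simpa using hkH
  have disj : ∀ a b : G ⧸ H, (MulAction.orbit ↥H a).ncard ≠ (MulAction.orbit ↥H b).ncard →
      Disjoint (MulAction.orbit ↥H a) (MulAction.orbit ↥H b) := by
    intro a b hab
    rcases MulAction.orbit.eq_or_disjoint (G := H) a b with h | h
    · exact absurd (by rw [h]) hab
    · exact h
  have n1 : (MulAction.orbit ↥H ((1 : G) : G ⧸ H)).ncard = 1 := by rw [o1, Set.ncard_singleton]
  have n2 : (MulAction.orbit ↥H (k : G ⧸ H)).ncard = 1 := by rw [o2, Set.ncard_singleton]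
  have d12 : Disjoint (MulAction.orbit ↥H ((1 : G) : G ⧸ H)) (MulAction.orbit ↥H (k : G ⧸ H)) := by
    rw [o1, o2, Set.disjoint_singleton]
    exact hne
  have d1 := disj ((1 : G) : G ⧸ H) c₁ (by rw [n1, h36]; norm_num)
  have d2 := disj ((1 : G) : G ⧸ H) c₂ (by rw [n1, h63]; norm_num)
  have d3 := disj (k : G ⧸ H) c₁ (by rw [n2, h36]; norm_num)
  have d4 := disj (k : G ⧸ H) c₂ (by rw [n2, h63]; norm_num)
  have d5 := disj c₁ c₂ (by rw [h36, h63]; norm_num)
  have hle : (((MulAction.orbit ↥H ((1 : G) : G ⧸ H) ∪ MulAction.orbit ↥H (k : G ⧸ H)) ∪ MulAction.orbit ↥H c₁) ∪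
      MulAction.orbit ↥H c₂).ncard ≤ 100 := by
    rw [← hH, Subgroup.index, ← Set.ncard_univ]
    exact Set.ncard_le_ncard (Set.subset_univ _) (Set.toFinite _)
  rw [Set.ncard_union_eq (by
      rw [Set.disjoint_union_left, Set.disjoint_union_left]
      exact ⟨⟨d2, d4⟩, d5⟩) (Set.toFinite _) (Set.toFinite _),
    Set.ncard_union_eq (by
      rw [Set.disjoint_union_left]
      exact ⟨d1, d3⟩) (Set.toFinite _) (Set.toFinite _),
    Set.ncard_union_eq d12 (Set.toFinite _) (Set.toFinite _), n1, n2, h36, h63] at hle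
  norm_num at hle

/-! ### the centre of a Sylow 3-subgroup -/

theorem card_center_cubed {T : Type*} [Group T] {p : ℕ} [Fact p.Prime] (hT : Nat.card T = p ^ 3)
    (hn : ¬ ∀ a b : T, a * b = b * a) : Nat.card (center T) = p := by
  have hfin : Finite T := Nat.finite_of_card_ne_zero (by rw [hT]; exact pow_ne_zero _ (Fact.out : p.Prime).ne_zero)
  have hp := (Fact.out : p.Prime)
  obtain ⟨k, hk0, hk⟩ := IsPGroup.card_center_eq_prime_pow hT (by norm_num)
  have h1 : Nat.card (T ⧸ center T) * p ^ k = p ^ 3 := by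
    rw [← hk, ← hT]
    exact (card_eq_card_quotient_mul_card_subgroup (center T)).symm
  have h2 : p ^ k ∣ p ^ 3 := ⟨_, by rw [← h1, mul_comm]⟩
  have h3 : k ≤ 3 := (Nat.pow_dvd_pow_iff_le_right hp.one_lt).1 h2
  have h4 : ∀ j, j + k = 3 → Nat.card (T ⧸ center T) = p ^ j := by
    intro j hj
    have h5 : p ^ j * p ^ k = p ^ 3 := by rw [← pow_add, hj]
    exact Nat.eq_of_mul_eq_mul_right (pow_pos hp.pos k) (h1.trans h5.symm)
  have key : IsCyclic (T ⧸ center T) → False := by
    intro hcyc
    have h5 := MonoidHom.isMulCommutative_of_isCyclic_of_ker_le_center (QuotientGroup.mk' (center T))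
      (by rw [QuotientGroup.ker_mk'])
    exact hn h5.is_comm.comm
  interval_cases k
  · rw [hk, pow_one]
  · exfalso
    exact key (isCyclic_of_prime_card (p := p) (by rw [h4 1 (by norm_num), pow_one]))
  · exfalso
    have h5 : Nat.card (T ⧸ center T) = 1 := by rw [h4 0 (by norm_num), pow_zero]
    have h6 : Subsingleton (T ⧸ center T) := (Nat.card_eq_one_iff_unique.1 h5).1
    exact key inferInstance

/-- a central subgroup of order `p` of a non-abelian group of order `p³`: its normalizer contains the normalizer -/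
theorem exists_center {G : Type*} [Group G] {p : ℕ} [hp : Fact p.Prime] {P : Subgroup G}
    (hP : Nat.card P = p ^ 3) (hn : ¬ ∀ a b : P, a * b = b * a) : ∃ c : G, orderOf c = p ∧ c ∈ P ∧ (∀ x ∈ P, x * c = c * x) ∧
      normalizer (P : Set G) ≤ normalizer ((zpowers c : Subgroup G) : Set G) := by
  have hc := card_center_cubed hP hn
  set Z : Subgroup G := (center P).map P.subtype with hZ
  have hZc : Nat.card Z = p := by rw [hZ, card_map_of_injective P.subtype_injective, hc]
  obtain ⟨c, hco, hZe⟩ := SepJ1.eq_zpowers hp.out hZc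
  have hcZ : c ∈ Z := by rw [hZe]; exact mem_zpowers c
  have memZ : ∀ z : G, z ∈ Z ↔ z ∈ P ∧ ∀ x ∈ P, x * z = z * x := by
    intro z
    constructor
    · rintro ⟨w, hw, rfl⟩
      refine ⟨w.2, fun x hx => ?_⟩
      exact congrArg Subtype.val (mem_center_iff.1 hw ⟨x, hx⟩)
    · rintro ⟨h1, h2⟩
      refine ⟨⟨z, h1⟩, ?_, rfl⟩
      rw [SetLike.mem_coe, mem_center_iff]
      intro x
      exact Subtype.ext (h2 x x.2)
  refine ⟨c, hco, ((memZ c).1 hcZ).1, ((memZ c).1 hcZ).2, ?_⟩
  rw [← hZe]
  have key : ∀ n ∈ normalizer (P : Set G), ∀ z ∈ Z, n * z * n⁻¹ ∈ Z := by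
    intro n hn' z hz
    obtain ⟨h1, h2⟩ := (memZ z).1 hz
    refine (memZ _).2 ⟨(mem_normalizer_iff.1 hn' z).1 h1, fun x hx => ?_⟩
    have h3 : n⁻¹ * x * n ∈ P := (mem_normalizer_iff''.1 hn' x).1 hx
    have h4 := h2 _ h3
    calc x * (n * z * n⁻¹) = n * ((n⁻¹ * x * n) * z) * n⁻¹ := by group
      _ = n * (z * (n⁻¹ * x * n)) * n⁻¹ := by rw [h4]
      _ = n * z * n⁻¹ * x := by group
  intro n hn'
  rw [mem_normalizer_iff]
  intro z
  constructor
  · exact key n hn' z
  · intro hz
    have h5 := key n⁻¹ (inv_mem hn') _ hz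
    have h6 : n⁻¹ * (n * z * n⁻¹) * n⁻¹⁻¹ = z := by group
    rwa [h6] at h5

/-! ### the row -/

abbrev G : Type := Cfsg.Spor.J2

def loc : List LD := [⟨7, 7, [(2, 1), (3, 1), (7, 1)]⟩]

theorem simple : IsSimpleGroup G := Cfsg.Agent.S1620.result.1
theorem card : Nat.card G = n_j2 := Cfsg.Agent.S1619.result.2.2.2
theorem fin : Finite G := Nat.finite_of_card_ne_zero (by rw [card]; decide)

theorem exists_fus : ∃ t u : G, Cfsg.Agent.J2Type.Base.Fus t u := by
  haveI := fin
  obtain ⟨t, u, Q, v, ρ, D⟩ := Cfsg.Agent.KFacts.J2.Facts.exists_dat_of (X := G) ⟨MulEquiv.refl _⟩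
  exact ⟨t, u, D.F⟩

theorem cn7 {R : Subgroup G} (hR : Nat.card R = 7) :
    Nat.card (centralizer (R : Set G)) = 7 ∧ Nat.card (normalizer (R : Set G)) = 42 := by
  haveI := fin
  haveI : Fact (Nat.Prime 7) := ⟨by norm_num⟩
  obtain ⟨t, u, F⟩ := exists_fus
  obtain ⟨S, hS⟩ := H904.SylOne.exists_sylow (p := 7) hR (by rw [card]; decide +kernel)
  obtain ⟨h1, h2, -⟩ := Cfsg.Agent.J2Type.ThreeF.sylow_seven F S
  rw [← hS, h1]
  refine ⟨?_, h2⟩
  rw [hS]
  exact hR

theorem ctx (B : Base) : Ctx G l_j2 n_j2 o_j2 loc where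
  fin := fin
  simple := simple
  card := card
  val := v_j2
  nodup := nd_j2
  ords := ords_j2 B
  loc := by
    haveI := fin
    haveI := simple
    intro ld hld
    simp only [loc, List.mem_cons, List.not_mem_nil, or_false] at hld
    rcases hld with rfl
    exact loc_of_eq card (by decide +kernel) (by decide +kernel) (by decide +kernel) fun R hR => by
        obtain ⟨h1, h2⟩ := cn7 hR
        rw [h1, h2]; decide

theorem ne_top {A : Subgroup G} {k : ℕ} (h1 : Nat.card A = k) (h2 : (k != n_j2) = true) : A ≠ ⊤ := by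
  intro h3
  rw [h3, card_top, card] at h1
  rw [bne_iff_ne] at h2
  exact h2 h1.symm

/-- the subgroup `N(3A)` -/
theorem exists_three' : ∃ c : G, orderOf c = 3 ∧ (∀ x : G, orderOf x = 3 →
    Nat.card (centralizer ({x} : Set G)) = Nat.card (centralizer ({c} : Set G)) → IsConj c x) ∧
    normalizer ((zpowers c : Subgroup G) : Set G) ≠ ⊤ ∧
    1080 ∣ Nat.card (normalizer ((zpowers c : Subgroup G) : Set G)) ∧
    (∀ p ∈ [3], Full p (normalizer ((zpowers c : Subgroup G) : Set G))) := by
  haveI := fin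
  haveI := simple
  haveI := Fact.mk Nat.prime_three
  obtain ⟨t, u, F⟩ := exists_fus
  obtain ⟨a, b, ha, hb, hca, hcb, hcl, P, ⟨x, y, hxy⟩, hN⟩ := Cfsg.Agent.J2Type.ThreeF.main F
  have hP : Nat.card (P : Subgroup G) = 3 ^ 3 :=
    Cfsg.Agent.J2Type.SylowSeven.card_sylow P 3 22400 (by rw [card]; decide) (by norm_num)
  obtain ⟨c, hc, hcP, hcc, hle⟩ := exists_center hP (fun h => hxy (h x y))
  have h27 : 27 ∣ Nat.card (centralizer ({c} : Set G)) := by
    have h1 : (P : Subgroup G) ≤ centralizer ({c} : Set G) := fun z hz => mem_centralizer_singleton_iff.2 (hcc z hz)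
    have h2 := card_dvd_of_le h1
    rw [hP] at h2
    exact h2
  have h1080 : Nat.card (centralizer ({c} : Set G)) = 1080 := by
    rcases hcl c hc with h | h
    · rw [Cfsg.Agent.J2Type.Cent5.card_centralizer_of_isConj h, hca]
    · rw [Cfsg.Agent.J2Type.Cent5.card_centralizer_of_isConj h, hcb] at h27
      norm_num at h27
  refine ⟨c, hc, ?_, ?_, ?_, ?_⟩
  · intro x hx hcx
    have key : ∀ y : G, orderOf y = 3 → Nat.card (centralizer ({y} : Set G)) = 1080 → IsConj y a := by
      intro y hy hy2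
      rcases hcl y hy with h | h
      · exact h
      · rw [Cfsg.Agent.J2Type.Cent5.card_centralizer_of_isConj h, hcb] at hy2
        norm_num at hy2
    exact (key c hc h1080).trans (key x hx (hcx.trans h1080)).symm
  · intro h
    have hn : (zpowers c : Subgroup G).Normal := normalizer_eq_top_iff.1 h
    rcases hn.eq_bot_or_eq_top with h1 | h1
    · have : Nat.card (zpowers c : Subgroup G) = 1 := by rw [h1, card_bot]
      rw [Nat.card_zpowers, hc] at this
      norm_num at this
    · have : Nat.card (zpowers c : Subgroup G) = n_j2 := by rw [h1, card_top, card]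
      rw [Nat.card_zpowers, hc] at this
      exact absurd this (by decide)
  · rw [← h1080, ← SepJ1.cent_zpowers]
    exact card_dvd_of_le (Subgroup.centralizer_le_normalizer _)
  · intro p hp
    rw [List.mem_singleton.1 hp]
    exact (full_normalizer Nat.prime_three P).mono hle

theorem exists_three : ∃ M : Subgroup G, M ≠ ⊤ ∧ 1080 ∣ Nat.card M ∧ (∀ p ∈ [3], Full p M) := by
  obtain ⟨c, -, -, h1, h2, h3⟩ := exists_three'
  exact ⟨_, h1, h2, h3⟩

/-- the row `J2` -/
theorem five (B : Base) : Sep 5 G := by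
  have c := ctx B
  haveI := c.fin
  haveI := c.simple
  have hc := card
  haveI := Fact.mk Nat.prime_five
  haveI : Fact (Nat.Prime 7) := ⟨by norm_num⟩
  obtain ⟨t, u, F⟩ := exists_fus
  obtain ⟨P⟩ := (inferInstance : Nonempty (Sylow 5 G))
  obtain ⟨hCP, hP25, hP300, -⟩ := Cfsg.Agent.J2Type.FiveFus.sylow_five F P
  obtain ⟨R7, h7⟩ := exists_card_eq (G := G) (r := 7) (by decide +kernel) (by rw [hc]; decide +kernel)
  obtain ⟨M, hMt, hM, f3⟩ := exists_three
  obtain ⟨H, hH, -, c₁, c₂, h36, h63⟩ := Cfsg.Agent.S1624.result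
  have c7 := (cn7 h7).2
  have cH : Nat.card H = 6048 := by
    have h1 := card_mul_index H
    rw [hH, hc, show n_j2 = 6048 * 100 by decide] at h1
    exact Nat.eq_of_mul_eq_mul_right (by norm_num) h1
  have ct : Nat.card (centralizer ({t} : Set G)) = 1920 := F.cardC
  obtain ⟨S7, hS7⟩ := H904.SylOne.exists_sylow (p := 7) h7 (by rw [card]; decide +kernel)
  have f5 : ∀ p ∈ [5], Full p (normalizer ((P : Subgroup G) : Set G)) := by
    intro p hp; rw [List.mem_singleton.1 hp]
    exact full_normalizer Nat.prime_five P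
  have f7 : ∀ p ∈ [7], Full p (normalizer (R7 : Set G)) := by
    intro p hp; rw [List.mem_singleton.1 hp]
    exact full_of_card hc (by decide +kernel) (by decide +kernel) h7
  have f0 : ∀ {A : Subgroup G}, ∀ p ∈ ([] : List ℕ), Full p A := fun p hp => absurd hp List.not_mem_nil
  -- `N(5²)` and `C(t)`
  have a1 : Apart (normalizer ((P : Subgroup G) : Set G)) (centralizer ({t} : Set G)) := by
    intro g K h1 h2
    have hb' : 1920 ∣ Nat.card K := by
      rw [← ct, ← MaxCls.card_map_conj g]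
      exact card_dvd_of_le (MaxCls.map_conj_le h2)
    rcases c.over (a := 300) (b := 1920) [(3, 2), (7, 1)] [21] [5] 60 (by decide +kernel)
      (hP300.symm.dvd.trans (card_dvd_of_le h1)) hb' (fun p hp => (f5 p hp).mono h1) with h3 | h3
    · exact h3
    · exfalso
      rw [List.mem_singleton] at h3
      have h4 := index_mod_three P hP25 hCP (by rw [hP300]; norm_num) h1 (by rw [h3]; norm_num)
      rw [h3] at h4
      norm_num at h4
  -- `N(7)` and `C(t)`
  have a2 : Apart (normalizer (R7 : Set G)) (centralizer ({t} : Set G)) := by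
    intro g K h1 h2
    have hb' : 1920 ∣ Nat.card K := by
      rw [← ct, ← MaxCls.card_map_conj g]
      exact card_dvd_of_le (MaxCls.map_conj_le h2)
    rcases c.over (a := 42) (b := 1920) [(3, 2), (5, 1)] [15] [7] 60 (by decide +kernel)
      (c7.symm.dvd.trans (card_dvd_of_le h1)) hb' (fun p hp => (f7 p hp).mono h1) with h3 | h3
    · exact h3
    · exfalso
      rw [List.mem_singleton] at h3
      have h4 := card_mul_index K
      rw [h3, hc, show n_j2 = 40320 * 15 by decide] at h4
      have h5 : Nat.card K = 40320 := Nat.eq_of_mul_eq_mul_right (by norm_num) h4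
      refine not40320 (by rw [hc]; decide) hH S7 (by rw [hS7]; exact h7) (by rw [hS7]; exact c7) h5 ?_
      rw [hS7]
      exact le_normalizer.trans h1
  -- `U₃(3)` and `N(7)`
  have a3 : Apart H (normalizer (R7 : Set G)) := by
    intro g K h1 h2
    have hb' : 42 ∣ Nat.card K := by
      rw [← c7, ← MaxCls.card_map_conj g]
      exact card_dvd_of_le (MaxCls.map_conj_le h2)
    rcases c.over (a := 6048) (b := 42) [(2, 2), (5, 2)] [50] [7] 60 (by decide +kernel)
      (cH.symm.dvd.trans (card_dvd_of_le h1)) hb' (fun p hp => (f7 p hp).conj h2) with h3 | h3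
    · exact h3
    · exfalso
      rw [List.mem_singleton] at h3
      have h4 := card_mul_index K
      rw [h3, hc, show n_j2 = 12096 * 50 by decide] at h4
      have h5 : Nat.card K = 12096 := Nat.eq_of_mul_eq_mul_right (by norm_num) h4
      have h6 : (H.subgroupOf K).index = 2 := by
        have h7 := card_mul_index (H.subgroupOf K)
        rw [Nat.card_congr (subgroupOfEquivOfLe h1).toEquiv, cH, h5] at h7
        omega
      have h7 : (H.subgroupOf K).Normal := normal_of_index_eq_two h6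
      have h8 : K ≤ normalizer (H : Set G) := by
        intro k hk
        rw [mem_normalizer_iff]
        intro x
        constructor
        · intro hx
          have := h7.conj_mem ⟨x, h1 hx⟩ (mem_subgroupOf.2 hx) ⟨k, hk⟩
          exact mem_subgroupOf.1 this
        · intro hx
          have h9 := h7.conj_mem ⟨k * x * k⁻¹, h1 hx⟩ (mem_subgroupOf.2 hx) ⟨k⁻¹, K.inv_mem hk⟩
          have h10 := mem_subgroupOf.1 h9
          have h11 : k⁻¹ * (k * x * k⁻¹) * k⁻¹⁻¹ = x := by group
          change k⁻¹ * (k * x * k⁻¹) * k⁻¹⁻¹ ∈ H at h10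
          rwa [h11] at h10
      have h9 := card_dvd_of_le (h8.trans (normalizer_le hH h36 h63))
      rw [h5, cH] at h9
      norm_num at h9
  exact sep_five (ne_top hP300 (by decide +kernel)) (ne_top c7 (by decide +kernel)) hMt
    (ne_top cH (by decide +kernel)) (ne_top ct (by decide +kernel))
    (c.apart hP300.symm.dvd c7.symm.dvd [(2, 5), (3, 2)] _ _ 60 f5 f7 (by decide +kernel))
    (c.apart hP300.symm.dvd hM [(2, 4), (7, 1)] _ _ 60 f5 f3 (by decide +kernel))
    (c.apart hP300.symm.dvd cH.symm.dvd [(2, 2)] _ _ 60 f5 f0 (by decide +kernel))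
    a1
    (c.apart c7.symm.dvd hM [(2, 4), (5, 1)] _ _ 60 f7 f3 (by decide +kernel))
    a3.symm
    a2
    (c.apart hM cH.symm.dvd [(2, 2), (5, 1)] _ _ 60 f3 f0 (by decide +kernel))
    (c.apart hM ct.symm.dvd [(5, 1), (7, 1)] _ _ 60 f3 f0 (by decide +kernel))
    (c.apart cH.symm.dvd ct.symm.dvd [(5, 1)] _ _ 60 f0 f0 (by decide +kernel))

end Cfsg.Agent.H305.SepJ2
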