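import Mathlib
import Cfsg.Agent.BenderType.Inv
import Cfsg.Agent.StrongEmb.Strong
import Cfsg.Agent.S1169

/-!
# Simple groups with a strongly closed abelian 2-subgroup have Sylow 2-subgroups of class at most two
-/

set_option autoImplicit false

namespace Cfsg.Agent.H305.SylClassTwo

open Cfsg Cfsg.Agent.LieRecognition Cfsg.Agent.LieRecognition.HermHeis Cfsg.Agent.LieRecognition.PSUThreeSylow
open Cfsg.Agent.LieRecognition.SzMatrix

/-- nilpotency class at most two -/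
def C2 (P : Type*) [Group P] : Prop := ∀ a b c : P, c * (a * b * a⁻¹ * b⁻¹) = (a * b * a⁻¹ * b⁻¹) * c

theorem C2.congr {P Q : Type*} [Group P] [Group Q] (h : C2 P) (e : P ≃* Q) : C2 Q := by
  intro a b c
  apply e.symm.injective
  simp only [map_mul, map_inv]
  exact h _ _ _

theorem C2.of_comm {P : Type*} [Group P] (h : IsMulCommutative P) : C2 P :=
  fun _ _ c => h.is_comm.comm c _

theorem c2_heis {F : Type*} [Field F] [CharP F 2] {σ : F →+* F} [hσ : Fact (∀ x, σ (σ x) = x)] : C2 (Heis σ) := by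
  intro a b c
  set k := a * b * a⁻¹ * b⁻¹ with hk
  have h1 : k * (b * a) = a * b := by rw [hk]; group
  have h2 : k.a + (b.a + a.a) = a.a + b.a := congrArg Heis.a h1
  have h3 : k.a = 0 := by
    have h4 : k.a + (b.a + a.a) = 0 + (b.a + a.a) := by rw [h2]; ring
    exact add_right_cancel h4
  rw [commute_iff, h3, map_zero, mul_zero, zero_mul]

theorem c2_psu {F : Type*} [Field F] [Fintype F] {n : ℕ} (hn : 1 ≤ n)
    (hF : Fintype.card F = (2 ^ n) ^ 2) (P : Sylow 2 (PSU 3 F (2 ^ n))) :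
    C2 (P : Subgroup (PSU 3 F (2 ^ n))) := by
  have hF' : Nat.card F = (2 ^ n) ^ 2 := by rw [Nat.card_eq_fintype_card, hF]
  obtain ⟨h2, σ, hσ, hs, -, h⟩ := exists_heis_equiv F hn hF'
  obtain ⟨e⟩ := h P
  exact c2_heis.congr e

theorem c2_unip {F : Type*} [Field F] [Finite F] {θ : F →+* F} {e : ℕ} (H : Good F θ e) : C2 H.unip := by
  rintro ⟨x, hx⟩ ⟨y, hy⟩ ⟨z, hz⟩
  obtain ⟨a, a', rfl⟩ := (H.mem_unip_iff x).1 hx
  obtain ⟨b, b', rfl⟩ := (H.mem_unip_iff y).1 hy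
  obtain ⟨c, c', rfl⟩ := (H.mem_unip_iff z).1 hz
  set K : H.unip := ⟨H.u a a', hx⟩ * ⟨H.u b b', hy⟩ * (⟨H.u a a', hx⟩)⁻¹ * (⟨H.u b b', hy⟩)⁻¹ with hK
  obtain ⟨k, k', hk⟩ := (H.mem_unip_iff K).1 K.2
  have h1 : K * (⟨H.u b b', hy⟩ * ⟨H.u a a', hx⟩) = ⟨H.u a a', hx⟩ * ⟨H.u b b', hy⟩ := by rw [hK]; group
  have h2 : (K : ↥(Cfsg.Lie.Sz F e)) * (H.u b b' * H.u a a') = H.u a a' * H.u b b' := congrArg Subtype.val h1
  rw [hk, H.u_mul, H.u_mul, H.u_mul] at h2
  have h3 := (H.u_inj h2).1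
  have h4 : k = 0 := by
    have h5 : k + (b + a) = 0 + (b + a) := by rw [h3]; ring
    exact add_right_cancel h5
  apply Subtype.ext
  change H.u c c' * (K : ↥(Cfsg.Lie.Sz F e)) = (K : ↥(Cfsg.Lie.Sz F e)) * H.u c c'
  rw [hk, h4, H.u_mul, H.u_mul, map_zero, mul_zero, zero_mul, add_zero, zero_add, add_zero, add_zero, add_comm c' k']

theorem c2_sz {F : Type*} [Field F] [Fintype F] {m : ℕ} (hm : 1 ≤ m)
    (hF : Fintype.card F = 2 ^ (2 * m + 1)) (P : Sylow 2 ↥(Cfsg.Lie.Sz F (2 ^ (m + 1)))) :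
    C2 (P : Subgroup ↥(Cfsg.Lie.Sz F (2 ^ (m + 1)))) := by
  have : Fact (Nat.Prime 2) := ⟨Nat.prime_two⟩
  have H := good hF
  have hcF : Nat.card F = 2 ^ (2 * m + 1) := by rw [Nat.card_eq_fintype_card, hF]
  have hT := c2_unip H
  have hodd : ¬ 2 ∣ H.unip.index := by
    have h1 := Subgroup.card_mul_index H.unip
    rw [(S1163.result hm hF).1, H.card_unip, hcF, mul_assoc] at h1
    have h2 := Nat.eq_of_mul_eq_mul_left (by positivity) h1
    rw [h2]
    intro h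
    rcases (Nat.Prime.dvd_mul Nat.prime_two).mp h with h | h
    · have h1 : 1 ≤ 2 ^ (2 * m + 1) := Nat.one_le_two_pow
      have h2 : 2 ∣ 2 ^ (2 * m + 1) := dvd_pow_self 2 (by omega)
      omega
    · have h2 : 2 ∣ (2 ^ (2 * m + 1)) ^ 2 := dvd_pow (dvd_pow_self 2 (by omega)) (by omega)
      omega
  have hpg : IsPGroup 2 H.unip := by
    apply IsPGroup.of_card (n := (2 * m + 1) * 2)
    rw [H.card_unip, hcF, ← pow_mul]
  exact hT.congr ((hpg.toSylow hodd).equiv P)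

/-- transport along an isomorphism of the ambient group -/
theorem c2_of_equiv {G K : Type*} [Group G] [Group K] [Finite G] [Finite K] (e : G ≃* K)
    (h : ∀ P : Sylow 2 K, C2 (P : Subgroup K)) (S : Sylow 2 G) : C2 (S : Subgroup G) := by
  have : Fact (Nat.Prime 2) := ⟨Nat.prime_two⟩
  let P : Sylow 2 K := S.mapSurjective (f := (e : G →* K)) e.surjective
  have h2 : (P : Subgroup K) = Subgroup.map (e : G →* K) (S : Subgroup G) := Sylow.coe_mapSurjective _ _
  have e2 : (S : Subgroup G) ≃* (P : Subgroup K) :=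
    (e.subgroupMap (S : Subgroup G)).trans (MulEquiv.subgroupCongr h2.symm)
  exact (h P).congr e2.symm

theorem c2_of_strongly_closed {G : Type*} [Group G] [Finite G] [IsSimpleGroup G] (hna : ∃ a b : G, a * b ≠ b * a)
    (S : Sylow 2 G) (A : Subgroup G) (hA : A ≠ ⊥) (hc : ∀ x ∈ A, ∀ y ∈ A, x * y = y * x)
    (hsc : Cfsg.IsStronglyClosed A (S : Subgroup G)) : C2 (S : Subgroup G) := by
  have hAc : IsMulCommutative A := ⟨⟨fun x y => Subtype.ext (hc x x.2 y y.2)⟩⟩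
  rcases Cfsg.Agent.S1169.result S A hA hAc hsc with h1 | ⟨H, hH⟩
  · exact C2.of_comm h1
  · rcases Cfsg.Agent.StrongEmb.Strong.result hna H hH with
      ⟨F, _, _, ⟨n, hn, hF⟩, ⟨e⟩⟩ | h2 | ⟨F, _, _, n, hn, hF, ⟨e⟩⟩
    · have : CharP F 2 := by
        have hp : (2 : ℕ) ∣ Fintype.card F := by rw [hF]; exact dvd_pow_self 2 (by omega)
        obtain ⟨p, hp'⟩ := CharP.exists F
        have hpp : p.Prime := (CharP.char_is_prime_or_zero F p).resolve_right (CharP.char_ne_zero_of_finite F p)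
        obtain ⟨m, -, hm⟩ := FiniteField.card F p
        rw [hm] at hF
        have h3 : p ∣ 2 ^ n := by rw [← hF]; exact dvd_pow_self p m.ne_zero
        have h4 := (Nat.prime_dvd_prime_iff_eq hpp Nat.prime_two).1 (hpp.dvd_of_dvd_pow h3)
        rw [← h4]; exact hp'
      exact C2.of_comm (Cfsg.Agent.Classification.PSLTwoEvenSylow.sylow_comm e S)
    · obtain ⟨F, _, _, m, hm, hF, ⟨e⟩⟩ := h2
      have : Finite ↥(Cfsg.Lie.Sz F (2 ^ (m + 1))) := Finite.of_equiv G e.toEquiv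
      exact c2_of_equiv e (c2_sz hm hF) S
    · have : Finite (PSU 3 F (2 ^ n)) := Finite.of_equiv G e.toEquiv
      exact c2_of_equiv e (c2_psu (by omega) hF) S

end Cfsg.Agent.H305.SylClassTwo
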