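import Cfsg.Agent.H165.Tri
import Cfsg.Agent.H345.NHSzRee

/-!
# Transitivity of `Cond` for the Suzuki and the Ree groups (helper305, input of S4335)
-/

set_option autoImplicit false
open Cfsg
open scoped Pointwise

namespace Cfsg.Agent.H305.TriSzRee

open Cfsg.Agent.H630.NH Cfsg.Agent.H165.TriRow

universe u v

/-- If the centralizers of the non-trivial elements are nilpotent and the Sylow subgroups for odd primes are cyclic,
then `Tri` holds. -/
theorem tri_of_cn {X : Type u} [Group X] [Finite X]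
    (hC : ∀ x : X, x ≠ 1 → Group.IsNilpotent (Subgroup.centralizer ({x} : Set X)))
    (hS : ∀ p : ℕ, p.Prime → p ≠ 2 → ∀ P : Sylow p X, IsCyclic P) : Tri X := by
  refine Tri.of_torus ?_
  intro r q₁ q₂ hr h₁ h₂ hr2 h12 h22 hr1 hr2' h1ne hrd h1d h2d hc₁ hc₂
  have hrf : Fact r.Prime := ⟨hr⟩
  obtain ⟨x, hx⟩ := exists_prime_orderOf_dvd_card' r hrd
  set C := Subgroup.centralizer ({x} : Set X) with hCdef
  have hxne : x ≠ 1 := by
    rintro rfl
    rw [orderOf_one] at hx
    exact hr.one_lt.ne hx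
  have hi1 : ¬ q₁ ∣ C.index := hc₁ r (by simp) q₁ (by simp) hr1 x ⟨1, by rw [hx, pow_one]⟩
  have hi2 : ¬ q₂ ∣ C.index := hc₂ r (by simp) q₂ (by simp) hr2' x ⟨1, by rw [hx, pow_one]⟩
  -- the Hall `2'`-subgroup of `C`
  have hnil : Group.IsNilpotent C := hC x hxne
  obtain ⟨S⟩ : Nonempty (Sylow 2 C) := inferInstance
  have hSn : (S : Subgroup C).Normal := inferInstance
  have hcop : Nat.Coprime (Nat.card S) (S : Subgroup C).index := S.card_coprime_index
  obtain ⟨T, hT⟩ := Subgroup.exists_right_complement'_of_coprime hcop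
  have hTi : T.index = Nat.card S := hT.index_eq_card
  have hTc : Nat.card T = (S : Subgroup C).index := hT.symm.index_eq_card.symm
  have hTodd : ¬ 2 ∣ Nat.card T := by rw [hTc]; exact S.not_dvd_index
  have hTcyc : IsCyclic T := by
    have : IsZGroup T := by
      constructor
      intro s hsp P
      have hsf : Fact s.Prime := ⟨hsp⟩
      by_cases hs2 : s = 2
      · subst hs2
        have h1 : Nat.card P = 1 := by
          obtain ⟨k, hk⟩ := P.isPGroup'.exists_card_eq
          rcases Nat.eq_zero_or_pos k with h0 | h0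
          · rw [hk, h0, pow_zero]
          · exfalso
            apply hTodd
            exact ((dvd_pow_self 2 h0.ne').trans (by rw [← hk])).trans (Subgroup.card_subgroup_dvd_card (P : Subgroup T))
        have : Subsingleton P := (Nat.card_eq_one_iff_unique.mp h1).1
        exact isCyclic_of_subsingleton
      · -- embed into a Sylow subgroup of `X`
        set f : T →* X := C.subtype.comp T.subtype with hf
        have hfi : Function.Injective f := Subtype.val_injective.comp Subtype.val_injective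
        have hPp : IsPGroup s ((P : Subgroup T).map f) := P.isPGroup'.map _
        obtain ⟨R, hR⟩ := hPp.exists_le_sylow
        have hcyc : IsCyclic R := hS s hsp hs2 R
        have h2 : IsCyclic ((P : Subgroup T).map f) :=
          isCyclic_of_injective (Subgroup.inclusion hR) (Subgroup.inclusion_injective hR)
        exact isCyclic_of_injective ((P : Subgroup T).equivMapOfInjective f hfi).toMonoidHom
          ((P : Subgroup T).equivMapOfInjective f hfi).injective
    have : Group.IsNilpotent T := inferInstance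
    infer_instance
  have key : ∀ s : ℕ, s.Prime → s ≠ 2 → ¬ s ∣ C.index → ¬ s ∣ (T.map C.subtype).index := by
    intro s hsp hs2 hsC hd
    rw [Subgroup.index_map_subtype] at hd
    rcases hsp.dvd_mul.mp hd with h | h
    · rw [hTi] at h
      obtain ⟨k, hk⟩ := S.isPGroup'.exists_card_eq
      rw [hk] at h
      exact hs2 ((Nat.prime_dvd_prime_iff_eq hsp Nat.prime_two).mp (hsp.dvd_of_dvd_pow h))
    · exact hsC h
  refine ⟨T.map C.subtype, ?_, key q₁ h₁ h12 hi1, key q₂ h₂ h22 hi2⟩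
  have h1 : IsCyclic (T.map C.subtype) := isCyclic_of_surjective
    ((T.equivMapOfInjective C.subtype Subtype.val_injective).toMonoidHom)
    (T.equivMapOfInjective C.subtype Subtype.val_injective).surjective
  infer_instance

/-- **The Suzuki groups.** -/
theorem tri_suzuki {X : Type u} [Group X] (h : Cfsg.Lie.IsoSuzuki X) : Tri X := by
  obtain ⟨F, _, _, m, hm, hF, ⟨e⟩⟩ := h
  obtain ⟨i⟩ := Cfsg.Agent.OddCyclic.ClaimC.SzIso.iso hm hF
  refine Tri.congr (i.trans e.symm) ?_
  apply tri_of_cn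
  · intro x hx
    exact Cfsg.Agent.S0332.result hm hF x hx
  · intro p hp hp2 P
    have : Fact p.Prime := ⟨hp⟩
    exact Cfsg.Agent.S0331.result hm hF hp2 P

/-- The four cyclic Hall subgroups of the Ree groups: abstract version. -/
theorem tri_of_ti {X : Type u} [Group X] [Finite X] {ι : Type} (k n : ι → ℕ)
    (hX3 : 9 ∣ Nat.card X)
    (hA : ∀ i : ι, ∃ A : Subgroup X, IsCyclic A ∧ Nat.card A = k i ∧
      Nat.card (Subgroup.normalizer (A : Set X)) = n i ∧
      ∀ A₀ : Subgroup X, A₀ ≤ A → A₀ ≠ ⊥ → Subgroup.normalizer (A₀ : Set X) = Subgroup.normalizer (A : Set X))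
    (hn9 : ∀ i, ¬ 9 ∣ n i)
    (hcov : ∀ p : ℕ, p.Prime → p ≠ 2 → p ≠ 3 → p ∣ Nat.card X → ∃ i, p ∣ k i)
    (hsep : ∀ p : ℕ, p.Prime → p ≠ 2 → p ≠ 3 → ∀ i, p ∣ n i → ∀ M, M * k i = Nat.card X → ¬ p ∣ M) : Tri X := by
  -- a prime `p ≠ 3` with the condition for `p, s`
  have key : ∀ p : ℕ, p.Prime → p ≠ 2 → p ≠ 3 → p ∣ Nat.card X → ∃ i : ι, ∃ A : Subgroup X, IsCyclic A ∧
      Nat.card A = k i ∧ ∀ s : ℕ, s.Prime → s ≠ 2 → s ∣ Nat.card X → s ≠ p → Cond {p, s} X → s ≠ 3 ∧ ¬ s ∣ A.index := by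
    intro p hpp hp2 hp3 hpd
    have hpf : Fact p.Prime := ⟨hpp⟩
    obtain ⟨i, hi⟩ := hcov p hpp hp2 hp3 hpd
    obtain ⟨A, hAc, hAk, hAn, hAt⟩ := hA i
    rw [← hAk] at hi
    obtain ⟨x, hx⟩ := exists_prime_orderOf_dvd_card' p hi
    set C := Subgroup.centralizer ({(x : X)} : Set X) with hCdef
    have hxo : orderOf (x : X) = p := by rw [Subgroup.orderOf_coe, hx]
    have hCA : C ≤ Subgroup.normalizer (A : Set X) := by
      rw [← hAt (Subgroup.zpowers (x : X)) (by rw [Subgroup.zpowers_le]; exact x.2) ?_]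
      · intro c hc'
        rw [Subgroup.mem_centralizer_singleton_iff] at hc'
        have h1 : c ∈ Subgroup.centralizer ((Subgroup.zpowers (x : X) : Subgroup X) : Set X) := by
          rw [Subgroup.mem_centralizer_iff]
          rintro _ ⟨j, rfl⟩
          have hcomm : Commute (x : X) c := hc'.symm
          exact (hcomm.zpow_left j)
        exact Subgroup.centralizer_le_normalizer _ h1
      · rw [Ne, Subgroup.zpowers_eq_bot]
        intro h
        rw [h, orderOf_one] at hxo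
        exact hpp.one_lt.ne hxo
    have hCd : Nat.card C ∣ n i := by
      rw [← hAn]
      exact Subgroup.card_dvd_of_le hCA
    refine ⟨i, A, hAc, hAk, fun s hsp hs2 hsd hsne hc => ?_⟩
    have hs : ¬ s ∣ C.index := hc p (by simp) s (by simp) hsne.symm x ⟨1, by rw [hxo, pow_one]⟩
    have hs3 : s ≠ 3 := by
      rintro rfl
      apply hn9 i
      have h2 : 9 ∣ Nat.card C * C.index := by rw [Subgroup.card_mul_index]; exact hX3
      have h4 : Nat.Coprime 9 C.index := by
        have h5 : Nat.Coprime 3 C.index := (Nat.Prime.coprime_iff_not_dvd Nat.prime_three).mpr hs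
        exact (h5.pow_left 2)
      exact (h4.dvd_of_dvd_mul_right h2).trans hCd
    refine ⟨hs3, fun hd => ?_⟩
    have hsn : s ∣ n i := by
      have h1 : s ∣ C.index * Nat.card C := by rw [Subgroup.index_mul_card]; exact hsd
      exact ((hsp.dvd_mul.mp h1).resolve_left hs).trans hCd
    exact hsep s hsp hs2 hs3 i hsn A.index (by rw [← hAk, Subgroup.index_mul_card]) hd
  refine Tri.of_torus ?_
  intro r q₁ q₂ hr h₁ h₂ hr2 h12 h22 hr1 hr2' h1ne hrd h1d h2d hc₁ hc₂
  by_cases hr3 : r = 3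
  · exfalso
    subst hr3
    obtain ⟨i, A, -, -, h3⟩ := key q₁ h₁ h12 (Ne.symm hr1) h1d
    exact (h3 3 hr hr2 hrd hr1 (by rwa [pair_comm q₁ 3])).1 rfl
  · obtain ⟨i, A, hA1, -, h3⟩ := key r hr hr2 hr3 hrd
    exact ⟨A, inferInstance, (h3 q₁ h₁ h12 h1d (Ne.symm hr1) hc₁).2, (h3 q₂ h₂ h22 h2d (Ne.symm hr2') hc₂).2⟩

theorem tri_ree_aux {K : Type} [Field K] [Fintype K] {m : ℕ} (hm : 1 ≤ m)
    (hK : Fintype.card K = 3 ^ (2 * m + 1)) : Tri ↥(Cfsg.Lie.twistedG2 K (3 ^ m)) := by
  obtain ⟨a, b, c, d, ha, hb, hc, hd, hcd⟩ := Cfsg.Agent.H345.NHSzRee.num hm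
  have hcard := Cfsg.Agent.S1069.result hK
  have hA := Cfsg.Agent.S1158.result hm hK
  have h27 : 27 ∣ 3 ^ (2 * m + 1) := by
    have : (27 : ℕ) = 3 ^ 3 := by norm_num
    rw [this]
    exact pow_dvd_pow 3 (by omega)
  have h9r : 9 ∣ 3 ^ (m + 1) := by
    have : (9 : ℕ) = 3 ^ 2 := by norm_num
    rw [this]
    exact pow_dvd_pow 3 (by omega)
  have hprQ : ∀ s : ℕ, s.Prime → s ∣ 3 ^ (2 * m + 1) → s = 3 := fun s hs h =>
    (Nat.prime_dvd_prime_iff_eq hs Nat.prime_three).mp (hs.dvd_of_dvd_pow h)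
  have hprr : ∀ s : ℕ, s.Prime → s ∣ 3 ^ (m + 1) → s = 3 := fun s hs h =>
    (Nat.prime_dvd_prime_iff_eq hs Nat.prime_three).mp (hs.dvd_of_dvd_pow h)
  set Q := 3 ^ (2 * m + 1) with hQ
  set r := 3 ^ (m + 1) with hr
  have hcard2 : Nat.card ↥(Cfsg.Lie.twistedG2 K (3 ^ m)) = Q ^ 3 * (2 * a) * (4 * b * (c * d)) := by
    rw [hcard]
    have h1 : Q - 1 = 2 * a := by omega
    rw [h1, hcd, ← hb, ha]
    ring
  have hQ0 : 0 < Q := by positivity
  have ha0 : 0 < a := by omega
  have hb0 : 0 < b := by omega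
  have hcd0 : 0 < c * d := by rw [hcd]; omega
  have hc0 : 0 < c := Nat.pos_of_mul_pos_right hcd0 |> fun _ => by
    rcases Nat.eq_zero_or_pos c with h | h
    · rw [h, zero_mul] at hcd0; omega
    · exact h
  have hd0 : 0 < d := by rw [hd]; omega
  have hfin : Finite ↥(Cfsg.Lie.twistedG2 K (3 ^ m)) := by
    apply Nat.finite_of_card_ne_zero
    rw [hcard2]
    positivity
  -- the basic separations
  have sab : ∀ s : ℕ, s.Prime → s ≠ 2 → s ∣ a → s ∣ b → False := by
    intro s hs hs2 h1 h2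
    have h3 : s ∣ 4 * b := h2.mul_left 4
    have h4 : s ∣ 2 * a := h1.mul_left 2
    have h5 : 4 * b = 2 * a + 2 := by omega
    rw [h5] at h3
    have h6 : s ∣ 2 := (Nat.dvd_add_right h4).mp h3
    exact hs2 ((Nat.prime_dvd_prime_iff_eq hs Nat.prime_two).mp h6)
  have sacd : ∀ s : ℕ, s.Prime → s ∣ a → s ∣ c * d → False := by
    intro s hs h1 h2
    rw [hcd] at h2
    have h4 : s ∣ 2 * a * Q := (h1.mul_left 2).mul_right Q
    exact hs.one_lt.ne' (Nat.dvd_one.mp ((Nat.dvd_add_right h4).mp h2))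
  have sbcd : ∀ s : ℕ, s.Prime → s ≠ 3 → s ∣ b → s ∣ c * d → False := by
    intro s hs hs3 h1 h2
    have h3 : c * d + 2 * (4 * b) = Q * (4 * b) + 3 := by
      rw [hcd, ← hb, ha]; ring
    have h4 : s ∣ Q * (4 * b) + 3 := by
      rw [← h3]
      exact dvd_add h2 ((h1.mul_left 4).mul_left 2)
    have h5 : s ∣ 3 := (Nat.dvd_add_right ((h1.mul_left 4).mul_left Q)).mp h4
    exact hs3 ((Nat.prime_dvd_prime_iff_eq hs Nat.prime_three).mp h5)
  have scd : ∀ s : ℕ, s.Prime → s ≠ 2 → s ≠ 3 → s ∣ c → s ∣ d → False := by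
    intro s hs hs2 hs3 h1 h2
    have h3 : d = c + 2 * r := by omega
    rw [h3] at h2
    have h4 : s ∣ 2 * r := (Nat.dvd_add_right h1).mp h2
    rcases hs.dvd_mul.mp h4 with h | h
    · exact hs2 ((Nat.prime_dvd_prime_iff_eq hs Nat.prime_two).mp h)
    · exact hs3 (hprr s hs h)
  refine tri_of_ti (ι := Fin 4) (k := ![a, b, c, d]) (n := ![2 * (2 * a), 6 * (4 * b), 6 * c, 6 * d]) ?_ ?_ ?_ ?_ ?_
  · rw [hcard2]
    exact (((Dvd.intro_left 3 (by norm_num) : (9 : ℕ) ∣ 27).trans h27).trans (dvd_pow_self Q (by norm_num))).trans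
      ((dvd_mul_right _ _).trans (dvd_mul_right _ _))
  · intro i
    have e1 : (Q - 1) / 2 = a := by omega
    have e2 : (Q + 1) / 4 = b := by omega
    have e3 : Q - r + 1 = c := by omega
    have e4 : Q + r + 1 = d := hd.symm
    have e5 : Q - 1 = 2 * a := by omega
    simp only [e3, e4, e5, hb] at hA
    fin_cases i
    · exact hA (a, 2 * (2 * a)) (by simp)
    · exact hA (b, 6 * (4 * b)) (by simp)
    · exact hA (c, 6 * c) (by simp)
    · exact hA (d, 6 * d) (by simp)
  · intro i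
    have hQ9 : 9 ∣ Q := (Dvd.intro_left 3 (by norm_num) : (9 : ℕ) ∣ 27).trans h27
    fin_cases i
    · show ¬ 9 ∣ 2 * (2 * a)
      omega
    · show ¬ 9 ∣ 6 * (4 * b)
      omega
    · show ¬ 9 ∣ 6 * c
      omega
    · show ¬ 9 ∣ 6 * d
      omega
  · intro p hp hp2 hp3 hpd
    rw [hcard2] at hpd
    rcases hp.dvd_mul.mp hpd with h | h
    · rcases hp.dvd_mul.mp h with h | h
      · exact absurd (hprQ p hp (hp.dvd_of_dvd_pow h)) hp3
      · rcases hp.dvd_mul.mp h with h | h
        · exact absurd ((Nat.prime_dvd_prime_iff_eq hp Nat.prime_two).mp h) hp2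
        · exact ⟨0, h⟩
    · rcases hp.dvd_mul.mp h with h | h
      · rcases hp.dvd_mul.mp h with h | h
        · have : p ∣ 2 ^ 2 := by simpa using h
          exact absurd ((Nat.prime_dvd_prime_iff_eq hp Nat.prime_two).mp (hp.dvd_of_dvd_pow this)) hp2
        · exact ⟨1, h⟩
      · rcases hp.dvd_mul.mp h with h | h
        · exact ⟨2, h⟩
        · exact ⟨3, h⟩
  · intro s hs hs2 hs3 i hi M hM hsM
    rw [hcard2] at hM
    have h2' : ∀ j : ℕ, s ∣ 2 ^ j → False := fun j hj =>
      hs2 ((Nat.prime_dvd_prime_iff_eq hs Nat.prime_two).mp (hs.dvd_of_dvd_pow hj))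
    have hQ' : ∀ j : ℕ, s ∣ Q ^ j → False := fun j hj => hs3 (hprQ s hs (hs.dvd_of_dvd_pow hj))
    have h6 : ∀ y : ℕ, s ∣ 6 * y → s ∣ y := by
      intro y hy
      rcases hs.dvd_mul.mp hy with h | h
      · have h7 : s ∣ 2 * 3 := h
        rcases hs.dvd_mul.mp h7 with h | h
        · exact absurd ((Nat.prime_dvd_prime_iff_eq hs Nat.prime_two).mp h) hs2
        · exact absurd ((Nat.prime_dvd_prime_iff_eq hs Nat.prime_three).mp h) hs3
      · exact h
    have h2 : ∀ y : ℕ, s ∣ 2 * y → s ∣ y := fun y hy =>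
      (hs.dvd_mul.mp hy).resolve_left (fun h => h2' 1 (by simpa using h))
    have h4 : ∀ y : ℕ, s ∣ 4 * y → s ∣ y := fun y hy =>
      (hs.dvd_mul.mp hy).resolve_left (fun h => h2' 2 (by simpa using h))
    fin_cases i
    · have hi' : s ∣ a := h2 _ (h2 _ hi)
      have hM' : M * a = Q ^ 3 * (2 * a) * (4 * b * (c * d)) := hM
      have hMe : M = Q ^ 3 * (2 ^ 3 * (b * (c * d))) :=
        Nat.eq_of_mul_eq_mul_right ha0 (by rw [hM']; ring)
      rw [hMe] at hsM
      rcases hs.dvd_mul.mp hsM with h | h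
      · exact hQ' _ h
      rcases hs.dvd_mul.mp h with h | h
      · exact h2' _ h
      rcases hs.dvd_mul.mp h with h | h
      · exact sab s hs hs2 hi' h
      · exact sacd s hs hi' h
    · have hi' : s ∣ b := h4 _ (h6 _ hi)
      have hM' : M * b = Q ^ 3 * (2 * a) * (4 * b * (c * d)) := hM
      have hMe : M = Q ^ 3 * (2 ^ 3 * (a * (c * d))) :=
        Nat.eq_of_mul_eq_mul_right hb0 (by rw [hM']; ring)
      rw [hMe] at hsM
      rcases hs.dvd_mul.mp hsM with h | h
      · exact hQ' _ h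
      rcases hs.dvd_mul.mp h with h | h
      · exact h2' _ h
      rcases hs.dvd_mul.mp h with h | h
      · exact sab s hs hs2 h hi'
      · exact sbcd s hs hs3 hi' h
    · have hi' : s ∣ c := h6 _ hi
      have hM' : M * c = Q ^ 3 * (2 * a) * (4 * b * (c * d)) := hM
      have hMe : M = Q ^ 3 * (2 ^ 3 * (a * (b * d))) :=
        Nat.eq_of_mul_eq_mul_right hc0 (by rw [hM']; ring)
      rw [hMe] at hsM
      rcases hs.dvd_mul.mp hsM with h | h
      · exact hQ' _ h
      rcases hs.dvd_mul.mp h with h | h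
      · exact h2' _ h
      rcases hs.dvd_mul.mp h with h | h
      · exact sacd s hs h (hi'.mul_right d)
      rcases hs.dvd_mul.mp h with h | h
      · exact sbcd s hs hs3 h (hi'.mul_right d)
      · exact scd s hs hs2 hs3 hi' h
    · have hi' : s ∣ d := h6 _ hi
      have hM' : M * d = Q ^ 3 * (2 * a) * (4 * b * (c * d)) := hM
      have hMe : M = Q ^ 3 * (2 ^ 3 * (a * (b * c))) :=
        Nat.eq_of_mul_eq_mul_right hd0 (by rw [hM']; ring)
      rw [hMe] at hsM
      rcases hs.dvd_mul.mp hsM with h | h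
      · exact hQ' _ h
      rcases hs.dvd_mul.mp h with h | h
      · exact h2' _ h
      rcases hs.dvd_mul.mp h with h | h
      · exact sacd s hs h (hi'.mul_left c)
      rcases hs.dvd_mul.mp h with h | h
      · exact sbcd s hs hs3 h (hi'.mul_left c)
      · exact scd s hs hs2 hs3 h hi'

/-- **The Ree groups.** -/
theorem tri_ree {X : Type u} [Group X] (h : Cfsg.Lie.IsoRee X) : Tri X := by
  obtain ⟨K, _, _, m, hm, hK, ⟨e⟩⟩ := h
  exact Tri.congr e.symm (tri_ree_aux hm hK)

end Cfsg.Agent.H305.TriSzRee
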