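import Cfsg.Agent.H305.WkTools
import Cfsg.Agent.H509.WeakBlock
import Cfsg.Agent.H654.FourRows

/-!
# The row `J2` of S4095 at the prime 2 (helper305)
-/

set_option autoImplicit false
set_option linter.unusedSectionVars false
set_option linter.style.haveILetI false

namespace Cfsg.Agent.H305.WkJ2

open Subgroup Cfsg Cfsg.Agent.H516 Cfsg.Agent.H509.Weak Cfsg.Agent.H305.WkTools
open Cfsg.Agent.J2Type Cfsg.Agent.J2Type.CentQuot Cfsg.Agent.J2Type.FourSelfCent Cfsg.Agent.J2Type.Base
  Cfsg.Agent.J2Type.CentU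
open Cfsg.Agent.H652.Four Cfsg.Agent.Blocks.LocalRing Cfsg.Agent.Blocks

universe u

variable {G : Type u} [Group G] [Finite G] {z u : G}

theorem not_two_A5 : ¬ IsPGroup 2 (alternatingGroup (Fin 5)) := by
  intro h
  obtain ⟨n, hn⟩ := h.exists_card_eq
  have h1 : Nat.card (alternatingGroup (Fin 5)) = 60 := by
    rw [nat_card_alternatingGroup, Nat.card_eq_fintype_card, Fintype.card_fin]; rfl
  rw [h1] at hn
  have h2 : 3 ∣ 2 ^ n := by rw [← hn]; norm_num
  have h3 := (Nat.prime_dvd_prime_iff_eq Nat.prime_three Nat.prime_two).1 (Nat.prime_three.dvd_of_dvd_pow h2)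
  norm_num at h3

theorem card_cent_two (h : Fus z u) (t : G) (ht : orderOf t = 2) :
    Nat.card (centralizer ({t} : Set G)) = 1920 ∨ Nat.card (centralizer ({t} : Set G)) = 240 := by
  rcases h.cover t ht with h1 | h1
  · left; rw [← Cent5.card_centralizer_of_isConj h1, h.cardC]
  · right; rw [← Cent5.card_centralizer_of_isConj h1, Order.card_centralizer_u h]

/-- the elements of order 3 -/
theorem three (h : Fus z u) (w : G) (hw : orderOf w = 3) : pCore 2 ↥(centralizer ({w} : Set G)) = ⊥ ∨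
    Nat.card (centralizer ({w} : Set G)) = 36 := by
  obtain ⟨f, U, V, H0, F⟩ := CentU.main h
  obtain ⟨d, hd, -, hdH⟩ := ThreeA.exists_d h F
  have hcd := ThreeD.card_centralizer_d h F hd hdH
  obtain ⟨a, b, ha, hb, hca, hcb, hcl, -⟩ := ThreeF.main h
  have hda : IsConj d a := by
    rcases hcl d hd with h1 | h1
    · exact h1
    · have := Cent5.card_centralizer_of_isConj h1
      rw [hcd, hcb] at this
      norm_num at this
  rcases hcl w hw with h1 | h1
  swap
  · right; rw [Cent5.card_centralizer_of_isConj h1, hcb]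
  left
  refine core_of_isConj (hda.trans h1.symm) ?_
  -- `O_2(C(d)) = 1`
  haveI := ThreeA.isSimpleGroup_H0 h F
  have h60 := ThreeA.card_H0 h F
  have hle : H0 ≤ centralizer ({d} : Set G) := fun x hx => mem_centralizer_singleton_iff.2 (hdH x hx).symm
  let e := subgroupOfEquivOfLe hle
  haveI : IsSimpleGroup (H0.subgroupOf (centralizer ({d} : Set G))) := by
    haveI : Nontrivial (H0.subgroupOf (centralizer ({d} : Set G))) := e.toEquiv.nontrivial
    exact IsSimpleGroup.isSimpleGroup_of_surjective e.symm.toMonoidHom e.symm.surjective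
  have hcH : Nat.card (H0.subgroupOf (centralizer ({d} : Set G))) = 60 := by rw [Nat.card_congr e.toEquiv, h60]
  have h2 := card_core_mul_dvd (H0.subgroupOf (centralizer ({d} : Set G))) (fun h2 => by
    obtain ⟨n, hn⟩ := h2.exists_card_eq
    rw [hcH] at hn
    have h3 : 3 ∣ 2 ^ n := by rw [← hn]; norm_num
    have h4 := (Nat.prime_dvd_prime_iff_eq Nat.prime_three Nat.prime_two).1 (Nat.prime_three.dvd_of_dvd_pow h3)
    norm_num at h4)
  rw [hcH, hcd] at h2
  have h3 : Nat.card (pCore 2 ↥(centralizer ({d} : Set G))) ∣ 18 := by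
    have h4 : Nat.card (pCore 2 ↥(centralizer ({d} : Set G))) * 60 ∣ 18 * 60 := by
      rw [show 18 * 60 = 1080 by norm_num]; exact h2
    exact Nat.dvd_of_mul_dvd_mul_right (by norm_num) h4
  refine core_of_le ?_ fun t ht => ?_
  · haveI : Fact (Nat.Prime 2) := ⟨Nat.prime_two⟩
    obtain ⟨n, hn⟩ := (Lib.Cores.pCore_isPGroup (G := ↥(centralizer ({d} : Set G))) 2).exists_card_eq
    rw [hn] at h3 ⊢
    have h4 : n ≤ 1 := by
      by_contra h5
      have h6 : 2 ^ 2 ∣ 18 := (pow_dvd_pow 2 (by omega)).trans h3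
      norm_num at h6
    exact (Nat.pow_le_pow_right (by norm_num) h4).trans (by norm_num)
  · rw [hcd]
    rcases card_cent_two h t ht with h4 | h4 <;> rw [h4] <;> norm_num

/-- the elements of order 5 -/
theorem five (h : Fus z u) (w : G) (hw : orderOf w = 5) : pCore 2 ↥(centralizer ({w} : Set G)) = ⊥ := by
  haveI : Fact (Nat.Prime 5) := ⟨Nat.prime_five⟩
  haveI : Fact (Nat.Prime 2) := ⟨Nat.prime_two⟩
  have hG := Order.card_of_fus h
  obtain ⟨f, U, V, H0, F⟩ := CentU.main h
  have h60 := ThreeA.card_H0 h F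
  obtain ⟨w', hw'⟩ := exists_prime_orderOf_dvd_card' (G := H0) 5 (by rw [h60]; norm_num)
  obtain ⟨w0, hw0⟩ := exists_prime_orderOf_dvd_card' (G := centralizer ({z} : Set G)) 5 (by rw [h.cardC]; norm_num)
  have hw'5 : orderOf (w' : G) = 5 := by rw [orderOf_coe]; exact hw'
  have hw05 : orderOf (w0 : G) = 5 := by rw [orderOf_coe]; exact hw0
  have hwz : (w0 : G) * z = z * w0 := mem_centralizer_singleton_iff.mp w0.2
  have hgood := Cent5.good_of_mem h F h60 w'.2 hw'5
  have h4 := FiveFus.not_four_dvd h hw05 hwz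
  obtain ⟨-, hcl⟩ := ThreeC.five_data hG hgood hw05 (FiveFus.real_of_comm h hw05 hwz) h4
  have hsq : ∀ x : G, orderOf x = 5 → centralizer ({x ^ 2} : Set G) = centralizer ({x} : Set G) :=
    fun x hx => SylowFive.centralizer_sq hx
  have k1 : pCore 2 ↥(centralizer ({(w' : G)} : Set G)) = ⊥ := by
    obtain ⟨e⟩ := Cent5.exists_equiv_CQ h F h60 hG w'.2 hw'5
    haveI : IsSimpleGroup (alternatingGroup (Fin 5)) := alternatingGroup.isSimpleGroup (by simp)
    refine core_of_hom not_two_A5 (e.toMonoidHom.comp (QuotientGroup.mk' (cyc (w' : G))))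
      (e.surjective.comp (QuotientGroup.mk'_surjective _)) ?_
    have h5 : (e.toMonoidHom.comp (QuotientGroup.mk' (cyc (w' : G)))).ker = cyc (w' : G) := by
      rw [MonoidHom.ker_comp_of_injective _ _ e.injective, QuotientGroup.ker_mk']
    rw [h5, card_cyc, hw'5]
    decide
  have k2 : pCore 2 ↥(centralizer ({(w0 : G)} : Set G)) = ⊥ := by
    refine core_of_le ?_ fun t ht hd => ?_
    · obtain ⟨n, hn⟩ := (Lib.Cores.pCore_isPGroup (G := ↥(centralizer ({(w0 : G)} : Set G))) 2).exists_card_eq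
      have h5 := card_subgroup_dvd_card (pCore 2 ↥(centralizer ({(w0 : G)} : Set G)))
      rw [hn] at h5 ⊢
      have h6 : n ≤ 1 := by
        by_contra h7
        exact h4 ((pow_dvd_pow 2 (by omega : 2 ≤ n)).trans h5)
      exact (Nat.pow_le_pow_right (by norm_num) h6).trans (by norm_num)
    · have h5 : 25 ∣ Nat.card (centralizer ({(w0 : G)} : Set G)) := by
        have h6 : IsPGroup 5 (zpowers (w0 : G)) := IsPGroup.of_card (n := 1) (by rw [Nat.card_zpowers, hw05, pow_one])
        obtain ⟨P, hP⟩ := h6.exists_le_sylow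
        rw [← SylowFive.card_sylow_five hG P]
        exact card_dvd_of_le (SylowFive.sylow_le_centralizer hG P (hP (mem_zpowers _)))
      have h6 := h5.trans hd
      rcases card_cent_two h t ht with h7 | h7 <;> rw [h7] at h6 <;> norm_num at h6
  rcases hcl w hw with h5 | h5 | h5 | h5
  · exact core_of_isConj h5 k1
  · refine core_of_isConj h5 ?_
    rw [hsq _ hw'5]; exact k1
  · exact core_of_isConj h5 k2
  · refine core_of_isConj h5 ?_
    rw [hsq _ hw05]; exact k2

/-- the elements of order 7 -/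
theorem seven (h : Fus z u) (w : G) (hw : orderOf w = 7) : Nat.card (centralizer ({w} : Set G)) = 7 := by
  haveI : Fact (Nat.Prime 7) := ⟨by norm_num⟩
  have hG := Order.card_of_fus h
  have h6 : IsPGroup 7 (zpowers w) := IsPGroup.of_card (n := 1) (by rw [Nat.card_zpowers, hw, pow_one])
  obtain ⟨P, hP⟩ := h6.exists_le_sylow
  have h7 : Nat.card (P : Subgroup G) = 7 := by
    have := SylowSeven.card_sylow P 1 86400 (by rw [hG]; norm_num) (by norm_num)
    simpa using this
  have h8 : zpowers w = (P : Subgroup G) := eq_of_le_of_card_ge hP (by rw [h7, Nat.card_zpowers, hw])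
  have h9 := (ThreeF.sylow_seven h P).1
  rw [← h8] at h9
  have h10 : centralizer ({w} : Set G) = centralizer ((zpowers w : Subgroup G) : Set G) := by
    rw [zpowers_eq_closure, centralizer_closure]
  rw [h10, h9, Nat.card_zpowers, hw]

/-- `5² : 3` -/
theorem exists_Q (h : Fus z u) : ∃ Q : Subgroup G, Nat.card Q = 75 := by
  haveI : Fact (Nat.Prime 5) := ⟨Nat.prime_five⟩
  haveI : Fact (Nat.Prime 3) := ⟨Nat.prime_three⟩
  obtain ⟨P⟩ : Nonempty (Sylow 5 G) := inferInstance
  obtain ⟨-, h25, h300, -⟩ := FiveFus.sylow_five h P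
  set N := normalizer ((P : Subgroup G) : Set G) with hN
  have hP : (P : Subgroup G) ≤ N := le_normalizer
  haveI hn : ((P : Subgroup G).subgroupOf N).Normal := normal_in_normalizer
  have h1 : Nat.card ((P : Subgroup G).subgroupOf N) = 25 := by
    rw [Nat.card_congr (subgroupOfEquivOfLe hP).toEquiv]
    exact h25
  have h2 := Subgroup.card_eq_card_quotient_mul_card_subgroup ((P : Subgroup G).subgroupOf N)
  rw [h300, h1] at h2
  have h3 : Nat.card (N ⧸ (P : Subgroup G).subgroupOf N) = 12 := by omega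
  obtain ⟨x, hx⟩ := exists_prime_orderOf_dvd_card' (G := N ⧸ (P : Subgroup G).subgroupOf N) 3 (by rw [h3]; norm_num)
  refine ⟨((zpowers x).comap (QuotientGroup.mk' ((P : Subgroup G).subgroupOf N))).map N.subtype, ?_⟩
  rw [card_map_of_injective N.subtype_injective, SylowFive.card_comap_mk', Nat.card_zpowers, hx, h1]

theorem factA (h : Fus z u) : FactA G := by
  obtain ⟨Q, hQ⟩ := exists_Q h
  refine ⟨Q, by rw [hQ]; decide, fun w hw hw2 => ?_⟩
  have hG := Order.card_of_fus h
  have h1 : orderOf w ∈ Nat.primeFactors 604800 :=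
    Nat.mem_primeFactors.2 ⟨hw, by rw [← hG]; exact orderOf_dvd_natCard w, by norm_num⟩
  have h2 : Nat.primeFactors 604800 = {2, 3, 5, 7} := by decide +kernel
  rw [h2] at h1
  simp only [Finset.mem_insert, Finset.mem_singleton] at h1
  rcases h1 with h1 | h1 | h1 | h1
  · exact absurd h1 hw2
  · rcases three h w h1 with h3 | h3
    · exact Or.inl h3
    · right; rw [h3, hQ]; norm_num
  · exact Or.inl (five h w h1)
  · right; rw [seven h w h1, hQ]; norm_num

/-- **The row `J2`.** -/
theorem row {L : Type u} [Group L] [Finite L] (h : Cfsg.Spor.IsoJ2 L) (B : Cfsg.Agent.H509.Weak.Base L) :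
    Cfsg.Agent.H516.Row 2 L := by
  obtain ⟨z, u, Q, v, ρ, D⟩ := Cfsg.Agent.KFacts.J2.Facts.exists_dat_of h
  have hF := D.F
  rw [row_iff]
  intro a ha
  by_contra hne
  have W : Wk a := { B with bad := ha, ne := hne }
  obtain ⟨n, hn⟩ := W.two_of_factA (factA hF)
  obtain ⟨f, U, V, H0, F⟩ := CentU.main hF
  have h60 := ThreeA.card_H0 hF F
  obtain ⟨d, hd, -, hdH⟩ := ThreeA.exists_d hF F
  have hcf := ThreeD.card_centralizer_f hF F hd hdH
  obtain ⟨a', b', -, -, hca, hcb, hcl, -⟩ := ThreeF.main hF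
  have hfb : ∀ x : L, orderOf x = 3 → Nat.card (centralizer ({x} : Set L)) = 36 → IsConj x b' := by
    intro x hx hcx
    rcases hcl x hx with h1 | h1
    · have := Cent5.card_centralizer_of_isConj h1
      rw [hcx, hca] at this
      norm_num at this
    · exact h1
  obtain ⟨e⟩ := Cent5.exists_equiv hF F h60
  -- the class of `f`
  have hinv : ∀ β : MulAut L, ∀ y ∈ {y : L | IsConj f y}, β y ∈ {y : L | IsConj f y} := by
    intro β y hy
    have h1 : orderOf (β y) = 3 := by
      rw [MulEquiv.orderOf_eq, ← SylowFive.orderOf_eq_of_isConj hy]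
      exact F.f_ord
    have h2 : Nat.card (centralizer ({β y} : Set L)) = 36 := by
      rw [← Nat.card_congr (centEquiv β y).toEquiv, ← Cent5.card_centralizer_of_isConj hy, hcf]
    exact (hfb f F.f_ord hcf).trans (hfb _ h1 h2).symm
  obtain ⟨M, hM⟩ := exists_two_modular
  have hNN : NN M (ind {y : L | IsConj f y}) := by
    have h1 : (ind {y : L | IsConj f y} : L → ℂ) = cl f := by
      ext y
      by_cases hy : IsConj f y
      · rw [cl_pos hy]; exact ind_pos hy
      · rw [cl_neg hy]; exact ind_neg hy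
    rw [h1]
    refine Cfsg.Agent.H654.FourStep.nn_of_alt_five hM hF.hu H0 F.str.le F.str.conj_mem (fun g hg h3 => ?_) e
      F.f_ord F.f_mem
    have h4 : g = (g * g)⁻¹ := eq_inv_of_mul_eq_one_right h3
    rw [h4]
    exact inv_mem (F.str.sq_mem g hg)
  obtain ⟨y, hy, hay⟩ := W.exists_fix_of_nn hn hinv hM hNN
  -- the four-group
  obtain ⟨g, rfl⟩ := isConj_iff.1 (show IsConj f y from hy)
  have h3' : orderOf (⟨f, F.f_mem⟩ : H0) = 3 := by rw [← orderOf_coe]; exact F.f_ord
  have hcent := Cent5.cent_VH hF F h60 F.f_mem (fun x hx hxw => by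
    rcases Cent5.mem_zpowers_of_comm3 e (g := (⟨f, F.f_mem⟩ : H0)) (x := ⟨x, hx⟩) h3' (Subtype.ext hxw) with
      h1 | h1 | h1
    · exact ⟨0, by rw [zpow_zero]; exact congrArg Subtype.val h1⟩
    · exact ⟨1, by rw [zpow_one]; exact congrArg Subtype.val h1⟩
    · refine ⟨2, ?_⟩
      have h2 : x = f ^ (2 : ℕ) := congrArg Subtype.val h1
      rw [h2]; norm_cast)
  refine four W hn hay (p := 3) (by decide) ?_ ?_ (V := V.map (MulAut.conj g).toMonoidHom) ?_ ?_ ?_ ?_
  · rw [← SylowFive.orderOf_eq_of_isConj (isConj_iff.2 ⟨g, rfl⟩)]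
    exact F.f_ord
  · rw [← Cent5.card_centralizer_of_isConj (isConj_iff.2 ⟨g, rfl⟩ : IsConj f (g * f * g⁻¹)), hcf]
  · rw [card_map_of_injective (MulAut.conj g).injective]; exact F.cardV
  · rintro _ ⟨x, hx, rfl⟩
    change (g * x * g⁻¹) * (g * x * g⁻¹) = 1
    have h1 : (g * x * g⁻¹) * (g * x * g⁻¹) = g * (x * x) * g⁻¹ := by group
    rw [h1, Cent5.sq_V hF F hx]; group
  · rintro _ ⟨x, hx, rfl⟩
    change (g * x * g⁻¹) * (g * f * g⁻¹) = (g * f * g⁻¹) * (g * x * g⁻¹)
    have h1 : (g * x * g⁻¹) * (g * f * g⁻¹) = g * (x * f) * g⁻¹ := by group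
    rw [h1, Cent5.V_comm hF F h60 hx F.f_mem]; group
  · rintro _ ⟨x, hx, rfl⟩ hx1 s hs hsf
    have hx1' : x ≠ 1 := by rintro rfl; exact hx1 (map_one _)
    change s * (g * x * g⁻¹) = (g * x * g⁻¹) * s at hs
    obtain ⟨w, hw, k, hk⟩ := hcent x hx hx1' (g⁻¹ * s * g) (by
        calc g⁻¹ * s * g * x = g⁻¹ * (s * (g * x * g⁻¹)) * g := by group
          _ = x * (g⁻¹ * s * g) := by rw [hs]; group) (by
        calc g⁻¹ * s * g * f = g⁻¹ * (s * (g * f * g⁻¹)) * g := by group
          _ = f * (g⁻¹ * s * g) := by rw [hsf]; group)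
    refine ⟨g * w * g⁻¹, ⟨w, hw, rfl⟩, k, ?_⟩
    have h1 : s = g * (g⁻¹ * s * g) * g⁻¹ := by group
    rw [h1, hk, conj_zpow]; group

end Cfsg.Agent.H305.WkJ2
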