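import Cfsg.Agent.H509.Weak
import Cfsg.Agent.J2Type.CentQuot
import Cfsg.Agent.J2Type.FourSelfCent

/-!
# S4095 at the prime 2: tools for the sporadic rows (helper305)

* `Wk.four` : `a` (of 2-power order) fixes no `y` of odd order with `|C(y)| = 12 * |y|` and a four-group `V ≤ C(y)` such
  that `C(y) ∩ C(v) = V ⟨y⟩` for `1 ≠ v ∈ V` (so `C(y)/⟨y⟩ ≅ A₄`);
* `core_of_isConj` : conjugates; `core_of_hom` : `O_2(C) = 1` if `C` maps onto a simple group which is not a 2-group, with
  kernel of odd order; `core_of_le` : `O_2(C(w)) = 1` if `|O_2| ≤ 2` and `|C(w)|` does not divide the orders of the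
  centralizers of the involutions; `card_core_mul_dvd` : `|O_2(C)| * |H| ∣ |C|` for a simple subgroup `H` which is not a
  2-group.
-/

set_option autoImplicit false
set_option linter.unusedSectionVars false
set_option linter.style.haveILetI false

namespace Cfsg.Agent.H305.WkTools

open Subgroup Cfsg Cfsg.Agent.H516 Cfsg.Agent.H509.Weak
open Cfsg.Agent.J2Type.CentQuot Cfsg.Agent.J2Type.FourSelfCent

universe u

section Four

variable {K : Type*} [Group K] [Finite K]

/-- in `A₄`: a bad automorphism of 2-power order is an involution and trivial on `O_2` -/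
theorem sq_eq_one_of_hyp {U : Subgroup K} (hU : Hyp U) (hK : Nat.card K = 12) {b : MulAut K} {n : ℕ}
    (hb : b ^ 2 ^ n = 1) (hbad : ∀ s : K, (b s)⁻¹ * s ∈ U) : ∀ s : K, b (b s) = s := by
  classical
  have hN : normalizer (U : Set K) = ⊤ := by
    rcases hU.card_normalizer with h | h
    · exact absurd (hU.card_eq_four h) (by rw [hK]; norm_num)
    · exact eq_top_of_card_eq _ (by rw [h, hK])
  have hconj : ∀ g u : K, u ∈ U → g * u * g⁻¹ ∈ U := fun g u hu =>
    (mem_normalizer_iff.1 (show g ∈ normalizer (U : Set K) by rw [hN]; exact mem_top g) u).1 hu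
  have hcomm : ∀ u ∈ U, ∀ v ∈ U, u * v = v * u := fun u hu v hv => hU.comm hu hv
  -- a fixed involution
  have hev := even_fixed (L := K) (a := b) (by rw [hK]; decide) hb
  haveI : Fact (Nat.Prime 2) := ⟨Nat.prime_two⟩
  obtain ⟨v, hv⟩ := exists_prime_orderOf_dvd_card' (G := fixedSubgroup b) 2 hev.two_dvd
  have hv2 : orderOf (v : K) = 2 := by rw [orderOf_coe]; exact hv
  have hbv : b (v : K) = v := v.2
  have hvv : (v : K) * v = 1 := by rw [← pow_two, ← hv2, pow_orderOf_eq_one]
  have hv1 : (v : K) ≠ 1 := by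
    intro h
    rw [h, orderOf_one] at hv2
    norm_num at hv2
  have hvU : (v : K) ∈ U := by
    obtain ⟨g, hg⟩ := hU.exists_conj_mem hvv
    have h1 := hconj g _ hg
    have h2 : g * (g⁻¹ * v * g) * g⁻¹ = v := by group
    rwa [h2] at h1
  -- a second fixed involution
  obtain ⟨s, hs⟩ : ∃ s : K, s ∉ U := by
    by_contra hcon
    push Not at hcon
    have h1 : U = ⊤ := by rw [eq_top_iff]; exact fun x _ => hcon x
    have h2 := hU.card4
    rw [h1, card_top, hK] at h2
    norm_num at h2
  have hbs : ∀ s : K, b s = s * ((b s)⁻¹ * s)⁻¹ := fun s => by group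
  have hfix2 : b (s * v * s⁻¹) = s * v * s⁻¹ := by
    have h1 := hcomm _ (U.inv_mem (hbad s)) _ hvU
    rw [map_mul, map_mul, map_inv, hbv, hbs s]
    calc s * ((b s)⁻¹ * s)⁻¹ * v * (s * ((b s)⁻¹ * s)⁻¹)⁻¹
        = s * (((b s)⁻¹ * s)⁻¹ * v) * ((b s)⁻¹ * s) * s⁻¹ := by group
      _ = s * (v * ((b s)⁻¹ * s)⁻¹) * ((b s)⁻¹ * s) * s⁻¹ := by rw [h1]
      _ = s * v * s⁻¹ := by group
  have hne : s * v * s⁻¹ ≠ v := by
    intro h
    apply hs
    apply hU.cent _ hvU hv1
    exact mul_inv_eq_iff_eq_mul.1 h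
  have hsU : s * v * s⁻¹ ∈ U := hconj s _ hvU
  -- `U` is fixed
  have hfixU : U ≤ fixedSubgroup b := by
    have h1 : U ⊓ fixedSubgroup b = U := by
      have h2 : Nat.card (U ⊓ fixedSubgroup b : Subgroup K) ∣ 4 := by
        rw [← hU.card4]
        exact card_dvd_of_le inf_le_left
      have h3 : 3 ≤ Nat.card (U ⊓ fixedSubgroup b : Subgroup K) := by
        have h4 : ({1, (v : K), s * v * s⁻¹} : Finset K).card = 3 := by
          rw [Finset.card_insert_of_notMem, Finset.card_insert_of_notMem, Finset.card_singleton]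
          · rw [Finset.mem_singleton]
            exact fun h => hne h.symm
          · rw [Finset.mem_insert, Finset.mem_singleton]
            rintro (h | h)
            · exact hv1 h.symm
            · apply hv1
              have h5 : (v : K) = s⁻¹ * (s * v * s⁻¹) * s := by group
              rw [h5, ← h]
              group
        have h5 : (({1, (v : K), s * v * s⁻¹} : Finset K) : Set K) ⊆ (U ⊓ fixedSubgroup b : Subgroup K) := by
          intro x hx
          rw [Finset.coe_insert, Finset.coe_insert, Finset.coe_singleton] at hx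
          rcases hx with rfl | rfl | rfl
          · exact one_mem _
          · exact ⟨hvU, hbv⟩
          · exact ⟨hsU, hfix2⟩
        have h6 := Set.ncard_le_ncard h5 (Set.toFinite _)
        rw [Set.ncard_coe_finset, h4] at h6
        exact h6
      have h4 : Nat.card (U ⊓ fixedSubgroup b : Subgroup K) = 4 := by
        have h5 := Nat.le_of_dvd (by norm_num) h2
        interval_cases h6 : Nat.card (U ⊓ fixedSubgroup b : Subgroup K)
        · norm_num at h2
        · rfl
      exact eq_of_le_of_card_ge inf_le_left (by rw [h4, hU.card4])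
    rw [← h1]
    exact inf_le_right
  intro s
  have h1 : b ((b s)⁻¹ * s) = (b s)⁻¹ * s := hfixU (hbad s)
  rw [map_mul, map_inv] at h1
  have h2 := hU.sq _ (hbad s)
  calc b (b s) = b s * ((b (b s))⁻¹ * b s)⁻¹ := by group
    _ = b s * ((b s)⁻¹ * s)⁻¹ := by rw [h1]
    _ = b s * ((b s)⁻¹ * s) := by rw [← eq_inv_of_mul_eq_one_left h2]
    _ = s := by group

/-- **a bad automorphism of 2-power order fixes no `y` with `C(y)/⟨y⟩ ≅ A₄`** -/
theorem four {L : Type u} [Group L] [Finite L] {a : MulAut L} (W : Wk a) {n : ℕ} (ha : a ^ 2 ^ n = 1) {y : L}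
    (hay : a y = y) {p : ℕ} (hp2 : Odd p) (hy : orderOf y = p)
    (hc : Nat.card (centralizer ({y} : Set L)) = 12 * p) {V : Subgroup L} (hV : Nat.card V = 4)
    (hsq : ∀ v ∈ V, v * v = 1) (hVy : ∀ v ∈ V, v * y = y * v)
    (hcent : ∀ v ∈ V, v ≠ 1 → ∀ x, x * v = v * x → x * y = y * x → ∃ w ∈ V, ∃ k : ℤ, x = w * y ^ k) : False := by
  have hU := hyp_im hp2 hy hV hsq hVy hcent
  set C := centralizer ({y} : Set L) with hC
  set U := im y V with hUdef
  have hK : Nat.card (CQ y) = 12 := by
    have h1 := card_centralizer_eq y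
    rw [← hC, hc, hy] at h1
    exact (Nat.eq_of_mul_eq_mul_right hp2.pos h1).symm
  have hN : normalizer (U : Set (CQ y)) = ⊤ := by
    rcases hU.card_normalizer with h | h
    · exact absurd (hU.card_eq_four h) (by rw [hK]; norm_num)
    · exact eq_top_of_card_eq _ (by rw [h, hK])
  have hconj : ∀ g u : CQ y, u ∈ U → g * u * g⁻¹ ∈ U := fun g u hu =>
    (mem_normalizer_iff.1 (show g ∈ normalizer (U : Set (CQ y)) by rw [hN]; exact mem_top g) u).1 hu
  have hmap : C.map a.toMonoidHom = C := map_centralizer hay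
  have haC : ∀ s ∈ C, a s ∈ C := by
    intro s hs
    rw [← hmap]
    exact ⟨s, hs, rfl⟩
  -- the automorphism of `C`
  let e : C ≃* C := (a.subgroupMap C).trans (MulEquiv.subgroupCongr hmap)
  have he : ∀ s : C, ((e s : C) : L) = a s := fun s => rfl
  have hcyc : (cyc y).map e.toMonoidHom = cyc y := by
    have h1 : (cyc y).map e.toMonoidHom ≤ cyc y := by
      rintro _ ⟨s, hs, rfl⟩
      rw [SetLike.mem_coe, mem_cyc] at hs
      rw [mem_cyc]
      obtain ⟨k, hk⟩ := mem_zpowers_iff.1 hs
      refine mem_zpowers_iff.2 ⟨k, ?_⟩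
      have h2 : ((e.toMonoidHom s : C) : L) = a s := rfl
      rw [h2, ← hk, map_zpow, hay]
    exact eq_of_le_of_card_ge h1 (card_map_of_injective e.injective).ge
  let b : MulAut (CQ y) := QuotientGroup.congr (cyc y) (cyc y) e hcyc
  have hb : ∀ s : C, b (s : CQ y) = ((e s : C) : CQ y) := fun s => rfl
  have hbn : b ^ 2 ^ n = 1 := by
    have h1 : ∀ (i : ℕ) (s : C), (b ^ i) (s : CQ y) = (((e : MulAut C) ^ i) s : C) := by
      intro i s
      induction i with
      | zero => rw [pow_zero, pow_zero]; rfl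
      | succ i ih => rw [pow_succ', MulAut.mul_apply, ih, hb, pow_succ', MulAut.mul_apply]
    have h2 : ∀ (i : ℕ) (s : C), ((((e : MulAut C) ^ i) s : C) : L) = (a ^ i) s := by
      intro i s
      induction i with
      | zero => rw [pow_zero, pow_zero]; rfl
      | succ i ih => rw [pow_succ', MulAut.mul_apply, he, ih, pow_succ', MulAut.mul_apply]
    ext x
    obtain ⟨s, rfl⟩ := QuotientGroup.mk_surjective x
    rw [h1, MulAut.one_apply]
    congr 1
    apply Subtype.ext
    rw [h2, ha, MulAut.one_apply]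
  -- involutions of `C/⟨y⟩` lie in `U`
  have hinv : ∀ x : CQ y, x * x = 1 → x ∈ U := by
    intro x hx
    obtain ⟨g, hg⟩ := hU.exists_conj_mem hx
    have h1 := hconj g _ hg
    have h2 : g * (g⁻¹ * x * g) * g⁻¹ = x := by group
    rwa [h2] at h1
  have hbad : ∀ x : CQ y, (b x)⁻¹ * x ∈ U := by
    intro x
    obtain ⟨s, rfl⟩ := QuotientGroup.mk_surjective x
    rw [hb]
    set c : C := (e s)⁻¹ * s with hcdef
    have h0 : ((e s : C) : CQ y)⁻¹ * (s : CQ y) = (c : CQ y) := rfl
    rw [h0]
    have h1 : (c : L) = (a s)⁻¹ * s := rfl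
    rcases W.bad s with h2 | h2
    · have h3 : c = 1 := Subtype.ext (h1.trans h2)
      rw [h3]
      exact one_mem _
    · -- an involution commuting with `c`
      rw [← h1] at h2
      obtain ⟨k, hk⟩ := h2
      have hpos := orderOf_pos (c : L)
      have hk0 : 0 < k := by omega
      set v : C := c ^ k with hv
      have hvL : (v : L) = (c : L) ^ k := rfl
      have hvv : (v : L) * v = 1 := by
        rw [hvL, ← pow_add, ← two_mul, ← hk, pow_orderOf_eq_one]
      have hv1 : (v : L) ≠ 1 := by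
        rw [hvL]
        exact pow_ne_one_of_lt_orderOf hk0.ne' (by omega)
      have hvU : (v : CQ y) ∈ U := by
        apply hinv
        have h3 : v * v = 1 := Subtype.ext hvv
        change ((v * v : C) : CQ y) = 1
        rw [h3]
        rfl
      have hvne : (v : CQ y) ≠ 1 := by
        intro h3
        rw [Cfsg.Agent.J2Type.CentQuot.mk_eq_one] at h3
        exact hv1 (eq_one_of_sq_of_mem_zpowers hp2 hy hvv h3)
      refine hU.cent _ hvU hvne _ ?_
      change ((c * v : C) : CQ y) = ((v * c : C) : CQ y)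
      rw [hv, ← pow_succ, ← pow_succ']
  have hbb := sq_eq_one_of_hyp hU hK hbn hbad
  -- `a * a` is inner
  obtain ⟨s0, hs0⟩ := W.sq a
  have hs0C : s0 ∈ C := by
    have h1 : (a * a) y = y := by rw [MulAut.mul_apply, hay, hay]
    rw [hs0, MulAut.conj_apply, mul_inv_eq_iff_eq_mul] at h1
    exact mem_centralizer_singleton_iff.2 h1
  have hcomm : ∀ s : C, (s : CQ y) * ((⟨s0, hs0C⟩ : C) : CQ y) = ((⟨s0, hs0C⟩ : C) : CQ y) * s := by
    intro s
    have h1 := hbb (s : CQ y)
    rw [hb, hb] at h1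
    have h2 : e (e s) = (⟨s0, hs0C⟩ : C) * s * (⟨s0, hs0C⟩ : C)⁻¹ := by
      apply Subtype.ext
      have h3 : ((e (e s) : C) : L) = (a * a) s := rfl
      rw [h3, hs0]
      rfl
    rw [h2] at h1
    have h3 : ((⟨s0, hs0C⟩ : C) : CQ y) * s * ((⟨s0, hs0C⟩ : C) : CQ y)⁻¹ = s := h1
    exact (mul_inv_eq_iff_eq_mul.1 h3).symm
  have hone : ((⟨s0, hs0C⟩ : C) : CQ y) = 1 := by
    by_contra hne
    obtain ⟨u0, hu0, hu01⟩ := hU.exists_ne_one
    have h1 : ((⟨s0, hs0C⟩ : C) : CQ y) ∈ U := by
      refine hU.cent u0 hu0 hu01 _ ?_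
      obtain ⟨s, rfl⟩ := QuotientGroup.mk_surjective u0
      exact (hcomm s).symm
    have h2 : U = ⊤ := by
      rw [eq_top_iff]
      intro x _
      obtain ⟨s, rfl⟩ := QuotientGroup.mk_surjective x
      exact hU.cent _ h1 hne _ (hcomm s)
    have h3 := hU.card4
    rw [h2, card_top, hK] at h3
    norm_num at h3
  rw [Cfsg.Agent.J2Type.CentQuot.mk_eq_one] at hone
  have h2 : s0 ^ 2 ^ n = 1 := by
    apply conj_injective W.center
    rw [map_pow, ← hs0, map_one, ← pow_two, ← pow_mul, mul_comm, pow_mul, ha, one_pow]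
  have h3 : orderOf s0 ∣ p := by rw [← hy]; exact orderOf_dvd_of_mem_zpowers hone
  have h4 : orderOf s0 ∣ 2 ^ n := orderOf_dvd_of_pow_eq_one h2
  have h5 : Nat.Coprime p (2 ^ n) := (Nat.coprime_two_right.2 hp2).pow_right n
  have h6 : orderOf s0 = 1 := Nat.eq_one_of_dvd_coprimes h5 h3 h4
  rw [orderOf_eq_one_iff] at h6
  apply W.sq_ne_one
  rw [hs0, h6, map_one]

end Four

section Core

variable {G : Type*} [Group G]

theorem core_of_isConj {x y : G} (h : IsConj x y) (hO : pCore 2 ↥(centralizer ({x} : Set G)) = ⊥) :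
    pCore 2 ↥(centralizer ({y} : Set G)) = ⊥ := by
  obtain ⟨c, rfl⟩ := isConj_iff.1 h
  exact pCore_equiv (centEquiv (MulAut.conj c) x) hO

/-- `O_2(C) = 1` if `C` maps onto a simple group which is not a 2-group, with kernel of odd order -/
theorem core_of_hom [Finite G] {A : Type*} [Group A] [Finite A] [IsSimpleGroup A] (hA : ¬ IsPGroup 2 A) (f : G →* A)
    (hf : Function.Surjective f) (hk : Odd (Nat.card f.ker)) : pCore 2 G = ⊥ := by
  have h1 : ((pCore 2 G).map f).Normal := (Lib.Cores.pCore_normal 2).map f hf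
  have h2 : (pCore 2 G).map f = ⊥ := by
    rcases h1.eq_bot_or_eq_top with h | h
    · exact h
    · exfalso
      apply hA
      have h3 : IsPGroup 2 ↥((pCore 2 G).map f) := (Lib.Cores.pCore_isPGroup (G := G) 2).map f
      rw [h] at h3
      intro g
      obtain ⟨k, hk⟩ := h3 ⟨g, mem_top g⟩
      exact ⟨k, congrArg Subtype.val hk⟩
  have h3 : pCore 2 G ≤ f.ker := by rwa [← Subgroup.map_eq_bot_iff]
  have h4 := card_dvd_of_le h3
  have hf2 : Fact (Nat.Prime 2) := ⟨Nat.prime_two⟩
  obtain ⟨n, hn⟩ := (Lib.Cores.pCore_isPGroup (G := G) 2).exists_card_eq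
  have h5 : n = 0 := by
    by_contra h6
    apply Nat.not_even_iff_odd.2 hk
    exact even_iff_two_dvd.2 (((dvd_pow_self 2 h6).trans (dvd_of_eq hn.symm)).trans h4)
  rw [h5, pow_zero] at hn
  exact eq_bot_of_card_eq _ hn

/-- `|O_2(C)| * |H| ∣ |C|` for a simple subgroup `H` which is not a 2-group -/
theorem card_core_mul_dvd [Finite G] (H : Subgroup G) [IsSimpleGroup H] (hH : ¬ IsPGroup 2 H) :
    Nat.card (pCore 2 G) * Nat.card H ∣ Nat.card G := by
  have h1 : ((pCore 2 G).subgroupOf H).Normal := inferInstance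
  have h2 : (pCore 2 G).subgroupOf H = ⊥ := by
    rcases h1.eq_bot_or_eq_top with h | h
    · exact h
    · exfalso
      apply hH
      rw [subgroupOf_eq_top] at h
      exact (Lib.Cores.pCore_isPGroup (G := G) 2).to_le h
  rw [subgroupOf_eq_bot] at h2
  have h3 : Nat.card H = Nat.card (H.map (QuotientGroup.mk' (pCore 2 G))) := by
    have h4 : Function.Injective ((QuotientGroup.mk' (pCore 2 G)).comp H.subtype) := by
      rw [injective_iff_map_eq_one]
      intro x hx
      have h5 : (x : G) ∈ pCore 2 G := (QuotientGroup.eq_one_iff (x : G)).1 hx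
      exact Subtype.ext ((disjoint_iff_inf_le.1 h2 ⟨h5, x.2⟩ : (x : G) ∈ (⊥ : Subgroup G)))
    have h5 := Nat.card_congr (MonoidHom.ofInjective h4).toEquiv
    rw [MonoidHom.range_comp, range_subtype] at h5
    exact h5
  rw [h3, Subgroup.card_eq_card_quotient_mul_card_subgroup (pCore 2 G), mul_comm]
  exact Nat.mul_dvd_mul_right (card_subgroup_dvd_card _) _

/-- `O_2(C(w)) = 1` if `|O_2| ≤ 2` and `|C(w)|` does not divide the orders of the centralizers of the involutions -/
theorem core_of_le [Finite G] {w : G} (h : Nat.card (pCore 2 ↥(centralizer ({w} : Set G))) ≤ 2)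
    (hinv : ∀ t : G, orderOf t = 2 →
      ¬ Nat.card (centralizer ({w} : Set G)) ∣ Nat.card (centralizer ({t} : Set G))) :
    pCore 2 ↥(centralizer ({w} : Set G)) = ⊥ := by
  by_contra hne
  haveI : Fact (Nat.Prime 2) := ⟨Nat.prime_two⟩
  set R := pCore 2 ↥(centralizer ({w} : Set G)) with hR
  haveI hnt : Nontrivial R := (Subgroup.nontrivial_iff_ne_bot R).2 hne
  have h2 : Nat.card R = 2 := le_antisymm h (Finite.one_lt_card)
  obtain ⟨t, ht⟩ := exists_prime_orderOf_dvd_card' (G := R) 2 (by rw [h2])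
  have ht2 : orderOf ((t : ↥(centralizer ({w} : Set G))) : G) = 2 := by
    rw [orderOf_coe, orderOf_coe]
    exact ht
  apply hinv _ ht2
  apply card_dvd_of_le
  intro c hc
  rw [mem_centralizer_singleton_iff]
  have hn : R.Normal := Lib.Cores.pCore_normal 2
  have h3 : (⟨c, hc⟩ : ↥(centralizer ({w} : Set G))) * t * (⟨c, hc⟩ : ↥(centralizer ({w} : Set G)))⁻¹ ∈ R :=
    hn.conj_mem _ t.2 _
  have h4 : ∀ x : R, x = 1 ∨ x = t := by
    have h5 : ((Set.univ : Set R)).ncard = 2 := by rw [Set.ncard_univ, h2]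
    have h6 : ({1, t} : Set R).ncard = 2 := by
      rw [Set.ncard_pair]
      rintro rfl
      rw [orderOf_one] at ht
      norm_num at ht
    have h7 : ({1, t} : Set R) = Set.univ :=
      Set.eq_of_subset_of_ncard_le (Set.subset_univ _) (by rw [h5, h6]) (Set.toFinite _)
    intro x
    have h8 : x ∈ ({1, t} : Set R) := by rw [h7]; exact Set.mem_univ x
    exact h8
  rcases h4 ⟨_, h3⟩ with h5 | h5
  · exfalso
    have h6 := congrArg Subtype.val h5
    have h7 : (t : ↥(centralizer ({w} : Set G))) = 1 := by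
      have h8 : (⟨c, hc⟩ : ↥(centralizer ({w} : Set G))) * t * (⟨c, hc⟩ : ↥(centralizer ({w} : Set G)))⁻¹ = 1 := h6
      rwa [conj_eq_one_iff] at h8
    rw [h7] at ht2
    norm_num at ht2
  · have h6 := congrArg Subtype.val h5
    have h7 : (⟨c, hc⟩ : ↥(centralizer ({w} : Set G))) * t * (⟨c, hc⟩ : ↥(centralizer ({w} : Set G)))⁻¹ = t := h6
    have h8 := congrArg Subtype.val (mul_inv_eq_iff_eq_mul.1 h7)
    exact h8

end Core

end Cfsg.Agent.H305.WkTools
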