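import Cfsg.Agent.H301.SY.Spor
import Cfsg.Agent.KFacts.QMinus

/-!
# S3846: tools for the sporadic rows (helper305)

* `m0_of_chk` : `M0 x` by the orders of the primes (a numerical check);
* `not_dvd_radIn_of_simple` : the radical of `M` has order prime to `p` if `M` has a normal simple non-abelian
  subgroup of index prime to `p`;
* `not_five_dvd_model` : the radical of `2^{1+4}.A₅`.
-/

set_option autoImplicit false
set_option linter.style.haveILetI false
set_option linter.unusedSectionVars false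

namespace Cfsg.Agent.H305.YTools

open Subgroup Cfsg.Agent.H301.SY Cfsg.Agent.H459.Rad Cfsg.Agent.SignalizersComponents.ComponentExists

/-- the numerical condition: no prime `t ∣ p - 1` has a power `t ^ i ∣ n`, `i > 0`, with `p ∣ t ^ i - 1` -/
def Ord (p n : ℕ) : Prop :=
  ∀ t ∈ (p - 1).primeFactors, ∀ i ∈ Finset.Icc 1 (Nat.log 2 n), n % t ^ i = 0 → t ^ i % p ≠ 1 % p

instance (p n : ℕ) : Decidable (Ord p n) := inferInstanceAs (Decidable (∀ _, _))

theorem Ord.not {p n : ℕ} (h : Ord p n) (hn : n ≠ 0) (hp : 2 < p) {t : ℕ} (ht : t.Prime) (htd : t ∣ p - 1) {i : ℕ}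
    (hi : 0 < i) (hti : t ^ i ∣ n) : ¬ t ^ i ≡ 1 [MOD p] := by
  refine h t (Nat.mem_primeFactors.2 ⟨ht, htd, by omega⟩) i (Finset.mem_Icc.2 ⟨hi, ?_⟩) (Nat.mod_eq_zero_of_dvd hti)
  refine Nat.le_log_of_pow_le (by norm_num) ?_
  exact (Nat.pow_le_pow_left ht.two_le i).trans (Nat.le_of_dvd (Nat.pos_of_ne_zero hn) hti)

variable {K : Type*} [Group K] [Finite K]

/-- `M0 x` by the orders of the primes -/
theorem m0_of_chk {p n : ℕ} [Fact p.Prime] (hK : Nat.card K = n) (hp : 2 < p) (h : Ord p n)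
    (hcyc : ∀ P : Sylow p K, IsCyclic (P : Subgroup K)) (hb : Blk p K) {x : K} (hx : orderOf x = p) (hY : YE p x) :
    M0 x := by
  subst hK
  exact M0.of_triv_blk hcyc hb hx hY fun t ht htp htd R hRt hxR =>
    centralises_of_card hx ht htp (fun i hi h1 => h.not Nat.card_pos.ne' hp ht htd hi h1) hRt hxR

/-- the row for one prime by the orders of the primes -/
theorem noE_of_chk [IsSimpleGroup K] (hna : ¬ IsMulCommutative K) {p n : ℕ} [Fact p.Prime] (hK : Nat.card K = n)
    (hp : 2 < p) (h2 : ¬ n % (p * p) = 0) (h : Ord p n) (hb : Blk p K) : NoE p K := by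
  have hcyc : ∀ P : Sylow p K, IsCyclic (P : Subgroup K) := cyclic_of_card (by
    rw [hK, pow_two]
    intro h1
    exact h2 (Nat.mod_eq_zero_of_dvd h1))
  exact NoE.of_m0 hna hcyc fun x hx _ hY => m0_of_chk hK hp h hcyc hb hx hY

/-- no element of order `p` -/
theorem noE_of_not_dvd {p n : ℕ} (hK : Nat.card K = n) (h : ¬ p ∣ n) : NoE p K := by
  intro x hx _ _
  apply h
  rw [← hK, ← hx]
  exact orderOf_dvd_natCard x

theorem noE_of_mem_primeFactors {p n : ℕ} [hp : Fact p.Prime] (hK : Nat.card K = n)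
    (h : p ∈ n.primeFactors → NoE p K) : NoE p K := by
  by_cases hd : p ∣ n
  · exact h (Nat.mem_primeFactors.2 ⟨hp.out, hd, by rw [← hK]; exact Nat.card_pos.ne'⟩)
  · exact noE_of_not_dvd hK hd

/-- a solvable simple group is commutative -/
theorem comm_of_solvable {S : Type*} [Group S] [IsSimpleGroup S] (h : Group.IsSolvable S) : IsMulCommutative S := by
  haveI : Group.IsSolvable S := h
  exact ⟨⟨(IsSimpleGroup.comm_iff_isSolvable (G := S)).2 inferInstance⟩⟩

/-- a solvable subgroup which is normalised by the simple group `S` meets `S` trivially -/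
theorem inf_eq_bot {S R : Subgroup K} [IsSimpleGroup S] (hna : ¬ IsMulCommutative S) (hR : Group.IsSolvable R)
    (hn : ∀ s ∈ S, ∀ r ∈ R, s * r * s⁻¹ ∈ R) : R ⊓ S = ⊥ := by
  have h1 : (R.subgroupOf S).Normal := ⟨fun r hr s => mem_subgroupOf.2 (hn s s.2 r (mem_subgroupOf.1 hr))⟩
  rcases h1.eq_bot_or_eq_top with h2 | h2
  · rwa [subgroupOf_eq_bot, disjoint_iff] at h2
  · exfalso
    apply hna
    rw [subgroupOf_eq_top] at h2
    exact comm_of_solvable (Group.isSolvable_of_isSolvable_injective (f := inclusion h2) (inclusion_injective h2))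

/-- the radical of `M` has order prime to `p` if `M` has a normal simple non-abelian subgroup of index prime to `p` -/
theorem not_dvd_radIn_of_simple {p : ℕ} [hp : Fact p.Prime] {M S : Subgroup K} (hSM : S ≤ M)
    (hn : ∀ m ∈ M, ∀ s ∈ S, m * s * m⁻¹ ∈ S) [IsSimpleGroup S] (hna : ¬ IsMulCommutative S)
    (hi : ¬ p ∣ S.relIndex M) : ¬ p ∣ Nat.card (radIn M) := by
  intro hd
  have h0 : radIn M ⊓ S = ⊥ := inf_eq_bot hna (radIn_solvable M) fun s hs r hr => radIn_conj_mem (hSM hs) hr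
  obtain ⟨r, hr⟩ := exists_prime_orderOf_dvd_card' (G := radIn M) p hd
  have hr' : orderOf (r : K) = p := by rw [Subgroup.orderOf_coe, hr]
  have hrM : (r : K) ∈ M := radIn_le M r.2
  haveI : (S.subgroupOf M).Normal := ⟨fun s hs m => mem_subgroupOf.2 (hn m m.2 s (mem_subgroupOf.1 hs))⟩
  have h1 : (QuotientGroup.mk' (S.subgroupOf M) ⟨r, hrM⟩) ^ p = 1 := by
    rw [← map_pow]
    have : (⟨(r : K), hrM⟩ : M) ^ p = 1 := by
      apply Subtype.ext
      change (r : K) ^ p = 1
      rw [← hr', pow_orderOf_eq_one]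
    rw [this, map_one]
  have h2 : QuotientGroup.mk' (S.subgroupOf M) ⟨r, hrM⟩ ≠ 1 := by
    intro h3
    have h4 : (r : K) ∈ S :=
      mem_subgroupOf.1 ((QuotientGroup.eq_one_iff (N := S.subgroupOf M) (⟨r, hrM⟩ : M)).1 h3)
    have h5 : (r : K) ∈ radIn M ⊓ S := ⟨r.2, h4⟩
    rw [h0, mem_bot] at h5
    rw [h5, orderOf_one] at hr'
    exact hp.out.one_lt.ne hr'
  apply hi
  have h3 := orderOf_eq_prime h1 h2
  rw [relIndex, index_eq_card, ← h3]
  exact orderOf_dvd_natCard _

/-- the radical of a conjugate centralizer -/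
theorem card_radIn_centralizer_conj (g u : K) : Nat.card (radIn (centralizer ({g * u * g⁻¹} : Set K))) =
    Nat.card (radIn (centralizer ({u} : Set K))) := by
  have h1 : centralizer ({g * u * g⁻¹} : Set K) =
      (centralizer ({u} : Set K)).map (MulAut.conj g).toMonoidHom := by
    ext x
    rw [mem_centralizer_singleton_iff]
    constructor
    · intro hx
      refine ⟨g⁻¹ * x * g, ?_, by change g * (g⁻¹ * x * g) * g⁻¹ = x; group⟩
      rw [SetLike.mem_coe, mem_centralizer_singleton_iff]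
      calc g⁻¹ * x * g * u = g⁻¹ * (x * (g * u * g⁻¹)) * g := by group
        _ = g⁻¹ * ((g * u * g⁻¹) * x) * g := by rw [hx]
        _ = u * (g⁻¹ * x * g) := by group
    · rintro ⟨y, hy, rfl⟩
      rw [SetLike.mem_coe, mem_centralizer_singleton_iff] at hy
      change g * y * g⁻¹ * (g * u * g⁻¹) = (g * u * g⁻¹) * (g * y * g⁻¹)
      calc g * y * g⁻¹ * (g * u * g⁻¹) = g * (y * u) * g⁻¹ := by group
        _ = g * (u * y) * g⁻¹ := by rw [hy]
        _ = _ := by group
  rw [h1, radIn_conj, Subgroup.card_map_of_injective (MulAut.conj g).injective]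

open Cfsg.Agent.J2Type.Model in
/-- the radical of `2^{1+4}.A₅` has order prime to 5 -/
theorem not_five_dvd_model {C : Type*} [Group C] [Finite C] {Q : Subgroup C} {z : C} {v : Fin 5 → C} {ρ : C →* SP}
    (M : IsModel Q z v ρ) (hQ : ¬ 5 ∣ Nat.card Q) {N : Subgroup C} (hs : Group.IsSolvable N)
    (hn : ∀ c, ∀ n ∈ N, c * n * c⁻¹ ∈ N) : ¬ 5 ∣ Nat.card N := by
  set f := Cfsg.Agent.KFacts.QMinus.permHom ρ with hf
  have hr := Cfsg.Agent.KFacts.QMinus.range_permHom M
  haveI hsimp : IsSimpleGroup (alternatingGroup (Fin 5)) := alternatingGroup.isSimpleGroup (by simp)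
  have hna : ¬ IsMulCommutative (alternatingGroup (Fin 5)) := by
    intro h
    have h1 := h.is_comm.comm
    revert h1
    decide +kernel
  have h0 : N.map f ⊓ alternatingGroup (Fin 5) = ⊥ := by
    refine inf_eq_bot hna (isSolvable_map hs f) ?_
    rintro s hs' _ ⟨n, hn', rfl⟩
    rw [← hr] at hs'
    obtain ⟨c, rfl⟩ := hs'
    exact ⟨c * n * c⁻¹, hn c n hn', by rw [map_mul, map_mul, map_inv]⟩
  have hle : N ≤ Q := by
    intro c hc
    rw [M.mem_Q]
    have h1 : f c ∈ N.map f := ⟨c, hc, rfl⟩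
    have h2 : f c ∈ alternatingGroup (Fin 5) := by rw [← hr]; exact ⟨c, rfl⟩
    have h3 : f c ∈ N.map f ⊓ alternatingGroup (Fin 5) := ⟨h1, h2⟩
    rw [h0, mem_bot] at h3
    exact h3
  intro h5
  exact hQ (h5.trans (card_dvd_of_le hle))

end Cfsg.Agent.H305.YTools
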